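import Groth.Agent.AffLim.Props

/-!
# Integral and reduced limits; maximal points

S4776, S4782, S4783, S5106, S5110.
-/

universe u

open CategoryTheory Limits AlgebraicGeometry

noncomputable section

set_option backward.isDefEq.respectTransparency false
set_option backward.defeqAttrib.useBackward true

namespace Groth.Agent.AffLim

variable {I : Type u} [SmallCategory I] (D : I ⥤ Scheme.{u}) (c : Cone D) (hc : IsLimit c)
  [IsCofiltered I] [∀ {i j} (f : i ⟶ j), IsAffineHom (D.map f)]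

include hc in
lemma isReduced_of_eventually {i : I} (h : ∀ (j : I) (_ : j ⟶ i), IsReduced (D.obj j)) :
    IsReduced c.pt := by
  refine isReduced_of_forall_exists D c hc fun k => ?_
  obtain ⟨j, p, q, -⟩ := IsCofilteredOrEmpty.cone_objs k i
  exact ⟨j, p, h j q⟩

include hc in
/-- S4776 -/
lemma isIntegral_iff_of_flat_surjective (i₀ : I) [CompactSpace (D.obj i₀)]
    (hf : ∀ (i j : I) (φ : i ⟶ j), Flat (D.map φ) ∧ Surjective (D.map φ)) :
    IsIntegral c.pt ↔
      ∃ (i : I) (_ : i ⟶ i₀), ∀ (j : I) (_ : j ⟶ i), IsIntegral (D.obj j) := by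
  have hd : ∀ (i j : I) (φ : i ⟶ j), IsDominant (D.map φ) := fun i j φ => by
    have := (hf i j φ).2; infer_instance
  constructor
  · intro h
    obtain ⟨i, hi, hir⟩ := (irreducibleSpace_iff D c hc i₀ hd).mp inferInstance
    refine ⟨i, hi, fun j f => ?_⟩
    have := hir j f
    have : IsReduced (D.obj j) := (isReduced_iff D c hc hf).mp inferInstance j
    exact isIntegral_of_irreducibleSpace_of_isReduced _
  · rintro ⟨i, hi, h⟩
    have : IrreducibleSpace c.pt :=
      (irreducibleSpace_iff D c hc i₀ hd).mpr ⟨i, hi, fun j f => have := h j f; inferInstance⟩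
    have : IsReduced c.pt := isReduced_of_eventually D c hc fun j f => have := h j f; inferInstance
    exact isIntegral_of_irreducibleSpace_of_isReduced _

/-- Every point is a specialization of a maximal point. -/
lemma exists_maximal_specializes {X : Scheme.{u}} (x : X) :
    ∃ z : X, z ⤳ x ∧ ∀ w, w ⤳ z → w = z := by
  have hirr : IsIrreducible (irreducibleComponent x) := isIrreducible_irreducibleComponent
  have hcl : closure ({hirr.genericPoint} : Set X) = irreducibleComponent x :=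
    hirr.isGenericPoint_genericPoint isClosed_irreducibleComponent
  refine ⟨hirr.genericPoint, specializes_iff_mem_closure.mpr
    (hcl.symm ▸ mem_irreducibleComponent), fun w hw => ?_⟩
  have h1 : irreducibleComponent x ⊆ closure {w} :=
    hcl ▸ specializes_iff_closure_subset.mp hw
  have h2 := eq_irreducibleComponent isIrreducible_singleton.closure.isPreirreducible h1
  have h3 : w ∈ closure ({hirr.genericPoint} : Set X) := hcl.ge (h2.le (subset_closure rfl))
  exact (hw.antisymm (specializes_iff_mem_closure.mpr h3)).eq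

include hc in
lemma specializes_of_π {x y : c.pt} (h : ∀ i, c.π.app i x ⤳ c.π.app i y) : x ⤳ y := by
  rw [specializes_iff_forall_open]
  intro U hU hy
  obtain ⟨i, V, -, hyV, hVU⟩ := exists_affine_preimage_subset D c hc hU hy
  exact hVU ((h i).mem_open V.2 hyV)

include hc in
/-- S5106 -/
lemma isMaximalPoint_iff
    (hfin : ∀ i : I, {s : ↥(D.obj i) | ∀ z : ↥(D.obj i), z ⤳ s → z = s}.Finite)
    (hsys : ∀ (i j : I) (g : i ⟶ j) (s : ↥(D.obj i)), (∀ z : ↥(D.obj i), z ⤳ s → z = s) →
      ∀ z : ↥(D.obj j), z ⤳ D.map g s → z = D.map g s)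
    (s : c.pt) :
    (∀ z : c.pt, z ⤳ s → z = s) ↔ ∀ (i : I) (z : D.obj i), z ⤳ c.π.app i s → z = c.π.app i s := by
  refine ⟨fun h => ?_, fun h z hz =>
    eq_of_π_eq D c hc fun i => h i _ (hz.map (c.π.app i).continuous)⟩
  let T : ∀ i, Set (D.obj i) :=
    fun i => {z | (∀ w : D.obj i, w ⤳ z → w = z) ∧ z ⤳ c.π.app i s}
  have hT : ∀ {i j : I} (g : i ⟶ j) (z : D.obj i), z ∈ T i → D.map g z ∈ T j := by
    intro i j g z hz
    refine ⟨hsys i j g z hz.1, ?_⟩
    rw [← congr($(c.w g) s)]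
    exact hz.2.map (D.map g).continuous
  let F : I ⥤ Type u :=
    { obj := fun i => T i
      map := fun {i j} g => TypeCat.ofHom fun z => (⟨D.map g z.1, hT g z.1 z.2⟩ : T j)
      map_id := fun i => by ext z; simp
      map_comp := fun f g => by ext z; simp }
  have : ∀ i, Finite (F.obj i) := fun i =>
    ((hfin i).subset fun z (hz : z ∈ T i) => hz.1).to_subtype
  have : ∀ i, Nonempty (F.obj i) := fun i => by
    obtain ⟨z, hz, hz'⟩ := exists_maximal_specializes (c.π.app i s)
    exact ⟨⟨z, hz', hz⟩⟩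
  obtain ⟨σ, hσ⟩ := nonempty_sections_of_finite_cofiltered_system F
  obtain ⟨x, hx⟩ := exists_point D c hc (fun i => (σ i).1)
    (fun {i j} g => congrArg Subtype.val (hσ g))
  obtain rfl := h x (specializes_of_π D c hc fun i => by rw [hx i]; exact (σ i).2.2)
  intro i
  rw [hx i]
  exact (σ i).2.1

/-- A dense open contains the maximal points and conversely. -/
lemma dense_iff_maximal_mem {X : Scheme.{u}} (U : X.Opens) :
    Dense (U : Set X) ↔ ∀ z : X, (∀ w, w ⤳ z → w = z) →
      z ∈ closure (U : Set X) := by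
  refine ⟨fun h z _ => h z, fun h x => ?_⟩
  obtain ⟨z, hz, hz'⟩ := exists_maximal_specializes x
  exact hz.mem_closed isClosed_closure (h z hz')

/-- A maximal point lying in the closure of an open lies in the open, if there are only finitely
many maximal points. -/
lemma maximal_mem_of_mem_closure {X : Scheme.{u}} (U : X.Opens)
    (hfin : {s : X | ∀ z : X, z ⤳ s → z = s}.Finite) {z : X} (hz : ∀ w, w ⤳ z → w = z)
    (hzU : z ∈ closure (U : Set X)) : z ∈ U := by
  let M := {s : X | (∀ w : X, w ⤳ s → w = s) ∧ s ∈ U}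
  have hM : M.Finite := hfin.subset fun s hs => hs.1
  have h : (U : Set X) ⊆ closure M := fun x hx => by
    obtain ⟨y, hy, hy'⟩ := exists_maximal_specializes x
    exact hy.mem_closed isClosed_closure (subset_closure ⟨hy', hy.mem_open U.2 hx⟩)
  have h2 : z ∈ closure M := closure_minimal h isClosed_closure hzU
  rw [← Set.biUnion_of_singleton M, hM.closure_biUnion] at h2
  obtain ⟨m, hm, hzm⟩ := Set.mem_iUnion₂.mp h2
  exact hz m (specializes_iff_mem_closure.mpr hzm) ▸ hm.2

include hc in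
/-- S5110 -/
lemma dense_preimage
    (hfin : ∀ i : I, {s : ↥(D.obj i) | ∀ z : ↥(D.obj i), z ⤳ s → z = s}.Finite)
    (hsys : ∀ (i j : I) (g : i ⟶ j) (s : ↥(D.obj i)), (∀ z : ↥(D.obj i), z ⤳ s → z = s) →
      ∀ z : ↥(D.obj j), z ⤳ D.map g s → z = D.map g s)
    (i₀ : I) (V : (D.obj i₀).Opens) :
    (Dense (V : Set (D.obj i₀)) →
      (∀ (i : I) (g : i ⟶ i₀), Dense ((D.map g ⁻¹ᵁ V : (D.obj i).Opens) : Set (D.obj i))) ∧
        Dense ((c.π.app i₀ ⁻¹ᵁ V : c.pt.Opens) : Set c.pt)) ∧
    (Dense ((c.π.app i₀ ⁻¹ᵁ V : c.pt.Opens) : Set c.pt) →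
      {s : ↥c.pt | ∀ z : ↥c.pt, z ⤳ s → z = s}.Finite →
        ∃ (i : I) (g : i ⟶ i₀), Dense ((D.map g ⁻¹ᵁ V : (D.obj i).Opens) : Set (D.obj i))) := by
  constructor
  · intro h
    have hV : ∀ z : D.obj i₀, (∀ w, w ⤳ z → w = z) → z ∈ V := fun z hz =>
      maximal_mem_of_mem_closure V (hfin i₀) hz (h z)
    constructor
    · intro i g
      rw [dense_iff_maximal_mem]
      exact fun z hz => subset_closure (hV _ (hsys i i₀ g z hz))
    · rw [dense_iff_maximal_mem]
      exact fun z hz => subset_closure (hV _ ((isMaximalPoint_iff D c hc hfin hsys z).mp hz i₀))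
  · intro h hc_fin
    by_contra! H
    let T : ∀ j : Over i₀, Set (D.obj j.left) :=
      fun j => {z | (∀ w : D.obj j.left, w ⤳ z → w = z) ∧ D.map j.hom z ∉ V}
    have hT : ∀ {j k : Over i₀} (g : j ⟶ k) (z : D.obj j.left),
        z ∈ T j → D.map g.left z ∈ T k := by
      intro j k g z hz
      refine ⟨hsys _ _ g.left z hz.1, ?_⟩
      rw [← Scheme.Hom.comp_apply, ← D.map_comp, Over.w g]
      exact hz.2
    let F : Over i₀ ⥤ Type u :=
      { obj := fun j => T j
        map := fun {j k} g => TypeCat.ofHom fun z => (⟨D.map g.left z.1, hT g z.1 z.2⟩ : T k)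
        map_id := fun j => by ext z; simp
        map_comp := fun f g => by ext z; simp }
    have : ∀ j, Finite (F.obj j) := fun j =>
      ((hfin j.left).subset fun z (hz : z ∈ T j) => hz.1).to_subtype
    have : ∀ j, Nonempty (F.obj j) := fun j => by
      have := H j.left j.hom
      rw [dense_iff_maximal_mem] at this
      push Not at this
      obtain ⟨z, hz, hz'⟩ := this
      exact ⟨⟨z, hz, fun hzV => hz' (subset_closure hzV)⟩⟩
    obtain ⟨σ, hσ⟩ := nonempty_sections_of_finite_cofiltered_system F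
    have : ∀ {j k : Over i₀} (f : j ⟶ k), IsAffineHom ((Over.forget i₀ ⋙ D).map f) := fun f => by
      dsimp; infer_instance
    obtain ⟨x, hx⟩ := exists_point (Over.forget i₀ ⋙ D) _
      ((Functor.Initial.isLimitWhiskerEquiv (Over.forget i₀) c).symm hc) (fun j => (σ j).1)
      (fun {j k} g => congrArg Subtype.val (hσ g))
    have hxmax : ∀ w : c.pt, w ⤳ x → w = x := by
      refine (isMaximalPoint_iff D c hc hfin hsys x).mpr fun i => ?_
      obtain ⟨j, p, q, -⟩ := IsCofilteredOrEmpty.cone_objs i i₀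
      have hxj : c.π.app j x = (σ (Over.mk q)).1 := hx (Over.mk q)
      rw [← congr($(c.w p) x)]
      change ∀ z, z ⤳ D.map p (c.π.app j x) → z = D.map p (c.π.app j x)
      rw [hxj]
      exact hsys j i p _ (σ (Over.mk q)).2.1
    have hxV : x ∈ c.π.app i₀ ⁻¹ᵁ V :=
      maximal_mem_of_mem_closure _ hc_fin hxmax (h x)
    refine (σ (Over.mk (𝟙 i₀))).2.2 ?_
    rw [← hx (Over.mk (𝟙 i₀))]
    simpa using hxV

include hc in
/-- S4782 -/
lemma isReduced_iff_of_isOpenImmersion (i₀ : I) [CompactSpace (D.obj i₀)]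
    (hoi : ∀ (i j : I) (φ : i ⟶ j), IsOpenImmersion (D.map φ))
    (hN : ∀ U : (D.obj i₀).affineOpens, (nilradical Γ(D.obj i₀, U)).FG) :
    IsReduced c.pt ↔
      ∃ (i : I) (_ : i ⟶ i₀), ∀ (j : I) (_ : j ⟶ i), IsReduced (D.obj j) := by
  refine ⟨fun h => ?_, fun ⟨i, _, h⟩ => isReduced_of_eventually D c hc h⟩
  -- a stage over which the nilradical of `U` vanishes on the preimage of `U`
  let P : (D.obj i₀).Opens → Prop := fun S => ∃ (j : I) (φ : j ⟶ i₀),
    ∀ y : D.obj j, D.map φ y ∈ S → _root_.IsReduced ((D.obj j).presheaf.stalk y)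
  suffices P ⊤ by
    obtain ⟨j, φ, hj⟩ := this
    have : ∀ y : D.obj j, _root_.IsReduced ((D.obj j).presheaf.stalk y) := fun y => hj y trivial
    have : IsReduced (D.obj j) := isReduced_of_isReduced_stalk _
    exact ⟨j, φ, fun k f => have := hoi k j f; isReduced_of_isOpenImmersion (D.map f)⟩
  refine compact_open_induction_on (P := P) ⊤ isCompact_univ
    ⟨i₀, 𝟙 _, fun y hy => hy.elim⟩ fun S _ U hS => ?_
  obtain ⟨j₁, φ₁, h₁⟩ := hS
  obtain ⟨t, ht⟩ := hN U
  have hkill : ∀ s : Finset Γ(D.obj i₀, U.1), (∀ r ∈ s, IsNilpotent r) →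
      ∃ (j : I) (φ : j ⟶ i₀), ∀ r ∈ s, (D.map φ).app U.1 r = 0 := by
    intro s
    induction s using Finset.cons_induction with
    | empty => exact fun _ => ⟨i₀, 𝟙 _, fun r hr => absurd hr (Finset.notMem_empty r)⟩
    | cons r s _ ih =>
      intro hs
      obtain ⟨j, φ, hj⟩ := ih (fun r' hr' => hs r' (Finset.mem_cons_of_mem hr'))
      have h0 : (c.π.app i₀).app U.1 r = 0 := by
        have : IsReduced (((Functor.const I).obj c.pt).obj i₀) := h
        exact ((hs r (Finset.mem_cons_self r s)).map _).eq_zero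
      obtain ⟨k, ψ, hk⟩ := exists_app_map_eq_zero_of_isLimit D c hc U.2.isCompact r h0
      obtain ⟨l, a, b, e⟩ := IsCofiltered.cospan φ ψ
      refine ⟨l, a ≫ φ, fun r' hr' => ?_⟩
      have key : ∀ {m : I} (a : l ⟶ m) (φ : m ⟶ i₀),
          (D.map φ).app U.1 r' = 0 → (D.map (a ≫ φ)).app U.1 r' = 0 := by
        intro m a φ hm
        rw [Scheme.Hom.congr_app (D.map_comp a φ) U.1, Scheme.Hom.comp_app]
        simp only [ConcreteCategory.comp_apply, hm, map_zero]
      rcases Finset.mem_cons.mp hr' with rfl | hr'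
      · rw [e]; exact key b ψ hk
      · exact key a φ (hj r' hr')
  have hnil : ∀ r ∈ t, IsNilpotent r := fun r hr => by
    rw [← mem_nilradical, ← ht]
    exact Ideal.subset_span hr
  obtain ⟨j₂, φ₂, h₂⟩ := hkill t hnil
  obtain ⟨j, a, b, e⟩ := IsCofiltered.cospan φ₁ φ₂
  refine ⟨j, a ≫ φ₁, fun y hy => ?_⟩
  rcases hy with hy | hy
  · have := hoi j j₁ a
    rw [D.map_comp] at hy
    have := h₁ (D.map a y) hy
    exact isReduced_of_injective ((asIso ((D.map a).stalkMap y)).commRingCatIsoToRingEquiv.symm)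
      (RingEquiv.injective _)
  · let ψ := D.map (a ≫ φ₁)
    have := hoi j i₀ (a ≫ φ₁)
    have hy' : ψ y ∈ U.1 := hy
    have hvan : ∀ r ∈ nilradical Γ(D.obj i₀, U.1), ψ.app U.1 r = 0 := by
      intro r hr
      suffices nilradical Γ(D.obj i₀, U.1) ≤ RingHom.ker (ψ.app U.1).hom from this hr
      rw [← ht, Submodule.span_le]
      intro r hr
      change ψ.app U.1 r = 0
      rw [Scheme.Hom.congr_app (show D.map (a ≫ φ₁) = D.map b ≫ D.map φ₂ by rw [e, D.map_comp])
        U.1, Scheme.Hom.comp_app]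
      simp only [ConcreteCategory.comp_apply, h₂ r hr, map_zero]
    refine ⟨fun α ⟨n, hn⟩ => ?_⟩
    obtain ⟨β, rfl⟩ := (asIso (ψ.stalkMap y)).commRingCatIsoToRingEquiv.surjective α
    change ψ.stalkMap y β = 0
    have hβ : β ^ (n + 1) = 0 := by
      refine (asIso (ψ.stalkMap y)).commRingCatIsoToRingEquiv.injective ?_
      rw [map_pow, pow_succ, hn, zero_mul, map_zero]
    let := TopCat.Presheaf.algebra_section_stalk (D.obj i₀).presheaf (⟨ψ y, hy'⟩ : U.1)
    have := U.2.isLocalization_stalk ⟨ψ y, hy'⟩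
    obtain ⟨⟨r, s⟩, hrs⟩ := IsLocalization.surj
      (U.2.primeIdealOf ⟨ψ y, hy'⟩).asIdeal.primeCompl β
    have hr0 : algebraMap Γ(D.obj i₀, U.1) _ (r ^ (n + 1)) =
        (0 : (D.obj i₀).presheaf.stalk (ψ y)) := by
      rw [map_pow, ← hrs, mul_pow, hβ, zero_mul]
    obtain ⟨s', hs'⟩ := (IsLocalization.map_eq_zero_iff
      (U.2.primeIdealOf ⟨ψ y, hy'⟩).asIdeal.primeCompl _ _).mp hr0
    have hmem : (s' : Γ(D.obj i₀, U.1)) * r ∈ nilradical Γ(D.obj i₀, U.1) :=
      mem_nilradical.mpr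
        ⟨n + 1, by rw [mul_pow, pow_succ (s' : Γ(D.obj i₀, U.1)) n, mul_assoc, hs', mul_zero]⟩
    have h0 := congr((D.obj j).presheaf.germ (ψ ⁻¹ᵁ U.1) y hy' $(hvan _ hmem))
    rw [map_zero, ← Scheme.Hom.germ_stalkMap_apply, map_mul, map_mul] at h0
    have hu : IsUnit (ψ.stalkMap y (algebraMap Γ(D.obj i₀, U.1) _ (s' : Γ(D.obj i₀, U.1)))) :=
      (IsLocalization.map_units _ s').map _
    have hu' : IsUnit (ψ.stalkMap y (algebraMap Γ(D.obj i₀, U.1) _ (s : Γ(D.obj i₀, U.1)))) :=
      (IsLocalization.map_units _ s).map _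
    have hr : ψ.stalkMap y (algebraMap Γ(D.obj i₀, U.1) _ r) = 0 := hu.mul_right_eq_zero.mp h0
    refine hu'.mul_left_eq_zero.mp ?_
    rw [← map_mul, hrs, hr]

/-- A point of a locally noetherian scheme whose local ring is a domain has an open integral
neighbourhood. -/
lemma exists_isIntegral_nhd {X : Scheme.{u}} [IsLocallyNoetherian X] (x : X)
    [IsDomain (X.presheaf.stalk x)] :
    ∃ W : X.Opens, x ∈ W ∧ IsIntegral W.toScheme := by
  obtain ⟨_, ⟨U, hU : IsAffineOpen U, rfl⟩, hxU, -⟩ :=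
    X.isBasis_affineOpens.exists_subset_of_mem_open (Set.mem_univ x) isOpen_univ
  have : IsNoetherianRing Γ(X, U) := IsLocallyNoetherian.component_noetherian ⟨U, hU⟩
  let := TopCat.Presheaf.algebra_section_stalk X.presheaf (⟨x, hxU⟩ : U)
  have := hU.isLocalization_stalk ⟨x, hxU⟩
  obtain ⟨t, ht⟩ := (IsNoetherian.noetherian
    (RingHom.ker (algebraMap Γ(X, U) (X.presheaf.stalk x))) : Submodule.FG _)
  have hex : ∀ n ∈ t, ∃ f : (hU.primeIdealOf ⟨x, hxU⟩).asIdeal.primeCompl,
      (f : Γ(X, U)) * n = 0 := fun n hn => by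
    have : n ∈ RingHom.ker (algebraMap Γ(X, U) (X.presheaf.stalk x)) :=
      ht.le (Ideal.subset_span hn)
    exact (IsLocalization.map_eq_zero_iff (hU.primeIdealOf ⟨x, hxU⟩).asIdeal.primeCompl
      (X.presheaf.stalk x) n).mp this
  choose f hf using hex
  let g : (hU.primeIdealOf ⟨x, hxU⟩).asIdeal.primeCompl := ∏ n ∈ t.attach, f n.1 n.2
  have hg : ∀ r ∈ RingHom.ker (algebraMap Γ(X, U) (X.presheaf.stalk x)),
      (g : Γ(X, U)) * r = 0 := by
    intro r hr
    suffices RingHom.ker (algebraMap Γ(X, U) (X.presheaf.stalk x)) ≤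
        LinearMap.ker (LinearMap.mulLeft Γ(X, U) (g : Γ(X, U))) from this hr
    rw [← ht, Submodule.span_le]
    intro n hn
    change (g : Γ(X, U)) * n = 0
    obtain ⟨c, hc⟩ : f n hn ∣ g := Finset.dvd_prod_of_mem (fun m : t => f m.1 m.2)
      (Finset.mem_attach t ⟨n, hn⟩)
    rw [hc, Submonoid.coe_mul, mul_assoc, mul_comm (c : Γ(X, U)), ← mul_assoc, hf, zero_mul]
  have hxW : x ∈ X.basicOpen (g : Γ(X, U)) := by
    rw [X.mem_basicOpen _ x hxU]
    exact IsLocalization.map_units (X.presheaf.stalk x) g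
  let W := X.basicOpen (g : Γ(X, U))
  have hW : IsAffineOpen W := hU.basicOpen _
  have := hU.isLocalization_basicOpen (g : Γ(X, U))
  have hinj : Function.Injective (X.presheaf.germ W x hxW) := by
    rw [injective_iff_map_eq_zero]
    intro a ha
    obtain ⟨⟨r, ⟨_, m, rfl⟩⟩, hrs⟩ :=
      IsLocalization.surj (Submonoid.powers (g : Γ(X, U))) a
    have hr : algebraMap Γ(X, U) (X.presheaf.stalk x) r = 0 := by
      change X.presheaf.germ U x hxU r = 0
      rw [← X.presheaf.germ_res_apply (homOfLE (X.basicOpen_le _)) x hxW]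
      refine (congrArg (X.presheaf.germ W x hxW) hrs).symm.trans ?_
      rw [map_mul, ha, zero_mul]
    have h0 : algebraMap Γ(X, U) Γ(X, W) r = 0 :=
      (IsLocalization.map_eq_zero_iff (Submonoid.powers (g : Γ(X, U))) _ _).mpr
        ⟨⟨_, 1, rfl⟩, by simpa using hg r hr⟩
    rw [h0] at hrs
    exact (IsLocalization.map_units Γ(X, W) (⟨_, m, rfl⟩ :
      Submonoid.powers (g : Γ(X, U)))).mul_left_eq_zero.mp hrs
  refine ⟨W, hxW, ?_⟩
  have : IsDomain Γ(X, W) := hinj.isDomain (X.presheaf.germ W x hxW).hom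
  have : IsAffine W.toScheme := hW
  have : Nonempty W.toScheme := ⟨⟨x, hxW⟩⟩
  have : IsDomain Γ(W.toScheme, ⊤) :=
    W.topIso.commRingCatIsoToRingEquiv.toMulEquiv.isDomain
  exact isIntegral_of_isAffine_of_isDomain _

/-- An open covered by integral opens with a common point is integral. -/
lemma isIntegral_iSup {X : Scheme.{u}} {ι : Type u} (W : ι → X.Opens)
    (hW : ∀ k, IsIntegral (W k).toScheme) (ξ : X) (hξ : ∀ k, ξ ∈ W k) [Nonempty ι] :
    IsIntegral (⨆ k, W k : X.Opens).toScheme := by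
  have hirr : ∀ k, IsPreirreducible (W k : Set X) := fun k => by
    have := hW k
    have h := ((IrreducibleSpace.isIrreducible_univ (W k).toScheme).image (W k).ι
      (W k).ι.continuous.continuousOn).isPreirreducible
    rwa [Set.image_univ, Scheme.Opens.range_ι] at h
  have hpre : IsPreirreducible (((⨆ k, W k : X.Opens) : Set X)) := by
    rintro U V hU hV ⟨a, ha, haU⟩ ⟨b, hb, hbV⟩
    obtain ⟨k, hak⟩ := TopologicalSpace.Opens.mem_iSup.mp ha
    obtain ⟨l, hbl⟩ := TopologicalSpace.Opens.mem_iSup.mp hb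
    obtain ⟨z, -, hzU, hzl⟩ := hirr k U (W l) hU (W l).2 ⟨a, hak, haU⟩ ⟨ξ, hξ k, hξ l⟩
    obtain ⟨w, hw, hwU, hwV⟩ := hirr l U V hU hV ⟨z, hzl, hzU⟩ ⟨b, hbl, hbV⟩
    exact ⟨w, le_iSup W l hw, hwU, hwV⟩
  have : Nonempty ((⨆ k, W k : X.Opens).toScheme) := by
    obtain ⟨k⟩ := ‹Nonempty ι›
    exact ⟨⟨ξ, le_iSup W k (hξ k)⟩⟩
  have : PreirreducibleSpace ((⨆ k, W k : X.Opens).toScheme) :=
    Subtype.preirreducibleSpace hpre
  have : IrreducibleSpace ((⨆ k, W k : X.Opens).toScheme) := ⟨inferInstance⟩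
  have : IsReduced ((⨆ k, W k : X.Opens).toScheme) := by
    have : ∀ y : (⨆ k, W k : X.Opens).toScheme,
        _root_.IsReduced ((⨆ k, W k : X.Opens).toScheme.presheaf.stalk y) := by
      intro y
      obtain ⟨k, hk⟩ := TopologicalSpace.Opens.mem_iSup.mp y.2
      have := hW k
      exact isReduced_of_injective
        ((((⨆ k, W k : X.Opens)).stalkIso y).commRingCatIsoToRingEquiv.trans
          ((W k).stalkIso ⟨y.1, hk⟩).commRingCatIsoToRingEquiv.symm) (RingEquiv.injective _)
    exact isReduced_of_isReduced_stalk _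
  exact isIntegral_of_irreducibleSpace_of_isReduced _

include hc in
/-- S4783 -/
lemma isIntegral_iff_of_isOpenImmersion (i₀ : I) [IsNoetherian (D.obj i₀)]
    (hoi : ∀ (i j : I) (φ : i ⟶ j), IsOpenImmersion (D.map φ)) :
    IsIntegral c.pt ↔
      ∃ (i : I) (_ : i ⟶ i₀), ∀ (j : I) (_ : j ⟶ i), IsIntegral (D.obj j) := by
  constructor
  · intro h
    obtain ⟨hemb, hiso⟩ := isEmbedding_π_and_isIso_stalkMap D c hc hoi i₀
    let ξ := c.π.app i₀ (genericPoint c.pt)
    have hdom : ∀ s : c.pt, IsDomain ((D.obj i₀).presheaf.stalk (c.π.app i₀ s)) := by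
      intro s
      have := hiso s
      have : IsIntegral (((Functor.const I).obj c.pt).obj i₀) := h
      exact (asIso ((c.π.app i₀).stalkMap s)).commRingCatIsoToRingEquiv.toMulEquiv.isDomain
    have : IrreducibleSpace (((Functor.const I).obj c.pt).obj i₀) :=
      irreducibleSpace_of_isIntegral (X := c.pt)
    have : Nonempty (((Functor.const I).obj c.pt).obj i₀) := IsIntegral.nonempty (X := c.pt)
    choose W hxW hW using fun s => exists_isIntegral_nhd (X := D.obj i₀) (x := c.π.app i₀ s)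
    have hξ : ∀ s, ξ ∈ W s := fun s => ((genericPoint_specializes s).map
      (c.π.app i₀).continuous).mem_open (W s).2 (hxW s)
    have hint := isIntegral_iSup W hW ξ hξ
    obtain ⟨i, φ, hφ⟩ := exists_map_preimage_le_map_preimage D c hc (U := ⊤) (V := ⨆ s, W s)
      isCompact_univ (fun s _ => le_iSup W s (hxW s))
    refine ⟨i, φ, fun j f => ?_⟩
    have := hoi j i₀ (f ≫ φ)
    have hr : Set.range (D.map (f ≫ φ)) ⊆ Set.range (⨆ s, W s : (D.obj i₀).Opens).ι := by
      rw [Scheme.Opens.range_ι]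
      rintro _ ⟨y, rfl⟩
      rw [D.map_comp]
      exact hφ (x := D.map f y) trivial
    let l := IsOpenImmersion.lift (⨆ s, W s : (D.obj i₀).Opens).ι (D.map (f ≫ φ)) hr
    have : IsOpenImmersion l := by
      have : IsOpenImmersion (l ≫ (⨆ s, W s : (D.obj i₀).Opens).ι) := by
        rw [IsOpenImmersion.lift_fac]; infer_instance
      exact IsOpenImmersion.of_comp l (⨆ s, W s : (D.obj i₀).Opens).ι
    have : Nonempty (D.obj j) := ⟨c.π.app j (genericPoint c.pt)⟩
    exact isIntegral_of_isOpenImmersion l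
  · rintro ⟨i, hi, h⟩
    have : IsReduced c.pt :=
      isReduced_of_eventually D c hc fun j f => have := h j f; inferInstance
    obtain ⟨hemb, -⟩ := isEmbedding_π_and_isIso_stalkMap D c hc hoi i
    have := h i (𝟙 i)
    let η := genericPoint (D.obj i)
    have hη : η ∈ Set.range (c.π.app i) := by
      rw [range_π D c hc i]
      refine Set.mem_iInter₂.mpr fun j φ => ?_
      have := h j φ
      have := hoi j i φ
      obtain ⟨y⟩ := IsIntegral.nonempty (X := D.obj j)
      exact (genericPoint_specializes (D.map φ y)).mem_open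
        (D.map φ).isOpenEmbedding.isOpen_range ⟨y, rfl⟩
    obtain ⟨s, hs⟩ := hη
    have : IrreducibleSpace c.pt := by
      refine { toNonempty := ⟨s⟩, isPreirreducible_univ := ?_ }
      rintro U V hU hV ⟨a, -, ha⟩ ⟨b, -, hb⟩
      rw [Set.univ_inter]
      obtain ⟨U', hU', rfl⟩ := hemb.isInducing.isOpen_iff.mp hU
      obtain ⟨V', hV', rfl⟩ := hemb.isInducing.isOpen_iff.mp hV
      refine ⟨s, ?_, ?_⟩
      · change c.π.app i s ∈ U'
        rw [hs]
        exact (genericPoint_specializes _).mem_open hU' ha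
      · change c.π.app i s ∈ V'
        rw [hs]
        exact (genericPoint_specializes _).mem_open hV' hb
    exact isIntegral_of_irreducibleSpace_of_isReduced _

end Groth.Agent.AffLim

end
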