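import Groth.Agent.AffLim.Existence

/-!
# Points of cofiltered limits of schemes with affine transition maps

* `baseChangeCone`, `isLimitBaseChangeCone`: base change of a limit along `a : T ⟶ D i`.
* `exists_isEmpty_pullback`: if `T` is quasi-compact and `T ×_{D i} lim D` is empty, then
  some `T ×_{D i} D j` is empty.
* `range_π`, `exists_point`, `eq_of_π_eq`, `eq_induced`, `isLimit_forgetToTop`.
-/

universe u


open CategoryTheory Limits AlgebraicGeometry

noncomputable section

set_option backward.isDefEq.respectTransparency false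
set_option backward.defeqAttrib.useBackward true

namespace Groth.Agent.AffLim

attribute [local instance] CategoryTheory.isConnected_of_hasTerminal

variable {I : Type u} [SmallCategory I] (D : I ⥤ Scheme.{u}) (c : Cone D) (hc : IsLimit c)

section BaseChange

variable (i : I) {T : Scheme.{u}} (a : T ⟶ D.obj i)

/-- The diagram `T ×_{D i} D j` for `j` over `i`. -/
@[simps]
def baseChange : Over i ⥤ Scheme.{u} where
  obj j := pullback a (D.map j.hom)
  map {j k} f := pullback.map _ _ _ _ (𝟙 T) (D.map f.left) (𝟙 _) (by simp)
    (by rw [Category.comp_id, ← D.map_comp, Over.w f])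
  map_id j := by ext <;> simp
  map_comp f g := by ext <;> simp

/-- The cone over the base change diagram with apex `T ×_{D i} lim D`. -/
@[simps]
def baseChangeCone : Cone (baseChange D i a) where
  pt := pullback a (c.π.app i)
  π :=
    { app := fun j => pullback.map _ _ _ _ (𝟙 T) (c.π.app j.left) (𝟙 _) (by simp)
        (by rw [Category.comp_id, c.w])
      naturality := fun j k f => by apply pullback.hom_ext <;> simp }

include hc in
lemma nonempty_isLimit_baseChangeCone [IsCofiltered I] :
    Nonempty (IsLimit (baseChangeCone D c i a)) := by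
  let α : baseChange D i a ⟶ Over.forget i ⋙ D :=
    { app := fun j => pullback.snd _ _
      naturality := fun j k f => by simp }
  refine ⟨isLimitOfIsPullbackOfIsConnected α (baseChangeCone D c i a) (c.whisker (Over.forget i))
    { hom := pullback.snd _ _, w := fun j => by simp [α] } (fun j => ?_)
    ((Functor.Initial.isLimitWhiskerEquiv (Over.forget i) c).symm hc)⟩
  refine IsPullback.of_bot ?_ (by simp [α]) (IsPullback.of_hasPullback a (D.map j.hom)).flip |>.flip
  simpa using (IsPullback.of_hasPullback a (c.π.app i)).flip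

instance isAffineHom_baseChange_map [∀ {i j} (f : i ⟶ j), IsAffineHom (D.map f)] {j k : Over i}
    (f : j ⟶ k) : IsAffineHom ((baseChange D i a).map f) := by
  have : IsAffineHom ((baseChange D i a).map f ≫ pullback.fst a (D.map k.hom)) := by
    simp only [baseChange_map, pullback.lift_fst, pullback.map, Category.comp_id]
    exact MorphismProperty.pullback_fst (P := @IsAffineHom) a (D.map j.hom) inferInstance
  exact IsAffineHom.of_comp _ (pullback.fst a (D.map k.hom))

instance compactSpace_baseChange [∀ {i j} (f : i ⟶ j), IsAffineHom (D.map f)] [CompactSpace T]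
    (j : Over i) : CompactSpace ((baseChange D i a).obj j) :=
  have : IsAffineHom (pullback.fst a (D.map j.hom)) :=
    MorphismProperty.pullback_fst (P := @IsAffineHom) a (D.map j.hom) inferInstance
  QuasiCompact.compactSpace_of_compactSpace (pullback.fst a (D.map j.hom))

include hc in
lemma exists_isEmpty_pullback [IsCofiltered I] [∀ {i j} (f : i ⟶ j), IsAffineHom (D.map f)]
    [CompactSpace T] (h : IsEmpty ↥(pullback a (c.π.app i))) :
    ∃ (j : I) (φ : j ⟶ i), IsEmpty ↥(pullback a (D.map φ)) := by
  by_contra! H
  have : ∀ j : Over i, Nonempty ((baseChange D i a).obj j) := fun j => H j.left j.hom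
  have := Scheme.nonempty_of_isLimit (baseChange D i a) (baseChangeCone D c i a)
    (nonempty_isLimit_baseChangeCone D c hc i a).some
  obtain ⟨z⟩ := this
  exact h.elim z

end BaseChange

variable [IsCofiltered I] [∀ {i j} (f : i ⟶ j), IsAffineHom (D.map f)]

include hc in
/-- The image of `lim D → D i` is the intersection of the images of the transition maps. -/
lemma range_π (i : I) :
    Set.range (c.π.app i) = ⋂ (j : I) (φ : j ⟶ i), Set.range (D.map φ) := by
  refine Set.Subset.antisymm (Set.subset_iInter₂ fun j φ => ?_) fun x hx => ?_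
  · rw [← c.w φ]
    rintro _ ⟨y, rfl⟩
    exact ⟨c.π.app j y, rfl⟩
  by_contra h
  have h' : IsEmpty ↥(pullback ((D.obj i).fromSpecResidueField x) (c.π.app i)) := by
    refine ⟨fun z => h ⟨(pullback.snd ((D.obj i).fromSpecResidueField x) (c.π.app i)) z, ?_⟩⟩
    rw [← Scheme.Hom.comp_apply, ← pullback.condition, Scheme.Hom.comp_apply]
    exact Scheme.fromSpecResidueField_apply _ _
  obtain ⟨j, φ, hj⟩ := exists_isEmpty_pullback D c hc i _ h'
  obtain ⟨y, hy⟩ := Set.mem_iInter₂.mp hx j φ
  obtain ⟨z, -⟩ := Scheme.Pullback.exists_preimage_pullback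
    (f := (D.obj i).fromSpecResidueField x) (g := D.map φ)
    (IsLocalRing.closedPoint _) y
    (by rw [hy]; exact Scheme.fromSpecResidueField_apply _ _)
  exact hj.elim z

include hc in
/-- A compatible family of points of the stages comes from a point of the limit. -/
lemma exists_point (s : ∀ i, D.obj i) (hs : ∀ {i j} (f : i ⟶ j), D.map f (s i) = s j) :
    ∃ x : c.pt, ∀ i, c.π.app i x = s i := by
  let a := fun i => (D.obj i).fromSpecResidueField (s i)
  let m : ∀ {i j : I} (f : i ⟶ j),
      Spec ((D.obj i).residueField (s i)) ⟶ Spec ((D.obj j).residueField (s j)) := fun {i j} f =>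
    Spec.map ((D.map f).residueFieldMap (s i)) ≫
      Spec.map ((D.obj j).residueFieldCongr (hs f).symm).hom
  have hm : ∀ {i j : I} (f : i ⟶ j), m f ≫ a j = a i ≫ D.map f := fun {i j} f => by
    simp only [m, a, Category.assoc, Scheme.residueFieldCongr_fromSpecResidueField,
      Scheme.Hom.SpecMap_residueFieldMap_fromSpecResidueField]
  let E : I ⥤ Scheme.{u} :=
    { obj := fun i => Spec ((D.obj i).residueField (s i))
      map := m
      map_id := fun i => by rw [← cancel_mono (a i), hm]; simp
      map_comp := fun f g => by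
        rw [← cancel_mono (a _), hm, Category.assoc, hm, reassoc_of% hm, D.map_comp] }
  have : HasLimit E := hasLimit_of_forall_isAffine E fun i => inferInstanceAs (IsAffine (Spec _))
  have : ∀ i, Nonempty (E.obj i) := fun i => inferInstanceAs (Nonempty (Spec _))
  have : ∀ i, CompactSpace (E.obj i) := fun i => inferInstanceAs (CompactSpace (Spec _))
  have : ∀ {i j : I} (f : i ⟶ j), IsAffineHom (E.map f) := fun f =>
    inferInstanceAs (IsAffineHom (m f))
  obtain ⟨z⟩ := Scheme.nonempty_of_isLimit E (limit.cone E) (limit.isLimit E)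
  let α : E ⟶ D := { app := a, naturality := fun i j f => hm f }
  obtain ⟨g, hg⟩ : ∃ g : (limit.cone E).pt ⟶ c.pt, ∀ i, g ≫ c.π.app i = limit.π E i ≫ a i :=
    ⟨hc.lift ((Cone.postcompose α).obj (limit.cone E)), fun i => hc.fac _ i⟩
  refine ⟨g z, fun i => ?_⟩
  refine (Scheme.Hom.comp_apply g (c.π.app i) z).symm.trans ?_
  rw [hg i, Scheme.Hom.comp_apply]
  exact Scheme.fromSpecResidueField_apply (s i) _

include hc in
/-- A point of the limit is determined by its images in the stages. -/
lemma eq_of_π_eq {x y : c.pt} (h : ∀ i, c.π.app i x = c.π.app i y) : x = y := by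
  refine inseparable_iff_eq.mp ((TopologicalSpace.IsTopologicalBasis.inseparable_iff
    (isBasis_preimage_isAffineOpen D c hc)).mpr ?_)
  rintro _ ⟨_, ⟨i, V, -, rfl⟩, rfl⟩
  change c.π.app i x ∈ V ↔ c.π.app i y ∈ V
  rw [h]

include hc in
/-- Every open set of the limit is a union of preimages of affine opens of the stages. -/
lemma exists_affine_preimage_subset {U : Set c.pt} (hU : IsOpen U) {x : c.pt} (hx : x ∈ U) :
    ∃ (i : I) (V : (D.obj i).Opens), IsAffineOpen V ∧ c.π.app i x ∈ V ∧
      (c.π.app i) ⁻¹' (V : Set (D.obj i)) ⊆ U := by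
  obtain ⟨_, ⟨_, ⟨i, V, hV, rfl⟩, rfl⟩, hxV, hVU⟩ :=
    (isBasis_preimage_isAffineOpen D c hc).exists_subset_of_mem_open hx hU
  exact ⟨i, V, hV, hxV, hVU⟩

include hc in
lemma eq_induced :
    (inferInstance : TopologicalSpace c.pt) =
      ⨅ i, TopologicalSpace.induced (c.π.app i) inferInstance := by
  refine le_antisymm (le_iInf fun i => continuous_iff_le_induced.mp (c.π.app i).continuous) ?_
  intro U hU
  refine (@isOpen_iff_forall_mem_open _
    (⨅ i, TopologicalSpace.induced (c.π.app i) inferInstance) U).mpr fun x hx => ?_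
  obtain ⟨i, V, -, hxV, hVU⟩ := exists_affine_preimage_subset D c hc hU hx
  have hle : (⨅ i : I, TopologicalSpace.induced (c.π.app i) inferInstance) ≤
      TopologicalSpace.induced (c.π.app i) inferInstance := iInf_le _ i
  have hV : @IsOpen c.pt (TopologicalSpace.induced (c.π.app i) inferInstance)
      (c.π.app i ⁻¹' (V : Set (D.obj i))) := isOpen_induced V.isOpen
  exact ⟨_, hVU, hle _ hV, hxV⟩

include hc in
/-- The underlying space of the limit is the limit of the underlying spaces. -/
theorem nonempty_isLimit_forgetToTop : Nonempty (IsLimit (Scheme.forgetToTop.mapCone c)) := by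
  have hset : IsLimit ((forget TopCat).mapCone (Scheme.forgetToTop.mapCone c)) := by
    refine Classical.choice ?_
    rw [Types.isLimit_iff]
    intro s hs
    obtain ⟨x, hx⟩ := exists_point D c hc s (fun f => hs f)
    exact ⟨x, hx, fun y hy => eq_of_π_eq D c hc fun i => (hy i).trans (hx i).symm⟩
  exact (TopCat.nonempty_isLimit_iff_eq_induced _ hset).mpr (eq_induced D c hc)

end Groth.Agent.AffLim

end
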