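import Mathlib

/-!
# Finite presentation from commutation with directed colimits

* `finitePresentation_of_factor`: a ring map is of finite presentation as soon as every map into a
  directed colimit factors through a stage.
* `locallyOfFinitePresentation_of_factor`: the same for schemes.
* `injective_post_of_finite`, `bijective_post_of_finitePresentation`: modules.
-/

universe u

open CategoryTheory Limits AlgebraicGeometry Opposite

noncomputable section

set_option backward.isDefEq.respectTransparency false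
set_option backward.defeqAttrib.useBackward true

namespace Groth.Agent.AffLim

/-- A cocone of rings which is elementwise a colimit is a colimit. -/
lemma nonempty_isColimit_of_elementwise {J : Type u} [Preorder J] [IsDirected J (· ≤ ·)]
    [Nonempty J] {F : J ⥤ CommRingCat.{u}} (c : Cocone F)
    (h1 : ∀ x : c.pt, ∃ (j : J) (y : F.obj j), c.ι.app j y = x)
    (h2 : ∀ (j : J) (x y : F.obj j), c.ι.app j x = c.ι.app j y →
      ∃ (k : J) (h : j ≤ k), F.map (homOfLE h) x = F.map (homOfLE h) y) :
    Nonempty (IsColimit c) := by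
  have : ReflectsFilteredColimits (forget CommRingCat.{u}) :=
    ⟨fun _ ↦ reflectsColimitsOfShape_of_reflectsIsomorphisms⟩
  refine ⟨isColimitOfReflects (forget CommRingCat.{u})
    (Types.FilteredColimit.isColimitOf' _ _ ?_ ?_)⟩
  · intro x
    obtain ⟨j, y, hy⟩ := h1 x
    exact ⟨j, y, hy.symm⟩
  · intro j x y e
    obtain ⟨k, h, hk⟩ := h2 j x y e
    exact ⟨k, homOfLE h, hk⟩

/-- A ring map through which all maps to directed colimits factor at some stage is of finite
presentation. -/
theorem finitePresentation_of_factor {A B : CommRingCat.{u}} (f : A ⟶ B)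
    (H : ∀ (J : Type u) [Preorder J] [IsDirected J (· ≤ ·)] [Nonempty J]
      (F : J ⥤ CommRingCat.{u}) (α : (Functor.const J).obj A ⟶ F) (c : Cocone F) (_ : IsColimit c)
      (g : B ⟶ c.pt), (∀ j, f ≫ g = α.app j ≫ c.ι.app j) →
      ∃ (j : J) (g' : B ⟶ F.obj j), f ≫ g' = α.app j ∧ g' ≫ c.ι.app j = g) :
    f.hom.FinitePresentation := by
  classical
  algebraize [f.hom]
  -- finite type
  obtain ⟨S, hS⟩ : ∃ S : Finset B, Algebra.adjoin A (S : Set B) = ⊤ := by
    let F : Finset B ⥤ CommRingCat.{u} :=
      { obj := fun S => CommRingCat.of (Algebra.adjoin A (S : Set B))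
        map := fun {S T} h => CommRingCat.ofHom (Subalgebra.inclusion (Algebra.adjoin_mono
          (Finset.coe_subset.mpr h.le))).toRingHom
        map_id := fun S => by ext x; rfl
        map_comp := fun h h' => by ext x; rfl }
    let α : (Functor.const _).obj A ⟶ F :=
      { app := fun S => CommRingCat.ofHom (algebraMap A (Algebra.adjoin A (S : Set B)))
        naturality := fun S T h => by ext x; rfl }
    let c : Cocone F :=
      { pt := B
        ι :=
          { app := fun S => CommRingCat.ofHom (Algebra.adjoin A (S : Set B)).val.toRingHom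
            naturality := fun S T h => by ext x; rfl } }
    obtain ⟨hc⟩ := nonempty_isColimit_of_elementwise c
      (fun x => ⟨{x}, ⟨x, Algebra.subset_adjoin (by simp)⟩, rfl⟩)
      (fun S x y e => ⟨S, le_rfl, by rw [show x = y from Subtype.ext e]⟩)
    obtain ⟨S, g, -, hg⟩ := H _ F α c hc (𝟙 B) (fun S => by ext x; rfl)
    refine ⟨S, eq_top_iff.mpr fun x _ => ?_⟩
    have hx : (g x).1 = x := congr($hg x)
    exact hx ▸ (g x).2
  -- finite presentation
  let π : MvPolynomial S A →ₐ[A] B := MvPolynomial.aeval fun s => (s : B)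
  have hπ : Function.Surjective π := by
    rw [← AlgHom.range_eq_top, ← Algebra.adjoin_range_eq_range_aeval]
    simpa using hS
  let P := MvPolynomial S A
  let K := RingHom.ker π.toRingHom
  let F : Finset K ⥤ CommRingCat.{u} :=
    { obj := fun s => CommRingCat.of (P ⧸ Ideal.span (Subtype.val '' (s : Set K)))
      map := fun {s t} h => CommRingCat.ofHom (Ideal.Quotient.factor
        (Ideal.span_mono (Set.image_mono (Finset.coe_subset.mpr h.le))))
      map_id := fun s => CommRingCat.hom_ext (RingHom.ext fun x => by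
        obtain ⟨p, rfl⟩ := Ideal.Quotient.mk_surjective x; rfl)
      map_comp := fun h h' => CommRingCat.hom_ext (RingHom.ext fun x => by
        obtain ⟨p, rfl⟩ := Ideal.Quotient.mk_surjective x; rfl) }
  let α : (Functor.const _).obj A ⟶ F :=
    { app := fun s => CommRingCat.ofHom
        ((Ideal.Quotient.mk (Ideal.span (Subtype.val '' (s : Set K)))).comp (algebraMap A P))
      naturality := fun s t h => by ext x; rfl }
  let c : Cocone F :=
    { pt := B
      ι :=
        { app := fun s => CommRingCat.ofHom (Ideal.Quotient.lift _ π.toRingHom (fun x hx =>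
            (Ideal.span_le (I := K)).mpr (by rintro _ ⟨y, -, rfl⟩; exact y.2) hx))
          naturality := fun s t h => CommRingCat.hom_ext (RingHom.ext fun x => by
        obtain ⟨p, rfl⟩ := Ideal.Quotient.mk_surjective x; rfl) } }
  obtain ⟨hc⟩ := nonempty_isColimit_of_elementwise c
    (fun x => by
      obtain ⟨p, hp⟩ := hπ x
      exact ⟨∅, Ideal.Quotient.mk _ p, hp⟩)
    (fun s x y e => by
      obtain ⟨p, rfl⟩ := Ideal.Quotient.mk_surjective x
      obtain ⟨q, rfl⟩ := Ideal.Quotient.mk_surjective y
      have hpq : π (p - q) = 0 := by rw [map_sub, sub_eq_zero]; exact e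
      refine ⟨insert (⟨p - q, hpq⟩ : K) s, Finset.subset_insert _ _, ?_⟩
      exact (Ideal.Quotient.mk_eq_mk_iff_sub_mem p q).mpr
        (Ideal.subset_span ⟨⟨p - q, hpq⟩, by simp, rfl⟩))
  obtain ⟨s, g, hgA, hg⟩ := H _ F α c hc (𝟙 B) (fun s => by
    ext x
    change algebraMap A B x = π (algebraMap A P x)
    rw [AlgHom.commutes])
  -- `g` differs from the quotient map on the variables by finitely many elements of the kernel
  choose w hw using fun v : S => Ideal.Quotient.mk_surjective (g (π (MvPolynomial.X v)))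
  have hwK : ∀ v : S, π (w v - MvPolynomial.X v) = 0 := fun v => by
    rw [map_sub, sub_eq_zero]
    have := congr($hg (π (MvPolynomial.X v)))
    rw [CommRingCat.comp_apply, ← hw v] at this
    exact this
  let t : Finset K := s ∪ Finset.univ.image fun v : S => (⟨w v - MvPolynomial.X v, hwK v⟩ : K)
  let g' : B →+* P ⧸ Ideal.span (Subtype.val '' (t : Set K)) :=
    (F.map (homOfLE (show s ≤ t from Finset.subset_union_left))).hom.comp g.hom
  have hg' : g'.comp π.toRingHom = Ideal.Quotient.mk _ := by
    refine MvPolynomial.ringHom_ext (fun r => ?_) (fun v => ?_)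
    · change F.map (homOfLE (show s ≤ t from Finset.subset_union_left)) (g (π (algebraMap A P r))) = Ideal.Quotient.mk _ (algebraMap A P r)
      rw [AlgHom.commutes, show g (algebraMap A B r) = (f ≫ g) r from rfl, hgA]
      rfl
    · change F.map (homOfLE (show s ≤ t from Finset.subset_union_left)) (g (π (MvPolynomial.X v))) = _
      rw [← hw v]
      refine (Ideal.Quotient.mk_eq_mk_iff_sub_mem _ _).mpr (Ideal.subset_span ?_)
      exact ⟨⟨w v - MvPolynomial.X v, hwK v⟩, Finset.mem_union_right _
        (Finset.mem_image.mpr ⟨v, Finset.mem_univ _, rfl⟩), rfl⟩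
  have hker : RingHom.ker π.toRingHom = Ideal.span (Subtype.val '' (t : Set K)) := by
    refine le_antisymm (fun x hx => ?_)
      (Ideal.span_le.mpr (by rintro _ ⟨y, -, rfl⟩; exact y.2))
    rw [← Ideal.Quotient.eq_zero_iff_mem, ← hg']
    change g' (π x) = 0
    rw [show π x = 0 from hx, map_zero]
  refine Algebra.FinitePresentation.of_surjective hπ ?_
  exact ⟨t.image Subtype.val, by rw [Finset.coe_image]; exact hker.symm⟩

/-- A morphism of schemes is locally of finite presentation if maps from directed limits of affine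
schemes over affine opens of the base factor through stages. -/
theorem locallyOfFinitePresentation_of_factor {X S : Scheme.{u}} (f : X ⟶ S)
    (H : ∀ (U : S.Opens) (hU : IsAffineOpen U) (J : Type u) [Preorder J] [IsDirected J (· ≤ ·)]
      [Nonempty J] (F : J ⥤ CommRingCat.{u}) (α : (Functor.const J).obj Γ(S, U) ⟶ F)
      (c : Cocone F) (_ : IsColimit c) (g : Spec c.pt ⟶ X),
      (∀ j, g ≫ f = Spec.map (α.app j ≫ c.ι.app j) ≫ hU.fromSpec) →
      ∃ (j : J) (g' : Spec (F.obj j) ⟶ X),
        g' ≫ f = Spec.map (α.app j) ≫ hU.fromSpec ∧ Spec.map (c.ι.app j) ≫ g' = g) :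
    LocallyOfFinitePresentation f := by
  rw [locallyOfFinitePresentation_iff]
  intro U hU V hV e
  refine finitePresentation_of_factor _ fun J _ _ _ F α c hc g hg => ?_
  obtain ⟨j, g', hg'f, hg'⟩ := H U hU J F α c hc (Spec.map g ≫ hV.fromSpec) (fun j => by
    rw [Category.assoc, ← hU.SpecMap_appLE_fromSpec f hV e, ← Spec.map_comp_assoc, hg j])
  -- the image lands in `V` at a later stage
  let D : Jᵒᵖ ⥤ Scheme.{u} := F.op ⋙ Scheme.Spec
  let c' : Cone D := Scheme.Spec.mapCone c.op
  have hc' : IsLimit c' := isLimitOfPreserves Scheme.Spec hc.op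
  have : ∀ {i j : Jᵒᵖ} (a : i ⟶ j), IsAffineHom (D.map a) := fun a =>
    inferInstanceAs (IsAffineHom (Spec.map _))
  have : ∀ i, CompactSpace (D.obj i) := fun i => inferInstanceAs (CompactSpace (Spec _))
  obtain ⟨⟨k⟩, a', hk⟩ := exists_map_eq_top D c' hc' (i := op j) (g' ⁻¹ᵁ V) (by
    rw [← top_le_iff]
    intro x _
    change (Spec.map (c.ι.app j) ≫ g') x ∈ V
    rw [hg']
    exact hV.range_fromSpec.le ⟨_, rfl⟩)
  let a : j ⟶ k := a'.unop
  have hr : Set.range (Spec.map (F.map a) ≫ g') ⊆ Set.range hV.fromSpec := by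
    rw [hV.range_fromSpec]
    rintro _ ⟨x, rfl⟩
    exact hk.ge (trivial : x ∈ (⊤ : TopologicalSpace.Opens _))
  obtain ⟨g'', hg''⟩ := Spec.map_surjective
    (IsOpenImmersion.lift hV.fromSpec (Spec.map (F.map a) ≫ g') hr)
  have hfac : Spec.map g'' ≫ hV.fromSpec = Spec.map (F.map a) ≫ g' := by
    rw [hg'', IsOpenImmersion.lift_fac]
  refine ⟨k, g'', Spec.map_injective ?_, Spec.map_injective ?_⟩
  · rw [← cancel_mono hU.fromSpec, Spec.map_comp, Category.assoc,
      hU.SpecMap_appLE_fromSpec f hV e, reassoc_of% hfac, hg'f, ← Spec.map_comp_assoc]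
    rw [← α.naturality a]
    simp
  · rw [← cancel_mono hV.fromSpec, Spec.map_comp, Category.assoc, hfac, ← Spec.map_comp_assoc,
      c.w a, hg']

section Modules

variable {A : Type u} [CommRing A] (M : ModuleCat.{u} A) {J : Type u} [Preorder J]
  [IsDirected J (· ≤ ·)] [Nonempty J] (N : J ⥤ ModuleCat.{u} A)

lemma post_ι_apply (j : J) (a : M ⟶ N.obj j) :
    colimit.post N (coyoneda.obj (op M)) (colimit.ι (N ⋙ coyoneda.obj (op M)) j a) =
      a ≫ colimit.ι N j :=
  congr($(colimit.ι_post N (coyoneda.obj (op M)) j) a)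

lemma exists_map_eq_zero {j : J} (x : N.obj j) (h : colimit.ι N j x = 0) :
    ∃ (k : J) (a : j ⟶ k), N.map a x = 0 := by
  obtain ⟨k, a, ha⟩ := (Types.FilteredColimit.isColimit_eq_iff'
    (isColimitOfPreserves (forget (ModuleCat.{u} A)) (colimit.isColimit N)) x (0 : N.obj j)).mp
      (by dsimp; rw [h]; simp)
  exact ⟨k, a, by simpa using ha⟩

lemma exists_stage_killing (s : Set M) (hs : s.Finite) {j : J} (b : M ⟶ N.obj j)
    (h : ∀ x ∈ s, colimit.ι N j (b x) = 0) :
    ∃ (k : J) (a : j ⟶ k), ∀ x ∈ s, N.map a (b x) = 0 := by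
  induction s, hs using Set.Finite.induction_on with
  | empty => exact ⟨j, 𝟙 j, by simp⟩
  | @insert x s _ _ ih =>
    obtain ⟨k, a, ha⟩ := ih fun y hy => h y (Set.mem_insert_of_mem _ hy)
    obtain ⟨k', a', ha'⟩ := exists_map_eq_zero N (b x) (h x (Set.mem_insert _ _))
    obtain ⟨l, p, q, -⟩ := IsFilteredOrEmpty.cocone_objs k k'
    refine ⟨l, a ≫ p, fun y hy => ?_⟩
    rcases hy with rfl | hy
    · rw [show a ≫ p = a' ≫ q from Subsingleton.elim _ _, N.map_comp]
      simp [ha']
    · rw [N.map_comp]
      simp [ha y hy]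

/-- S4834 -/
theorem injective_post_of_finite [Module.Finite A M] :
    Function.Injective (colimit.post N (coyoneda.obj (op M))) := by
  intro x y e
  obtain ⟨i, a, rfl⟩ := Types.jointly_surjective' x
  obtain ⟨j, b, rfl⟩ := Types.jointly_surjective' y
  rw [post_ι_apply, post_ι_apply] at e
  obtain ⟨l, p, q, -⟩ := IsFilteredOrEmpty.cocone_objs i j
  obtain ⟨s, hs⟩ := Module.Finite.fg_top (R := A) (M := M)
  obtain ⟨k, t, ht⟩ := exists_stage_killing M N (s : Set M) s.finite_toSet
    (a ≫ N.map p - b ≫ N.map q) (fun x _ => by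
      have h1 : (a ≫ N.map p - b ≫ N.map q) ≫ colimit.ι N l = 0 := by
        rw [Preadditive.sub_comp, Category.assoc, Category.assoc, colimit.w, colimit.w, e, sub_self]
      exact congr($h1 x))
  have heq : (a ≫ N.map p) ≫ N.map t = (b ≫ N.map q) ≫ N.map t := by
    rw [← sub_eq_zero, ← Preadditive.sub_comp]
    refine ModuleCat.hom_ext (LinearMap.ext_on hs fun x hx => ?_)
    simpa using ht x hx
  rw [← colimit.w (N ⋙ coyoneda.obj (op M)) (p ≫ t), ← colimit.w (N ⋙ coyoneda.obj (op M)) (q ≫ t)]
  change colimit.ι (N ⋙ coyoneda.obj (op M)) k (a ≫ N.map (p ≫ t)) =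
    colimit.ι (N ⋙ coyoneda.obj (op M)) k (b ≫ N.map (q ≫ t))
  rw [N.map_comp, N.map_comp, ← Category.assoc, ← Category.assoc, heq]

/-- S4835 -/
theorem bijective_post_of_finitePresentation [Module.FinitePresentation A M] :
    Function.Bijective (colimit.post N (coyoneda.obj (op M))) := by
  refine ⟨injective_post_of_finite M N, fun (φ : M ⟶ colimit N) => ?_⟩
  obtain ⟨n, π, hπ⟩ := Module.Finite.exists_fin' A M
  obtain ⟨r, hr⟩ := Module.FinitePresentation.fg_ker π hπ
  -- lift the images of the generators to a common stage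
  choose jx y hy using fun i : Fin n => Types.jointly_surjective_of_isColimit
    (isColimitOfPreserves (forget (ModuleCat.{u} A)) (colimit.isColimit N))
    (φ (π (Pi.single i 1)))
  obtain ⟨j, hj⟩ := Finite.exists_le jx
  let w : Fin n → N.obj j := fun i => N.map (homOfLE (hj i)) (y i)
  have hw : ∀ i, colimit.ι N j (w i) = φ (π (Pi.single i 1)) := fun i => by
    refine Eq.trans ?_ (hy i)
    exact congr($(colimit.w N (homOfLE (hj i))) (y i))
  let L : (Fin n → A) →ₗ[A] N.obj j := (Pi.basisFun A (Fin n)).constr A w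
  have hL : (colimit.ι N j).hom.comp L = φ.hom.comp π := by
    refine (Pi.basisFun A (Fin n)).ext fun i => ?_
    simp [L, hw i]
  have hzero : ∀ x ∈ r, colimit.ι N j (L x) = 0 := fun x hx => by
    have h1 : π x = 0 := hr.le (Submodule.subset_span hx)
    have := congr($hL x)
    simp only [LinearMap.comp_apply, h1, map_zero] at this
    exact this
  obtain ⟨k, t, ht⟩ : ∃ (k : J) (t : j ⟶ k), ∀ x ∈ r, N.map t (L x) = 0 :=
    let ⟨k, t, ht⟩ := exists_stage_killing (ModuleCat.of A (Fin n → A)) N (r : Set (Fin n → A))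
      r.finite_toSet (ModuleCat.ofHom L) hzero
    ⟨k, t, ht⟩
  let L' : M →ₗ[A] N.obj k := ((LinearMap.ker π).liftQ ((N.map t).hom.comp L)
    (by rw [← hr, Submodule.span_le]; exact ht)).comp
      (π.quotKerEquivOfSurjective hπ).symm.toLinearMap
  refine ⟨colimit.ι (N ⋙ coyoneda.obj (op M)) k (ModuleCat.ofHom L'), ?_⟩
  rw [post_ι_apply]
  refine ModuleCat.hom_ext (LinearMap.ext fun x => ?_)
  obtain ⟨z, rfl⟩ := hπ x
  have h1 : L' (π z) = N.map t (L z) := by
    simp only [L', LinearMap.comp_apply, LinearEquiv.coe_coe]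
    rw [show (π.quotKerEquivOfSurjective hπ).symm (π z) = Submodule.Quotient.mk z from
      (π.quotKerEquivOfSurjective hπ).symm_apply_eq.mpr rfl]
    rfl
  change colimit.ι N k (L' (π z)) = φ (π z)
  rw [h1, ← ModuleCat.comp_apply, colimit.w]
  exact congr($hL z)

end Modules

end Groth.Agent.AffLim

end
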