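import Groth.Agent.AffLim.DescendMore
import Groth.Agent.QFinLib

/-!
# Descending local quasi-finiteness to a stage
-/

universe u

open CategoryTheory Limits AlgebraicGeometry Topology

noncomputable section

set_option backward.isDefEq.respectTransparency false
set_option backward.defeqAttrib.useBackward true
set_option linter.unusedSectionVars false

namespace Groth.Agent.AffLim

variable {I : Type u} [SmallCategory I] (D : I ⥤ Scheme.{u}) (c : Cone D) (hc : IsLimit c)
  (i₀ : I) {X₀ Y₀ : Scheme.{u}} (f₀ : X₀ ⟶ Y₀) (g₀ : Y₀ ⟶ D.obj i₀)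
  {X Y : Scheme.{u}} {f : X ⟶ Y} {g : Y ⟶ c.pt} {qY : Y ⟶ Y₀} {qX : X ⟶ X₀}
  [IsCofiltered I] [∀ {i j} (f : i ⟶ j), IsAffineHom (D.map f)]

/-- The limit map is the base change of every stage. -/
lemma isPullback_baseChangeMapLimit (k : Over i₀) :
    IsPullback ((baseChangeCone D c i₀ (f₀ ≫ g₀)).π.app k) (baseChangeMapLimit D c i₀ f₀ g₀)
      ((baseChangeMap D i₀ f₀ g₀).app k) ((baseChangeCone D c i₀ g₀).π.app k) := by
  refine IsPullback.of_right ?_ (baseChangeMapLimit_w D c i₀ f₀ g₀ k).symm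
    (isPullback_baseChangeMap D i₀ f₀ g₀ k)
  simpa [pullback.map, baseChangeMapLimit] using isPullback_map_fst D i₀ f₀ g₀ (c.π.app i₀)

include hc in
theorem exists_locallyQuasiFinite_baseChange [CompactSpace X₀] [LocallyOfFiniteType f₀]
    (hY : IsPullback qY g g₀ (c.π.app i₀))
    (hX : IsPullback qX f f₀ qY) [LocallyQuasiFinite f] :
    ∃ k : Over i₀, LocallyQuasiFinite ((baseChangeMap D i₀ f₀ g₀).app k) := by
  let o : Over i₀ := Over.mk (𝟙 i₀)
  let ι := (baseChangeMap D i₀ f₀ g₀).app o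
  have hft (k : Over i₀) : LocallyOfFiniteType ((baseChangeMap D i₀ f₀ g₀).app k) :=
    prop_baseChangeMap D i₀ f₀ g₀ @LocallyOfFiniteType inferInstance k
  have : LocallyQuasiFinite (baseChangeMapLimit D c i₀ f₀ g₀) :=
    (prop_baseChangeMapLimit D c i₀ f₀ g₀ @LocallyQuasiFinite hY hX).mp inferInstance
  let U := ι.quasiFiniteLocus
  let E := baseChange D i₀ (f₀ ≫ g₀)
  have : CompactSpace (E.obj o) :=
    have : IsAffineHom (D.map o.hom) := inferInstance
    have : IsAffineHom (pullback.fst (f₀ ≫ g₀) (D.map o.hom)) :=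
      MorphismProperty.pullback_fst _ _ inferInstance
    QuasiCompact.compactSpace_of_compactSpace (pullback.fst (f₀ ≫ g₀) (D.map o.hom))
  have H : (baseChangeCone D c i₀ (f₀ ≫ g₀)).π.app o ⁻¹ᵁ ⊤ ≤
      (baseChangeCone D c i₀ (f₀ ≫ g₀)).π.app o ⁻¹ᵁ U := fun x _ =>
    (QFinLib.quasiFiniteAt_baseChange_iff ι (isPullback_baseChangeMapLimit D c i₀ f₀ g₀ o) x).mp
      ((baseChangeMapLimit D c i₀ f₀ g₀).quasiFiniteAt x)
  obtain ⟨l, φ, hl⟩ := exists_map_preimage_le_map_preimage E (baseChangeCone D c i₀ (f₀ ≫ g₀))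
    (nonempty_isLimit_baseChangeCone D c hc i₀ (f₀ ≫ g₀)).some (i := o) (U := ⊤) (V := U)
    (by simpa using isCompact_univ) H
  refine ⟨l, ?_⟩
  have := hft l
  rw [← Scheme.Hom.quasiFiniteLocus_eq_top_iff, ← top_le_iff]
  intro x _
  exact (QFinLib.quasiFiniteAt_baseChange_iff ι (isPullback_baseChangeMap_map D i₀ f₀ g₀ φ) x).mpr
    (hl (by trivial))

end Groth.Agent.AffLim

end
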