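import Groth.Agent.AffLim.DescendBaseChange

/-!
# Descending open immersions, surjectivity, monomorphisms, universal injectivity to a stage
-/

universe u

open CategoryTheory Limits AlgebraicGeometry Topology

noncomputable section

set_option backward.isDefEq.respectTransparency false
set_option backward.defeqAttrib.useBackward true
set_option linter.unusedSectionVars false

namespace Groth.Agent.AffLim

variable {I : Type u} [SmallCategory I] (D : I ⥤ Scheme.{u}) (c : Cone D) (hc : IsLimit c)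
  (i₀ : I) {X₀ Y₀ : Scheme.{u}} (f₀ : X₀ ⟶ Y₀) (g₀ : Y₀ ⟶ D.obj i₀)

lemma isPullback_baseChangeMap_map {l k : Over i₀} (a : l ⟶ k) :
    IsPullback ((baseChange D i₀ (f₀ ≫ g₀)).map a) ((baseChangeMap D i₀ f₀ g₀).app l)
      ((baseChangeMap D i₀ f₀ g₀).app k) ((baseChange D i₀ g₀).map a) := by
  refine IsPullback.of_right ?_ ((baseChangeMap D i₀ f₀ g₀).naturality a)
    (isPullback_baseChangeMap D i₀ f₀ g₀ k)
  simpa [pullback.map] using isPullback_baseChangeMap D i₀ f₀ g₀ l

lemma prop_of_stage_map (P : MorphismProperty Scheme.{u}) [P.IsStableUnderBaseChange] {l k : Over i₀}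
    (a : l ⟶ k) (h : P ((baseChangeMap D i₀ f₀ g₀).app k)) : P ((baseChangeMap D i₀ f₀ g₀).app l) :=
  MorphismProperty.of_isPullback (isPullback_baseChangeMap_map D i₀ f₀ g₀ a) h

variable {X Y : Scheme.{u}} {f : X ⟶ Y} {g : Y ⟶ c.pt} {qY : Y ⟶ Y₀} {qX : X ⟶ X₀}

/-- The limit map is the base change of a stage. -/
lemma prop_stage_limit (P : MorphismProperty Scheme.{u}) [P.RespectsIso] (k : Over i₀)
    (hY : IsPullback qY g g₀ (c.π.app i₀)) (hX : IsPullback qX f f₀ qY) :
    P f ↔ P (pullback.snd ((baseChangeMap D i₀ f₀ g₀).app k) ((baseChangeCone D c i₀ g₀).π.app k)) := by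
  refine prop_iff_of_isPullback P hX
    ((IsPullback.of_hasPullback _ _).paste_horiz (isPullback_baseChangeMap D i₀ f₀ g₀ k)) hY.isoPullback ?_
  refine Eq.trans (congrArg (hY.isoPullback.hom ≫ ·) ?_) hY.isoPullback_hom_fst
  simp [pullback.map]

/-- A later stage is the base change of a stage. -/
lemma prop_stage_stage (P : MorphismProperty Scheme.{u}) [P.RespectsIso] {l k : Over i₀} (φ : l ⟶ k) :
    P (pullback.snd ((baseChangeMap D i₀ f₀ g₀).app k) ((baseChange D i₀ g₀).map φ)) ↔
      P ((baseChangeMap D i₀ f₀ g₀).app l) := by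
  refine prop_iff_of_isPullback P
    ((IsPullback.of_hasPullback _ _).paste_horiz (isPullback_baseChangeMap D i₀ f₀ g₀ k))
    (isPullback_baseChangeMap D i₀ f₀ g₀ l) (Iso.refl _) ?_
  simp [pullback.map]

variable [IsCofiltered I] [∀ {i j} (f : i ⟶ j), IsAffineHom (D.map f)]
  [CompactSpace X₀] [QuasiSeparatedSpace X₀] [CompactSpace Y₀] [QuasiSeparatedSpace Y₀]
  [LocallyOfFinitePresentation f₀]

include hc in
theorem exists_isOpenImmersion_baseChange (hY : IsPullback qY g g₀ (c.π.app i₀))
    (hX : IsPullback qX f f₀ qY) [IsOpenImmersion f] :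
    ∃ k : Over i₀, IsOpenImmersion ((baseChangeMap D i₀ f₀ g₀).app k) := by
  obtain ⟨k, hk⟩ := exists_isImmersion_baseChange D c hc i₀ f₀ g₀ hY hX
  let ι := (baseChangeMap D i₀ f₀ g₀).app k
  have : LocallyOfFinitePresentation ι :=
    prop_baseChangeMap D i₀ f₀ g₀ @LocallyOfFinitePresentation inferInstance k
  have : QuasiCompact ι := quasiCompact_baseChangeMap D i₀ f₀ g₀ k
  obtain ⟨l, φ, hl⟩ := (isOpenImmersion_pullback_snd_iff (baseChange D i₀ g₀) (baseChangeCone D c i₀ g₀)
    (nonempty_isLimit_baseChangeCone D c hc i₀ g₀).some ι).mp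
    ((prop_stage_limit D c i₀ f₀ g₀ @IsOpenImmersion k hY hX).mp inferInstance)
  exact ⟨l, (prop_stage_stage D i₀ f₀ g₀ @IsOpenImmersion φ).mp hl⟩

include hc in
theorem exists_surjective_baseChange_from (k : Over i₀) (hY : IsPullback qY g g₀ (c.π.app i₀))
    (hX : IsPullback qX f f₀ qY) [Surjective f] :
    ∃ (l : Over i₀) (_ : l ⟶ k), Surjective ((baseChangeMap D i₀ f₀ g₀).app l) := by
  let ι := (baseChangeMap D i₀ f₀ g₀).app k
  have : LocallyOfFinitePresentation ι :=
    prop_baseChangeMap D i₀ f₀ g₀ @LocallyOfFinitePresentation inferInstance k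
  have : QuasiCompact ι := quasiCompact_baseChangeMap D i₀ f₀ g₀ k
  have hZ : IsConstructible (Set.range ι)ᶜ := (isLocallyConstructible_range ι).isConstructible.compl
  have hsurj : Surjective (pullback.snd ι ((baseChangeCone D c i₀ g₀).π.app k)) :=
    (prop_stage_limit D c i₀ f₀ g₀ @Surjective k hY hX).mp inferInstance
  obtain ⟨l, φ, hl⟩ := exists_preimage_eq_empty (baseChange D i₀ g₀) (baseChangeCone D c i₀ g₀)
    (nonempty_isLimit_baseChangeCone D c hc i₀ g₀).some hZ (by
      rw [Set.preimage_compl, Set.compl_empty_iff, ← Scheme.Pullback.range_snd]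
      exact hsurj.surj.range_eq)
  refine ⟨l, φ, (prop_stage_stage D i₀ f₀ g₀ @Surjective φ).mp ⟨?_⟩⟩
  rw [← Set.range_eq_univ, Scheme.Pullback.range_snd]
  rw [Set.preimage_compl, Set.compl_empty_iff] at hl
  exact hl

include hc in
theorem exists_surjective_baseChange (hY : IsPullback qY g g₀ (c.π.app i₀))
    (hX : IsPullback qX f f₀ qY) [Surjective f] :
    ∃ k : Over i₀, Surjective ((baseChangeMap D i₀ f₀ g₀).app k) :=
  let ⟨l, _, hl⟩ := exists_surjective_baseChange_from D c hc i₀ f₀ g₀ (Over.mk (𝟙 i₀)) hY hX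
  ⟨l, hl⟩

include hc in
theorem exists_universallyInjective_baseChange (hY : IsPullback qY g g₀ (c.π.app i₀))
    (hX : IsPullback qX f f₀ qY) [UniversallyInjective f] :
    ∃ k : Over i₀, UniversallyInjective ((baseChangeMap D i₀ f₀ g₀).app k) := by
  have : QuasiCompact f₀ := quasiCompact_of_compactSpace _
  have : CompactSpace ↥(pullback f₀ f₀) :=
    QuasiCompact.compactSpace_of_compactSpace (pullback.fst f₀ f₀)
  have : QuasiSeparatedSpace ↥(pullback f₀ f₀) :=
    quasiSeparatedSpace_of_quasiSeparated (pullback.fst f₀ f₀)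
  have : LocallyOfFinitePresentation (pullback.diagonal f₀) :=
    ASp.locallyOfFinitePresentation_of_comp _ (pullback.fst f₀ f₀)
      (by rw [pullback.diagonal_fst]; infer_instance) inferInstance
  obtain ⟨h1, h2⟩ := isPullback_diagonal f₀ hX
  have h3 := h2.paste_vert hY
  simp only [Category.assoc] at h3
  have : Surjective (pullback.diagonal f) := (UniversallyInjective.iff_diagonal f).mp inferInstance
  obtain ⟨k, hk⟩ := exists_surjective_baseChange D c hc i₀ (pullback.diagonal f₀) _ h3 h1
  exact ⟨k, (UniversallyInjective.iff_diagonal _).mpr ((prop_diagonal_iff D i₀ f₀ g₀ @Surjective k).mpr hk)⟩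

include hc in
theorem exists_mono_baseChange (hY : IsPullback qY g g₀ (c.π.app i₀))
    (hX : IsPullback qX f f₀ qY) [Mono f] :
    ∃ k : Over i₀, Mono ((baseChangeMap D i₀ f₀ g₀).app k) := by
  have : QuasiCompact f₀ := quasiCompact_of_compactSpace _
  have : CompactSpace ↥(pullback f₀ f₀) :=
    QuasiCompact.compactSpace_of_compactSpace (pullback.fst f₀ f₀)
  have : QuasiSeparatedSpace ↥(pullback f₀ f₀) :=
    quasiSeparatedSpace_of_quasiSeparated (pullback.fst f₀ f₀)
  have : LocallyOfFinitePresentation (pullback.diagonal f₀) :=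
    ASp.locallyOfFinitePresentation_of_comp _ (pullback.fst f₀ f₀)
      (by rw [pullback.diagonal_fst]; infer_instance) inferInstance
  obtain ⟨h1, h2⟩ := isPullback_diagonal f₀ hX
  have h3 := h2.paste_vert hY
  simp only [Category.assoc] at h3
  obtain ⟨k, hk⟩ := exists_isOpenImmersion_baseChange D c hc i₀ (pullback.diagonal f₀) _ h3 h1
  obtain ⟨l, φ, hl⟩ := exists_surjective_baseChange_from D c hc i₀ (pullback.diagonal f₀) _ k h3 h1
  have := prop_of_stage_map D i₀ (pullback.diagonal f₀) _ @IsOpenImmersion φ hk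
  refine ⟨l, (pullback.isIso_diagonal_iff _).mp ((prop_diagonal_iff D i₀ f₀ g₀
    (MorphismProperty.isomorphisms Scheme.{u}) l).mpr ?_)⟩
  exact isIso_of_isOpenImmersion_of_opensRange_eq_top _
    (TopologicalSpace.Opens.ext hl.surj.range_eq)

end Groth.Agent.AffLim

end
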