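import Groth.Agent.AffLim.Points

/-!
# Constructible sets in cofiltered limits of schemes with affine transition maps

Relations between constructible sets of a stage which hold in the limit hold at some stage, and
constructible subsets of the limit come from the stages.
-/

universe u

open CategoryTheory Limits AlgebraicGeometry Topology

noncomputable section

set_option backward.isDefEq.respectTransparency false
set_option backward.defeqAttrib.useBackward true

namespace Groth.Agent.AffLim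

variable {I : Type u} [SmallCategory I] (D : I ⥤ Scheme.{u}) (c : Cone D) (hc : IsLimit c)

/-- Induction principle: a constructible set is a finite union of differences of retrocompact
opens. -/
lemma isConstructible_induction {X : Type*} [TopologicalSpace X] {P : Set X → Prop}
    (sdiff : ∀ U V : Set X, IsOpen U → IsRetrocompact U → IsOpen V → IsRetrocompact V → P (U \ V))
    (union : ∀ s t, P s → P t → P (s ∪ t)) {s : Set X} (hs : IsConstructible s) : P s := by
  induction s, hs using BooleanSubalgebra.closure_sdiff_sup_induction with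
  | isSublattice =>
    exact ⟨fun s hs t ht ↦ ⟨hs.1.union ht.1, hs.2.union ht.2⟩,
      fun s hs t ht ↦ ⟨hs.1.inter ht.1, hs.2.inter_isOpen ht.2 ht.1⟩⟩
  | bot_mem => exact ⟨isOpen_empty, .empty⟩
  | top_mem => exact ⟨isOpen_univ, .univ⟩
  | sdiff U hU V hV => exact sdiff _ _ hU.1 hU.2 hV.1 hV.2
  | sup s _ t _ hs ht => exact union _ _ hs ht

lemma preimage_map_map {i j k : I} (f : k ⟶ j) (g : j ⟶ i) (s : Set (D.obj i)) :
    D.map f ⁻¹' (D.map g ⁻¹' s) = D.map (f ≫ g) ⁻¹' s := by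
  rw [D.map_comp]; rfl

lemma preimage_π_map {i j : I} (g : j ⟶ i) (s : Set (D.obj i)) :
    c.π.app j ⁻¹' (D.map g ⁻¹' s) = c.π.app i ⁻¹' s := by
  rw [← c.w g]; rfl

lemma isCompact_preimage_of_isConstructible {X Y : Scheme.{u}} (f : X ⟶ Y) [QuasiCompact f]
    [CompactSpace Y] {s : Set Y} (hs : IsConstructible s) : IsCompact (f ⁻¹' s) := by
  refine isConstructible_induction (P := fun s => IsCompact (f ⁻¹' s)) ?_ ?_ hs
  · intro U V hUo hU hVo _
    rw [Set.preimage_sdiff]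
    rw [Set.sdiff_eq]
    exact IsCompact.inter_right (QuasiCompact.isCompact_preimage (f := f) U hUo hU.isCompact)
      (hVo.preimage f.continuous).isClosed_compl
  · intro s t hs ht
    rw [Set.preimage_union]
    exact hs.union ht

variable [IsCofiltered I] [∀ {i j} (f : i ⟶ j), IsAffineHom (D.map f)]

include hc in
/-- If a constructible set of stage `i` maps into an open in the limit, it does so at some
stage. -/
lemma exists_preimage_subset_open {i : I} [CompactSpace (D.obj i)] {Z : Set (D.obj i)}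
    (hZ : IsConstructible Z) (O : (D.obj i).Opens)
    (h : c.π.app i ⁻¹' Z ⊆ c.π.app i ⁻¹' (O : Set (D.obj i))) :
    ∃ (j : I) (φ : j ⟶ i), D.map φ ⁻¹' Z ⊆ D.map φ ⁻¹' (O : Set (D.obj i)) := by
  refine isConstructible_induction (P := fun Z => c.π.app i ⁻¹' Z ⊆ c.π.app i ⁻¹' (O : Set _) →
      ∃ (j : I) (φ : j ⟶ i), D.map φ ⁻¹' Z ⊆ D.map φ ⁻¹' (O : Set _)) ?_ ?_ hZ h
  · intro U V hUo hU hVo _ h
    obtain ⟨j, φ, hj⟩ := exists_map_preimage_le_map_preimage D c hc (U := ⟨U, hUo⟩)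
      (V := ⟨V, hVo⟩ ⊔ O) hU.isCompact (fun x hx => by
        by_cases hxV : c.π.app i x ∈ V
        · exact Or.inl hxV
        · exact Or.inr (h ⟨hx, hxV⟩))
    exact ⟨j, φ, fun x hx => (hj hx.1).resolve_left hx.2⟩
  · intro s t hs ht h
    obtain ⟨j, φ, hj⟩ := hs (fun x hx => h (Or.inl hx))
    obtain ⟨k, ψ, hk⟩ := ht (fun x hx => h (Or.inr hx))
    obtain ⟨l, a, b, e⟩ := IsCofiltered.cospan φ ψ
    refine ⟨l, a ≫ φ, ?_⟩
    rw [Set.preimage_union, Set.union_subset_iff]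
    constructor
    · rw [← preimage_map_map, ← preimage_map_map]
      exact Set.preimage_mono hj
    · rw [e, ← preimage_map_map, ← preimage_map_map]
      exact Set.preimage_mono hk

include hc in
lemma exists_preimage_eq_empty {i : I} [CompactSpace (D.obj i)] {Z : Set (D.obj i)}
    (hZ : IsConstructible Z) (h : c.π.app i ⁻¹' Z = ∅) :
    ∃ (j : I) (φ : j ⟶ i), D.map φ ⁻¹' Z = ∅ := by
  obtain ⟨j, φ, hj⟩ := exists_preimage_subset_open D c hc hZ ⊥
    (by rw [h]; exact Set.empty_subset _)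
  exact ⟨j, φ, by simpa using hj⟩

include hc in
/-- If a compact open of stage `i` maps into a constructible set in the limit, it does so at some
stage. -/
lemma exists_preimage_subset_of_isConstructible {i : I} (V : (D.obj i).Opens)
    (hV : IsCompact (V : Set (D.obj i))) {Z : Set (D.obj i)} (hZ : IsConstructible Z)
    (h : c.π.app i ⁻¹' (V : Set (D.obj i)) ⊆ c.π.app i ⁻¹' Z) :
    ∃ (j : I) (φ : j ⟶ i), D.map φ ⁻¹' (V : Set (D.obj i)) ⊆ D.map φ ⁻¹' Z := by
  refine compact_open_induction_on (P := fun V => c.π.app i ⁻¹' (V : Set _) ⊆ c.π.app i ⁻¹' Z →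
      ∃ (j : I) (φ : j ⟶ i), D.map φ ⁻¹' (V : Set _) ⊆ D.map φ ⁻¹' Z) V hV ?_ ?_ h
  · exact fun _ => ⟨i, 𝟙 i, by simp⟩
  intro S _ W hS h
  obtain ⟨j, φ, hj⟩ := hS (fun x hx => h (Or.inl hx))
  -- the part over the affine open `W`
  let E := opensDiagram D i W.1
  let c' := opensCone D c i W.1
  have hc' : IsLimit c' := isLimitOpensCone D c hc i W.1
  have : IsAffine (E.obj (Over.mk (𝟙 i))) := W.2.preimage _
  let ι₀ := (opensDiagramι D i W.1).app (Over.mk (𝟙 i))
  have hZ' : IsConstructible (ι₀ ⁻¹' Zᶜ) := ι₀.isConstructible_preimage hZ.compl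
  obtain ⟨k, f, hk⟩ := exists_preimage_eq_empty E c' hc' hZ' (Set.eq_empty_iff_forall_notMem.mpr
    fun x hx => by
      have hfac : c'.π.app (Over.mk (𝟙 i)) ≫ ι₀ = (c.π.app i ⁻¹ᵁ W.1).ι ≫ c.π.app i := by
        simp [c', ι₀, opensCone]
      have hx' : (c'.π.app (Over.mk (𝟙 i)) ≫ ι₀) x ∉ Z := hx
      rw [hfac] at hx'
      exact hx' (h (Or.inr x.2)))
  obtain ⟨l, a, b, e⟩ := IsCofiltered.cospan φ k.hom
  refine ⟨l, a ≫ φ, ?_⟩
  rintro y (hy | hy)
  · rw [D.map_comp] at hy ⊢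
    exact hj hy
  · rw [e, D.map_comp] at hy ⊢
    by_contra hyZ
    have hf : f.left = k.hom := by simpa using Over.w f
    have : (⟨D.map b y, hy⟩ : (D.map k.hom ⁻¹ᵁ W.1).toScheme) ∈ E.map f ⁻¹' (ι₀ ⁻¹' Zᶜ) := by
      change (E.map f ≫ ι₀) _ ∉ Z
      have hfac : E.map f ≫ ι₀ = (D.map k.hom ⁻¹ᵁ W.1).ι ≫ D.map k.hom := by
        simp [E, ι₀, hf]
      rw [hfac]
      exact hyZ
    rw [hk] at this
    exact this

include hc in
/-- S4761: openness of the preimage of a constructible set is reached at some stage. -/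
lemma exists_isOpen_preimage {i : I} [CompactSpace (D.obj i)] {Z : Set (D.obj i)}
    (hZ : IsConstructible Z) (h : IsOpen (c.π.app i ⁻¹' Z)) :
    ∃ (j : I) (φ : j ⟶ i), IsOpen (D.map φ ⁻¹' Z) := by
  have := isAffineHom_π_app D c hc i
  obtain ⟨k, V, hV, hVeq⟩ := exists_preimage_eq D c hc ⟨_, h⟩
    (isCompact_preimage_of_isConstructible (c.π.app i) hZ)
  have hVeq' : c.π.app k ⁻¹' (V : Set _) = c.π.app i ⁻¹' Z := congrArg SetLike.coe hVeq
  obtain ⟨l, p, q, -⟩ := IsCofilteredOrEmpty.cone_objs i k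
  let V' := D.map q ⁻¹ᵁ V
  have hV' : IsCompact (V' : Set (D.obj l)) := QuasiCompact.isCompact_preimage _ V.2 hV
  have : CompactSpace (D.obj l) := QuasiCompact.compactSpace_of_compactSpace (D.map p)
  have hZ' : IsConstructible (D.map p ⁻¹' Z) := (D.map p).isConstructible_preimage hZ
  have heq : c.π.app l ⁻¹' (V' : Set _) = c.π.app l ⁻¹' (D.map p ⁻¹' Z) := by
    rw [preimage_π_map, ← hVeq']
    exact preimage_π_map D c q V
  obtain ⟨m, φ, hm⟩ := exists_preimage_subset_open D c hc hZ' V' heq.ge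
  obtain ⟨n, ψ, hn⟩ := exists_preimage_subset_of_isConstructible D c hc V' hV' hZ' heq.le
  obtain ⟨r, a, b, e⟩ := IsCofiltered.cospan φ ψ
  refine ⟨r, (a ≫ φ) ≫ p, ?_⟩
  have h1 : D.map ((a ≫ φ) ≫ p) ⁻¹' Z = D.map (a ≫ φ) ⁻¹' (V' : Set (D.obj l)) := by
    rw [← preimage_map_map]
    refine Set.Subset.antisymm ?_ ?_
    · rw [← preimage_map_map, ← preimage_map_map]
      exact Set.preimage_mono hm
    · rw [e, ← preimage_map_map, ← preimage_map_map]
      exact Set.preimage_mono hn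
  rw [h1]
  exact V'.isOpen.preimage (D.map _).continuous

include hc in
/-- S4762: local closedness of the preimage of a constructible set is reached at some stage. -/
lemma exists_isLocallyClosed_preimage {i : I} [CompactSpace (D.obj i)] {Z : Set (D.obj i)}
    (hZ : IsConstructible Z) (h : IsLocallyClosed (c.π.app i ⁻¹' Z)) :
    ∃ (j : I) (φ : j ⟶ i), IsLocallyClosed (D.map φ ⁻¹' Z) := by
  have := isAffineHom_π_app D c hc i
  obtain ⟨O, C, hO, hC, hW⟩ := h
  obtain ⟨O', hO', hO'c, hWO', hO'O⟩ : ∃ O' : Set c.pt, IsOpen O' ∧ IsCompact O' ∧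
      c.π.app i ⁻¹' Z ⊆ O' ∧ O' ⊆ O := by
    have hsub : ∀ x ∈ c.π.app i ⁻¹' Z, ∃ U : c.pt.Opens, IsAffineOpen U ∧ x ∈ U ∧
        (U : Set c.pt) ⊆ O := by
      intro x hx
      obtain ⟨_, ⟨U, hU, rfl⟩, hxU, hUO⟩ :=
        c.pt.isBasis_affineOpens.exists_subset_of_mem_open (hW.le hx).1 hO
      exact ⟨U, hU, hxU, hUO⟩
    choose U hU hxU hUO using hsub
    obtain ⟨t, ht⟩ := (isCompact_preimage_of_isConstructible (c.π.app i) hZ).elim_finite_subcover
      (fun x : c.π.app i ⁻¹' Z => (U x.1 x.2 : Set c.pt)) (fun x => (U x.1 x.2).2)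
      (fun x hx => Set.mem_iUnion.mpr ⟨⟨x, hx⟩, hxU x hx⟩)
    exact ⟨⋃ x ∈ t, (U x.1 x.2 : Set c.pt), isOpen_biUnion fun x _ => (U x.1 x.2).2,
      t.finite_toSet.isCompact_biUnion fun x _ => (hU x.1 x.2).isCompact, ht,
      Set.iUnion₂_subset fun x _ => hUO x.1 x.2⟩
  obtain ⟨k, V, hV, hVeq⟩ := exists_preimage_eq D c hc ⟨O', hO'⟩ hO'c
  have hVeq' : c.π.app k ⁻¹' (V : Set _) = O' := congrArg SetLike.coe hVeq
  obtain ⟨l, p, q, -⟩ := IsCofilteredOrEmpty.cone_objs i k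
  have : CompactSpace (D.obj l) := QuasiCompact.compactSpace_of_compactSpace (D.map p)
  let V' := D.map q ⁻¹ᵁ V
  have hV' : IsCompact (V' : Set (D.obj l)) := QuasiCompact.isCompact_preimage _ V.2 hV
  have hZ' : IsConstructible (D.map p ⁻¹' Z) := (D.map p).isConstructible_preimage hZ
  have hπV : c.π.app l ⁻¹' (V' : Set (D.obj l)) = O' := by
    rw [← hVeq']; exact preimage_π_map D c q V
  have hπZ : c.π.app l ⁻¹' (D.map p ⁻¹' Z) = c.π.app i ⁻¹' Z := preimage_π_map D c p Z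
  obtain ⟨m, φ, hm⟩ := exists_preimage_subset_open D c hc hZ' V' (by rw [hπV, hπZ]; exact hWO')
  -- work over `V'`
  let E := opensDiagram D l V'
  let c' := opensCone D c l V'
  have hc' : IsLimit c' := isLimitOpensCone D c hc l V'
  let ι₀ := (opensDiagramι D l V').app (Over.mk (𝟙 l))
  have : CompactSpace (E.obj (Over.mk (𝟙 l))) :=
    isCompact_iff_compactSpace.mp (QuasiCompact.isCompact_preimage _ V'.2 hV')
  have hC' : IsConstructible (ι₀ ⁻¹' (D.map p ⁻¹' Z)ᶜ) := ι₀.isConstructible_preimage hZ'.compl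
  have hopen : IsOpen (c'.π.app (Over.mk (𝟙 l)) ⁻¹' (ι₀ ⁻¹' (D.map p ⁻¹' Z)ᶜ)) := by
    have hfac : c'.π.app (Over.mk (𝟙 l)) ≫ ι₀ = (c.π.app l ⁻¹ᵁ V').ι ≫ c.π.app l := by
      simp [c', ι₀, opensCone]
    rw [← Set.preimage_comp]
    change IsOpen ((c'.π.app (Over.mk (𝟙 l)) ≫ ι₀) ⁻¹' _)
    rw [hfac, Scheme.Hom.comp_base, TopCat.coe_comp, Set.preimage_comp, Set.preimage_compl]
    erw [hπZ]
    rw [show c.π.app i ⁻¹' Z = O' ∩ C from Set.Subset.antisymm
      (fun x hx => ⟨hWO' hx, (hW.le hx).2⟩) (fun x hx => hW.ge ⟨hO'O hx.1, hx.2⟩)]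
    have heq : (c.π.app l ⁻¹ᵁ V').ι ⁻¹' (O' ∩ C)ᶜ = (c.π.app l ⁻¹ᵁ V').ι ⁻¹' Cᶜ :=
      Set.ext fun x => ⟨fun hn hxC => hn ⟨hπV.le x.2, hxC⟩, fun hn hxC => hn hxC.2⟩
    erw [heq]
    exact hC.isOpen_compl.preimage (c.π.app l ⁻¹ᵁ V').ι.continuous
  obtain ⟨n, f, hn⟩ := exists_isOpen_preimage E c' hc' hC' hopen
  obtain ⟨r, a, b, e⟩ := IsCofiltered.cospan φ n.hom
  refine ⟨r, (a ≫ φ) ≫ p, ?_⟩
  have hf : f.left = n.hom := by simpa using Over.w f
  have hfac : E.map f ≫ ι₀ = (D.map n.hom ⁻¹ᵁ V').ι ≫ D.map n.hom := by simp [E, ι₀, hf]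
  rw [← Set.preimage_comp] at hn
  change IsOpen ((E.map f ≫ ι₀) ⁻¹' _) at hn
  rw [hfac, Scheme.Hom.comp_base, TopCat.coe_comp, Set.preimage_comp, Set.preimage_compl] at hn
  obtain ⟨A, hA, hA'⟩ := isOpen_induced_iff.mp hn
  refine ⟨D.map (a ≫ φ) ⁻¹' (V' : Set (D.obj l)), (D.map b ⁻¹' A)ᶜ,
    V'.isOpen.preimage (D.map _).continuous, (hA.preimage (D.map b).continuous).isClosed_compl, ?_⟩
  ext y
  rw [← preimage_map_map]
  constructor
  · intro hy
    have hyV : D.map (a ≫ φ) y ∈ V' := by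
      rw [D.map_comp]
      refine hm ?_
      rw [D.map_comp] at hy
      exact hy
    refine ⟨hyV, fun hyA => ?_⟩
    rw [e, D.map_comp] at hyV hy
    have : (⟨D.map b y, hyV⟩ : (D.map n.hom ⁻¹ᵁ V').toScheme) ∈
        (Subtype.val ⁻¹' A : Set (D.map n.hom ⁻¹ᵁ V').toScheme) := hyA
    rw [hA'] at this
    exact this hy
  · rintro ⟨hyV, hyA⟩
    by_contra hy
    rw [e, D.map_comp] at hyV hy
    apply hyA
    have : (⟨D.map b y, hyV⟩ : (D.map n.hom ⁻¹ᵁ V').toScheme) ∈
        (Subtype.val ⁻¹' A : Set (D.map n.hom ⁻¹ᵁ V').toScheme) := by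
      rw [hA']; exact hy
    exact this

include hc in
/-- S4759: constructible subsets of the limit come from the stages. -/
lemma exists_isConstructible_preimage_eq (i₀ : I) [CompactSpace (D.obj i₀)]
    [QuasiSeparatedSpace (D.obj i₀)] {Z : Set c.pt} (hZ : IsConstructible Z) :
    ∃ (i : I) (_ : i ⟶ i₀) (Zi : Set (D.obj i)),
      IsConstructible Zi ∧ c.π.app i ⁻¹' Zi = Z := by
  have := isAffineHom_π_app D c hc i₀
  have : CompactSpace c.pt := QuasiCompact.compactSpace_of_compactSpace (c.π.app i₀)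
  induction hZ using IsConstructible.empty_union_induction with
  | open_retrocompact U hUo hU =>
    obtain ⟨k, V, hV, hVeq⟩ := exists_preimage_eq D c hc ⟨U, hUo⟩ hU.isCompact
    obtain ⟨l, p, q, -⟩ := IsCofilteredOrEmpty.cone_objs i₀ k
    have : CompactSpace (D.obj l) := QuasiCompact.compactSpace_of_compactSpace (D.map p)
    have : QuasiSeparatedSpace (D.obj l) := quasiSeparatedSpace_of_quasiSeparated (D.map p)
    refine ⟨l, p, D.map q ⁻¹' (V : Set (D.obj k)), ?_, ?_⟩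
    · exact (QuasiCompact.isCompact_preimage _ V.2 hV).isConstructible
        (V.2.preimage (D.map q).continuous)
    · rw [preimage_π_map]
      exact congrArg SetLike.coe hVeq
  | union s hs t ht hs' ht' =>
    obtain ⟨j, φ, S, hS, hSs⟩ := hs'
    obtain ⟨k, ψ, T, hT, hTt⟩ := ht'
    obtain ⟨l, a, b, -⟩ := IsCofiltered.cospan φ ψ
    refine ⟨l, a ≫ φ, D.map a ⁻¹' S ∪ D.map b ⁻¹' T,
      ((D.map a).isConstructible_preimage hS).union ((D.map b).isConstructible_preimage hT), ?_⟩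
    rw [Set.preimage_union, preimage_π_map, preimage_π_map, hSs, hTt]
  | compl s hs hs' =>
    obtain ⟨j, φ, S, hS, hSs⟩ := hs'
    exact ⟨j, φ, Sᶜ, hS.compl, by rw [Set.preimage_compl, hSs]⟩

end Groth.Agent.AffLim

end
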