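import Groth.Agent.AffLim.Stalks

/-!
# Descending surjectivity and integrality to a stage: the affine case

`E'`, `E` are cofiltered systems of affine schemes with a map `h` between them. If `O(E' l)` is
generated, up to integral extensions, by `O(E l)` and the image of `O(E' i)`, then surjectivity,
resp. integrality, of `h` in the limit is reached at some stage.
-/

universe u

open CategoryTheory Limits AlgebraicGeometry

noncomputable section

set_option backward.isDefEq.respectTransparency false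
set_option backward.defeqAttrib.useBackward true

namespace Groth.Agent.AffLim

/-- In a pushout of rings, the images of the two rings generate. -/
lemma closure_range_eq_top {R A B P : CommRingCat.{u}} {f : R ⟶ A} {g : R ⟶ B} {p : A ⟶ P}
    {q : B ⟶ P} (h : IsPushout f g p q) :
    Subring.closure (Set.range p ∪ Set.range q) = ⊤ := by
  set S := Subring.closure (Set.range p ∪ Set.range q)
  let p' : A ⟶ CommRingCat.of S := CommRingCat.ofHom (p.hom.codRestrict S fun a =>
    Subring.subset_closure (Or.inl ⟨a, rfl⟩))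
  let q' : B ⟶ CommRingCat.of S := CommRingCat.ofHom (q.hom.codRestrict S fun b =>
    Subring.subset_closure (Or.inr ⟨b, rfl⟩))
  have w : f ≫ p' = g ≫ q' := by
    ext r
    exact congr($(h.w) r)
  have hd : h.desc p' q' w ≫ CommRingCat.ofHom S.subtype = 𝟙 P := by
    refine h.hom_ext ?_ ?_
    · rw [h.inl_desc_assoc, Category.comp_id]; rfl
    · rw [h.inr_desc_assoc, Category.comp_id]; rfl
  refine eq_top_iff.mpr fun x _ => ?_
  have hx : (h.desc p' q' w x).1 = x := congr($hd x)
  exact hx ▸ (h.desc p' q' w x).2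

variable {J : Type u} [SmallCategory J] [IsCofiltered J] {E E' : J ⥤ Scheme.{u}}
  [∀ j, IsAffine (E.obj j)] [∀ j, IsAffine (E'.obj j)] {e : Cone E} (he : IsLimit e)
  {e' : Cone E'} (he' : IsLimit e') (h : E' ⟶ E) (hinf : e'.pt ⟶ e.pt)
  (hw : ∀ j, hinf ≫ e.π.app j = e'.π.app j ≫ h.app j)

include he in
/-- Finitely many global functions on the limit come from a common stage over any given one. -/
lemma exists_lift_appTop (i : J) : ∀ (n : ℕ) (x : Fin n → Γ(e.pt, ⊤)),
    ∃ (j : J) (_ : j ⟶ i) (y : Fin n → Γ(E.obj j, ⊤)), ∀ k, (e.π.app j).appTop (y k) = x k := by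
  intro n
  induction n with
  | zero => exact fun x => ⟨i, 𝟙 i, fun k => k.elim0, fun k => k.elim0⟩
  | succ n ih =>
    intro x
    obtain ⟨j, φ, y, hy⟩ := ih (fun k => x k.castSucc)
    obtain ⟨k, z, hz⟩ := exists_appTop_π_eq_of_isAffine_of_isLimit E e he (x (Fin.last n))
    obtain ⟨m, a, b, -⟩ := IsCofilteredOrEmpty.cone_objs j k
    refine ⟨m, a ≫ φ, Fin.snoc (fun t => (E.map a).appTop (y t)) ((E.map b).appTop z),
      fun t => ?_⟩
    induction t using Fin.lastCases with
    | last =>
      rw [Fin.snoc_last, ← ConcreteCategory.comp_apply, ← Scheme.Hom.comp_appTop, e.w]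
      exact hz
    | cast t =>
      rw [Fin.snoc_castSucc, ← ConcreteCategory.comp_apply, ← Scheme.Hom.comp_appTop, e.w]
      exact hy t

omit [IsCofiltered J] [∀ j, IsAffine (E.obj j)] [∀ j, IsAffine (E'.obj j)] in
lemma appTop_map_map {F : J ⥤ Scheme.{u}} {i j k : J} (a : k ⟶ j) (b : j ⟶ i)
    (s : Γ(F.obj i, ⊤)) :
    (F.map a).appTop ((F.map b).appTop s) = (F.map (a ≫ b)).appTop s := by
  rw [← ConcreteCategory.comp_apply, ← Scheme.Hom.comp_appTop, F.map_comp]

omit [IsCofiltered J] [∀ j, IsAffine (E.obj j)] [∀ j, IsAffine (E'.obj j)] in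
lemma appTop_naturality {j k : J} (a : k ⟶ j) (s : Γ(E.obj j, ⊤)) :
    (E'.map a).appTop ((h.app j).appTop s) = (h.app k).appTop ((E.map a).appTop s) := by
  rw [← ConcreteCategory.comp_apply, ← ConcreteCategory.comp_apply, ← Scheme.Hom.comp_appTop,
    ← Scheme.Hom.comp_appTop, h.naturality]

include hw he he' in
/-- A function which is in the image in the limit is in the image at some stage. -/
lemma exists_mem_range {i : J} (x : Γ(E'.obj i, ⊤))
    (hx : (e'.π.app i).appTop x ∈ Set.range hinf.appTop) :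
    ∃ (j : J) (φ : j ⟶ i), (E'.map φ).appTop x ∈ Set.range (h.app j).appTop := by
  obtain ⟨y, hy⟩ := hx
  obtain ⟨j, φ, t, ht⟩ := exists_lift_appTop he i 1 (fun _ => y)
  have hz : (e'.π.app j).appTop ((h.app j).appTop (t 0) - (E'.map φ).appTop x) = 0 := by
    rw [map_sub, sub_eq_zero, ← ConcreteCategory.comp_apply, ← Scheme.Hom.comp_appTop, ← hw,
      Scheme.Hom.comp_appTop, ConcreteCategory.comp_apply]
    erw [ht 0, hy]
    rw [← ConcreteCategory.comp_apply, ← Scheme.Hom.comp_appTop, e'.w]
    rfl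
  obtain ⟨k, ψ, hψ⟩ := exists_appTop_map_eq_zero_of_isAffine_of_isLimit E' e' he' j _ hz
  refine ⟨k, ψ ≫ φ, (E.map ψ).appTop (t 0), ?_⟩
  rw [map_sub, sub_eq_zero, appTop_map_map, appTop_naturality h ψ] at hψ
  exact hψ

include hw he he' in
/-- A function which is integral in the limit is integral at some stage. -/
lemma exists_isIntegralElem {i : J} (x : Γ(E'.obj i, ⊤))
    (hx : hinf.appTop.hom.IsIntegralElem ((e'.π.app i).appTop x)) :
    ∃ (j : J) (φ : j ⟶ i), (h.app j).appTop.hom.IsIntegralElem ((E'.map φ).appTop x) := by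
  obtain ⟨p, hp, hpx⟩ := hx
  obtain ⟨j, φ, a, ha⟩ := exists_lift_appTop he i p.natDegree (fun k => p.coeff k)
  let x' := (E'.map φ).appTop x
  let z : Γ(E'.obj j, ⊤) := x' ^ p.natDegree +
    ∑ k : Fin p.natDegree, (h.app j).appTop (a k) * x' ^ (k : ℕ)
  have hz : (e'.π.app j).appTop z = 0 := by
    rw [← hpx, hp.as_sum, map_add, map_pow, map_sum, Polynomial.eval₂_add,
      Polynomial.eval₂_pow, Polynomial.eval₂_X, Polynomial.eval₂_finsetSum, Finset.sum_range]
    have hx' : (e'.π.app j).appTop x' = (e'.π.app i).appTop x := by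
      simp only [x']
      rw [← ConcreteCategory.comp_apply, ← Scheme.Hom.comp_appTop, e'.w]
      rfl
    congr 1
    · rw [hx']
    · refine Finset.sum_congr (by simp [hp.natDegree_map]) fun k _ => ?_
      rw [map_mul, map_pow, Polynomial.eval₂_mul, Polynomial.eval₂_C, Polynomial.eval₂_pow,
        Polynomial.eval₂_X, hx', ← ConcreteCategory.comp_apply, ← Scheme.Hom.comp_appTop, ← hw,
        Scheme.Hom.comp_appTop, ConcreteCategory.comp_apply]
      erw [ha k]
      rfl
  obtain ⟨k, ψ, hψ⟩ := exists_appTop_map_eq_zero_of_isAffine_of_isLimit E' e' he' j z hz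
  refine ⟨k, ψ ≫ φ, Polynomial.X ^ p.natDegree +
    ∑ t : Fin p.natDegree, Polynomial.C ((E.map ψ).appTop (a t)) * Polynomial.X ^ (t : ℕ),
    Polynomial.monic_X_pow_add ((Polynomial.degree_sum_le _ _).trans_lt ?_), ?_⟩
  · exact (Finset.sup_lt_iff (WithBot.bot_lt_coe _)).mpr fun t _ =>
      (Polynomial.degree_C_mul_X_pow_le _ _).trans_lt (WithBot.coe_lt_coe.mpr t.2)
  · rw [← hψ, ← appTop_map_map ψ φ]
    simp only [z, x', Polynomial.eval₂_add, Polynomial.eval₂_pow, Polynomial.eval₂_X,
      Polynomial.eval₂_finsetSum, Polynomial.eval₂_mul, Polynomial.eval₂_C, map_add, map_pow,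
      map_sum, map_mul, appTop_naturality h ψ]

omit [IsCofiltered J] in
/-- Generators of `O(E' i)` over `O(E i)`. -/
lemma exists_generators (i : J) [LocallyOfFiniteType (h.app i)] :
    ∃ G : Finset Γ(E'.obj i, ⊤),
      Subring.closure (Set.range (h.app i).appTop ∪ (G : Set Γ(E'.obj i, ⊤))) = ⊤ := by
  have hft : (h.app i).appTop.hom.FiniteType :=
    (HasRingHomProperty.iff_of_isAffine (P := @LocallyOfFiniteType)).mp inferInstance
  algebraize [(h.app i).appTop.hom]
  have : Algebra.FiniteType Γ(E.obj i, ⊤) Γ(E'.obj i, ⊤) := hft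
  obtain ⟨G, hG⟩ := this.out
  refine ⟨G, ?_⟩
  have := congr(Subalgebra.toSubring $hG)
  rw [Algebra.adjoin_eq_ring_closure, Algebra.top_toSubring] at this
  exact this

omit [IsCofiltered J] [∀ j, IsAffine (E'.obj j)] in
/-- Eventual membership in a family of subrings compatible with transition maps. -/
lemma eventually_mem {i : J} (S : ∀ j, Subring Γ(E'.obj j, ⊤))
    (hS : ∀ {j k : J} (a : k ⟶ j) (x : Γ(E'.obj j, ⊤)), x ∈ S j → (E'.map a).appTop x ∈ S k)
    [IsCofiltered J] (G : Finset Γ(E'.obj i, ⊤))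
    (H : ∀ x ∈ G, ∃ (j : J) (φ : j ⟶ i), (E'.map φ).appTop x ∈ S j) :
    ∃ (j : J) (φ : j ⟶ i), ∀ x ∈ G, (E'.map φ).appTop x ∈ S j := by
  induction G using Finset.cons_induction with
  | empty => exact ⟨i, 𝟙 i, fun x hx => absurd hx (Finset.notMem_empty x)⟩
  | cons x G _ ih =>
    obtain ⟨j, φ, hj⟩ := ih fun y hy => H y (Finset.mem_cons_of_mem hy)
    obtain ⟨k, ψ, hk⟩ := H x (Finset.mem_cons_self x G)
    obtain ⟨l, a, b, e⟩ := IsCofiltered.cospan φ ψ
    refine ⟨l, a ≫ φ, fun y hy => ?_⟩
    rcases Finset.mem_cons.mp hy with rfl | hy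
    · rw [e, ← appTop_map_map]; exact hS b _ hk
    · rw [← appTop_map_map]; exact hS a _ (hj y hy)

omit [IsCofiltered J] [∀ j, IsAffine (E.obj j)] [∀ j, IsAffine (E'.obj j)] in
/-- The images of `O(E' i)` land in a subring containing the image of `O(E j)` as soon as the
images of the generators do. -/
lemma map_mem_of_generators {i j : J} (φ : j ⟶ i) (S : Subring Γ(E'.obj j, ⊤))
    (hS : Set.range (h.app j).appTop ⊆ S) {G : Finset Γ(E'.obj i, ⊤)}
    (hG : Subring.closure (Set.range (h.app i).appTop ∪ (G : Set Γ(E'.obj i, ⊤))) = ⊤)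
    (hGS : ∀ x ∈ G, (E'.map φ).appTop x ∈ S) (x : Γ(E'.obj i, ⊤)) :
    (E'.map φ).appTop x ∈ S := by
  suffices Subring.closure (Set.range (h.app i).appTop ∪ (G : Set Γ(E'.obj i, ⊤))) ≤
      S.comap (E'.map φ).appTop.hom from this (hG ▸ Subring.mem_top x)
  rw [Subring.closure_le]
  rintro y (⟨z, rfl⟩ | hy)
  · change (E'.map φ).appTop ((h.app i).appTop z) ∈ S
    rw [appTop_naturality h φ]
    exact hS ⟨_, rfl⟩
  · exact hGS y hy

include hw he he' in
/-- If `O(E' l)` is generated by `O(E l)` and `O(E' i)` then surjectivity in the limit is reached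
at some stage. -/
theorem exists_surjective_appTop {i : J} [LocallyOfFiniteType (h.app i)]
    (hgen : ∀ (l : J) (a : l ⟶ i),
      Subring.closure (Set.range (h.app l).appTop ∪ Set.range (E'.map a).appTop) = ⊤)
    (hsurj : Function.Surjective hinf.appTop) :
    ∃ (j : J) (_ : j ⟶ i), Function.Surjective (h.app j).appTop := by
  obtain ⟨G, hG⟩ := exists_generators h i
  obtain ⟨j, φ, hj⟩ := eventually_mem (E' := E') (fun j => (h.app j).appTop.hom.range)
    (fun {j k} a x ⟨y, hy⟩ =>
      ⟨(E.map a).appTop y, (appTop_naturality h a y).symm.trans (congr((E'.map a).appTop $hy))⟩)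
    G (fun x _ => exists_mem_range he he' h hinf hw x (hsurj _))
  refine ⟨j, φ, fun x => ?_⟩
  suffices Subring.closure (Set.range (h.app j).appTop ∪ Set.range (E'.map φ).appTop) ≤
      (h.app j).appTop.hom.range from this (hgen j φ ▸ Subring.mem_top x)
  rw [Subring.closure_le]
  rintro y (hy | ⟨z, rfl⟩)
  · exact hy
  · exact map_mem_of_generators h φ _ (fun _ hy => hy) hG hj z

include hw he he' in
/-- If `O(E' l)` is integral over the subring generated by `O(E l)` and `O(E' i)` then integrality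
in the limit is reached at some stage. -/
theorem exists_isIntegral_appTop {i : J} [LocallyOfFiniteType (h.app i)]
    (hgen : ∀ (l : J) (a : l ⟶ i) (x : Γ(E'.obj l, ⊤)),
      IsIntegral (Subring.closure (Set.range (h.app l).appTop ∪ Set.range (E'.map a).appTop)) x)
    (hint : hinf.appTop.hom.IsIntegral) :
    ∃ (j : J) (_ : j ⟶ i), (h.app j).appTop.hom.IsIntegral := by
  obtain ⟨G, hG⟩ := exists_generators h i
  let S : ∀ j, Subring Γ(E'.obj j, ⊤) := fun j =>
    letI := (h.app j).appTop.hom.toAlgebra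
    (integralClosure Γ(E.obj j, ⊤) Γ(E'.obj j, ⊤)).toSubring
  obtain ⟨j, φ, hj⟩ := eventually_mem S
    (fun {j k} a x (hx : (h.app j).appTop.hom.IsIntegralElem x) => by
      obtain ⟨p, hp, hpx⟩ := hx
      refine ⟨p.map (E.map a).appTop.hom, hp.map _, ?_⟩
      change Polynomial.eval₂ (h.app k).appTop.hom ((E'.map a).appTop x) _ = 0
      rw [Polynomial.eval₂_map]
      have h0 := congr((E'.map a).appTop.hom $hpx)
      rw [map_zero, Polynomial.hom_eval₂] at h0
      refine Eq.trans ?_ h0
      congr 1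
      ext s
      exact (appTop_naturality h a s).symm)
    G (fun x _ => exists_isIntegralElem he he' h hinf hw x (hint _))
  refine ⟨j, φ, fun x => ?_⟩
  let := (h.app j).appTop.hom.toAlgebra
  let T := integralClosure Γ(E.obj j, ⊤) Γ(E'.obj j, ⊤)
  have hle : Subring.closure (Set.range (h.app j).appTop ∪ Set.range (E'.map φ).appTop) ≤
      T.toSubring := by
    rw [Subring.closure_le]
    rintro y (⟨z, rfl⟩ | ⟨z, rfl⟩)
    · exact isIntegral_algebraMap
    · exact map_mem_of_generators h φ (S j) (by rintro _ ⟨w, rfl⟩; exact isIntegral_algebraMap)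
        hG hj z
  obtain ⟨p, hp, hpx⟩ := hgen j φ x
  have : IsIntegral T x := by
    refine ⟨p.map (Subring.inclusion hle), hp.map _, ?_⟩
    rw [Polynomial.eval₂_map]
    exact hpx
  exact isIntegral_trans (R := Γ(E.obj j, ⊤)) (A := T) x this

end Groth.Agent.AffLim

end
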