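import Groth.Agent.AffLim.Descend
import Mathlib.CategoryTheory.Filtered.Connected

/-!
# Descending properties of a system over a fixed scheme, and of a map into a limit

For `t : D ⟶ const S` with limit `hinf : lim D ⟶ S`, properties of `hinf` descend to `t i`.
For `h : Y ⟶ lim D`, a closed immersion `h` gives a closed immersion `Y ⟶ D i`.
-/

universe u

open CategoryTheory Limits AlgebraicGeometry

noncomputable section

set_option backward.isDefEq.respectTransparency false
set_option backward.defeqAttrib.useBackward true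

namespace Groth.Agent.AffLim

attribute [local instance] IsCofiltered.isConnected

variable {I : Type u} [SmallCategory I] [IsCofiltered I] {D : I ⥤ Scheme.{u}} {S : Scheme.{u}}
  (t : D ⟶ (Functor.const I).obj S) (c : Cone D)

omit [IsCofiltered I] in
lemma map_comp_app_const {i j : I} (a : i ⟶ j) : D.map a ≫ t.app j = t.app i := by
  simpa using t.naturality a

lemma π_comp_app_const (i j : I) : c.π.app i ≫ t.app i = c.π.app j ≫ t.app j := by
  obtain ⟨k, a, b, -⟩ := IsCofilteredOrEmpty.cone_objs i j
  rw [← c.w a, ← c.w b, Category.assoc, Category.assoc, map_comp_app_const, map_comp_app_const]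

omit [IsCofiltered I] in
instance isAffineHom_const_map {i j : I} (a : i ⟶ j) :
    IsAffineHom (((Functor.const I).obj S).map a) := by simpa using inferInstanceAs (IsAffineHom (𝟙 S))

omit [IsCofiltered I] in
/-- Comparison maps of a system over a fixed scheme are the transition maps. -/
lemma prop_comparison_const (P : MorphismProperty Scheme.{u}) [P.RespectsIso] {l k : I}
    (a : l ⟶ k) (ha : P (D.map a)) : P (comparison ((Functor.const I).obj S) D t a) := by
  have : IsIso (pullback.fst (t.app k) (((Functor.const I).obj S).map a)) :=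
    inferInstanceAs (IsIso (pullback.fst (t.app k) (𝟙 S)))
  rw [← P.cancel_right_of_respectsIso _ (pullback.fst (t.app k) (((Functor.const I).obj S).map a)),
    comparison_fst]
  exact ha

variable (hc : IsLimit c) [∀ {i j} (f : i ⟶ j), IsAffineHom (D.map f)] (i₀ : I)
  [∀ i, CompactSpace (D.obj i)] [∀ i, QuasiSeparatedSpace (D.obj i)] [QuasiSeparatedSpace S]

include hc in
/-- S9200 -/
theorem exists_isAffineHom_const [CompactSpace S] [IsAffineHom (c.π.app i₀ ≫ t.app i₀)] :
    ∃ i₁ : I, ∀ (i : I) (_ : i ⟶ i₁), IsAffineHom (t.app i) := by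
  have : CompactSpace (((Functor.const I).obj S).obj i₀) := ‹CompactSpace S›
  have : ∀ k, QuasiCompact (t.app k) := fun k =>
    quasiCompact_of_compactSpace (Y := S) (t.app k)
  obtain ⟨j, -, hj⟩ := exists_isAffineHom _ (constCone I S) (isLimitConstCone I S) D c hc t
    (c.π.app i₀ ≫ t.app i₀) (fun j => by simpa using π_comp_app_const t c i₀ j) (i := i₀)
  exact ⟨j, hj⟩

include hc in
/-- Closed immersions over a fixed scheme. -/
theorem exists_isClosedImmersion_const [CompactSpace S]
    (hD : ∀ {i j} (a : i ⟶ j), IsClosedImmersion (D.map a))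
    [∀ i, LocallyOfFiniteType (t.app i)] [IsClosedImmersion (c.π.app i₀ ≫ t.app i₀)] :
    ∃ i₁ : I, ∀ (i : I) (_ : i ⟶ i₁), IsClosedImmersion (t.app i) := by
  have : CompactSpace (((Functor.const I).obj S).obj i₀) := ‹CompactSpace S›
  have : ∀ k, QuasiCompact (t.app k) := fun k =>
    quasiCompact_of_compactSpace (Y := S) (t.app k)
  obtain ⟨j, -, hj⟩ := exists_isClosedImmersion _ (constCone I S) (isLimitConstCone I S) D c hc t
    (c.π.app i₀ ≫ t.app i₀) (fun j => by simpa using π_comp_app_const t c i₀ j)
    (fun a => prop_comparison_const t @IsClosedImmersion a (hD a)) (i := i₀)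
  exact ⟨j, hj⟩

include hc in
/-- Finite morphisms over a fixed scheme. -/
theorem exists_isFinite_const [CompactSpace S]
    (hD : ∀ {i j} (a : i ⟶ j), IsFinite (D.map a))
    [∀ i, LocallyOfFiniteType (t.app i)] [IsIntegralHom (c.π.app i₀ ≫ t.app i₀)] :
    ∃ i₁ : I, ∀ (i : I) (_ : i ⟶ i₁), IsFinite (t.app i) := by
  have : CompactSpace (((Functor.const I).obj S).obj i₀) := ‹CompactSpace S›
  have : ∀ k, QuasiCompact (t.app k) := fun k =>
    quasiCompact_of_compactSpace (Y := S) (t.app k)
  obtain ⟨j, -, hj⟩ := exists_isFinite _ (constCone I S) (isLimitConstCone I S) D c hc t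
    (c.π.app i₀ ≫ t.app i₀) (fun j => by simpa using π_comp_app_const t c i₀ j)
    (fun a => prop_comparison_const t @IsFinite a (hD a)) (i := i₀)
  exact ⟨j, hj⟩

include hc in
/-- S9201 -/
theorem exists_isImmersion_const
    (hD : ∀ {i j} (a : i ⟶ j), IsClosedImmersion (D.map a))
    [∀ i, LocallyOfFiniteType (t.app i)] [IsImmersion (c.π.app i₀ ≫ t.app i₀)] :
    ∃ i₁ : I, ∀ (i : I) (_ : i ⟶ i₁), IsImmersion (t.app i) := by
  have := isAffineHom_π_app D c hc i₀
  have : CompactSpace c.pt := QuasiCompact.compactSpace_of_compactSpace (c.π.app i₀)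
  -- a compact open of `S` containing the image of `D i₀`
  obtain ⟨U, hUc, hrU⟩ : ∃ U : S.Opens, IsCompact (U : Set S) ∧
      (Set.range (t.app i₀) : Set S) ⊆ (U : Set S) := by
    obtain ⟨s, hs⟩ := CompactSpace.elim_nhds_subcover
      (fun x : D.obj i₀ => ((t.app i₀) ⁻¹ᵁ (S.affineCover.f (S.affineCover.idx (t.app i₀ x))).opensRange :
        Set (D.obj i₀)))
      (fun x => ((t.app i₀) ⁻¹ᵁ _).2.mem_nhds (S.affineCover.covers (t.app i₀ x)))
    refine ⟨⨆ x ∈ s, (S.affineCover.f (S.affineCover.idx (t.app i₀ x))).opensRange, ?_, ?_⟩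
    · simp only [TopologicalSpace.Opens.coe_iSup]
      exact s.finite_toSet.isCompact_biUnion fun x _ => isCompact_range (Scheme.Hom.continuous _)
    · rintro _ ⟨x, rfl⟩
      obtain ⟨y, hy, hxy⟩ := Set.mem_iUnion₂.mp (hs.ge (Set.mem_univ x))
      exact TopologicalSpace.Opens.mem_iSup.mpr
        ⟨y, TopologicalSpace.Opens.mem_iSup.mpr ⟨hy, hxy⟩⟩
  have hr : ∀ k : Over i₀, Set.range (t.app k.left) ⊆ Set.range U.ι := fun k => by
    rw [Scheme.Opens.range_ι, ← map_comp_app_const t k.hom]
    rintro _ ⟨x, rfl⟩
    exact hrU ⟨D.map k.hom x, rfl⟩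
  let t' : Over.forget i₀ ⋙ D ⟶ (Functor.const (Over i₀)).obj U.toScheme :=
    { app := fun k => IsOpenImmersion.lift U.ι (t.app k.left) (hr k)
      naturality := fun k l a => by
        dsimp
        rw [Category.comp_id, ← cancel_mono U.ι, Category.assoc, IsOpenImmersion.lift_fac,
          IsOpenImmersion.lift_fac, map_comp_app_const] }
  have ht' : ∀ k, t'.app k ≫ U.ι = t.app k.left := fun k => IsOpenImmersion.lift_fac _ _ _
  let c' := c.whisker (Over.forget i₀)
  have hc' : IsLimit c' := (Functor.Initial.isLimitWhiskerEquiv (Over.forget i₀) c).symm hc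
  let o : Over i₀ := Over.mk (𝟙 i₀)
  have : CompactSpace (((Functor.const (Over i₀)).obj U.toScheme).obj o) :=
    isCompact_iff_compactSpace.mp hUc
  have : QuasiSeparatedSpace U.toScheme := quasiSeparatedSpace_of_quasiSeparated U.ι
  have : ∀ k, QuasiSeparatedSpace ((Over.forget i₀ ⋙ D).obj k) := fun k =>
    inferInstanceAs (QuasiSeparatedSpace (D.obj k.left))
  have : ∀ k, CompactSpace ((Over.forget i₀ ⋙ D).obj k) := fun k =>
    inferInstanceAs (CompactSpace (D.obj k.left))
  have : ∀ k, LocallyOfFiniteType (t'.app k) := fun k => by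
    have : LocallyOfFiniteType (t'.app k ≫ U.ι) := by rw [ht']; infer_instance
    exact locallyOfFiniteType_of_comp (t'.app k) U.ι
  have : ∀ k, QuasiCompact (t'.app k) := fun k =>
    quasiCompact_of_compactSpace (Y := U.toScheme) (t'.app k)
  have : IsImmersion (c'.π.app o ≫ t'.app o) := by
    have : IsImmersion ((c'.π.app o ≫ t'.app o) ≫ U.ι) := by
      rw [Category.assoc, ht']; assumption
    exact IsImmersion.of_comp _ U.ι
  have : CompactSpace c'.pt := ‹CompactSpace c.pt›
  have : ∀ {k l : Over i₀} (a : k ⟶ l), IsAffineHom ((Over.forget i₀ ⋙ D).map a) := fun a =>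
    inferInstanceAs (IsAffineHom (D.map a.left))
  obtain ⟨j, -, hj⟩ := exists_isImmersion _ (constCone (Over i₀) U.toScheme)
    (isLimitConstCone (Over i₀) U.toScheme) (Over.forget i₀ ⋙ D) c' hc' t'
    (c'.π.app o ≫ t'.app o) (fun k => by simpa using π_comp_app_const t' c' o k)
    (fun a => prop_comparison_const t' @IsClosedImmersion a (hD _)) (i := o)
  refine ⟨j.left, fun i a => ?_⟩
  have := hj (Over.mk (a ≫ j.hom)) (Over.homMk a)
  have e := ht' (Over.mk (a ≫ j.hom))
  dsimp at e
  rw [← e]
  infer_instance

/-- `D k ×_S D k`. -/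
@[simps]
def pullbackSquare : I ⥤ Scheme.{u} where
  obj k := pullback (t.app k) (t.app k)
  map {k l} a := pullback.map _ _ _ _ (D.map a) (D.map a) (𝟙 S)
    (by simp [map_comp_app_const]) (by simp [map_comp_app_const])
  map_id k := by ext <;> simp
  map_comp a b := by ext <;> simp

/-- The diagonals `D k ⟶ D k ×_S D k`. -/
@[simps]
def diagonalHom : D ⟶ pullbackSquare t where
  app k := pullback.diagonal (t.app k)
  naturality k l a := by apply pullback.hom_ext <;> simp

/-- The cone over `pullbackSquare`. -/
@[simps]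
def pullbackSquareCone : Cone (pullbackSquare t) where
  pt := pullback (c.π.app i₀ ≫ t.app i₀) (c.π.app i₀ ≫ t.app i₀)
  π :=
    { app := fun k => pullback.map _ _ _ _ (c.π.app k) (c.π.app k) (𝟙 S)
        (by simp [π_comp_app_const t c i₀ k]) (by simp [π_comp_app_const t c i₀ k])
      naturality := fun k l a => by apply pullback.hom_ext <;> simp }

/-- `lim D ×_S lim D` is the limit of `D k ×_S D k`. -/
def isLimitPullbackSquareCone : IsLimit (pullbackSquareCone t c i₀) where
  lift s := pullback.lift
    (hc.lift ⟨s.pt, { app := fun k => s.π.app k ≫ pullback.fst _ _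
                      naturality := fun k l a => by simp [← s.w a] }⟩)
    (hc.lift ⟨s.pt, { app := fun k => s.π.app k ≫ pullback.snd _ _
                      naturality := fun k l a => by simp [← s.w a] }⟩)
    (by simp [pullback.condition])
  fac s k := by apply pullback.hom_ext <;> simp
  uniq s m hm := by
    apply pullback.hom_ext <;> refine hc.hom_ext fun k => ?_
    · have := congr($(hm k) ≫ pullback.fst _ _)
      simp at this
      simp [this]
    · have := congr($(hm k) ≫ pullback.snd _ _)
      simp at this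
      simp [this]

omit [IsCofiltered I] [∀ i, CompactSpace (D.obj i)] [∀ i, QuasiSeparatedSpace (D.obj i)]
  [QuasiSeparatedSpace S] in
lemma isClosedImmersion_comparison_diagonal {l k : I} (a : l ⟶ k) :
    IsClosedImmersion (comparison (pullbackSquare t) D (diagonalHom t) a) := by
  let q := comparison (pullbackSquare t) D (diagonalHom t) a
  let sn := pullback.snd ((diagonalHom t).app k) ((pullbackSquare t).map a)
  let ρ : pullback ((diagonalHom t).app k) ((pullbackSquare t).map a) ⟶
      pullback (D.map a) (D.map a) :=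
    pullback.lift (sn ≫ pullback.fst (t.app l) (t.app l)) (sn ≫ pullback.snd (t.app l) (t.app l))
      (by
        have h1 := congr($(pullback.condition (f := (diagonalHom t).app k)
          (g := (pullbackSquare t).map a)) ≫ pullback.fst _ _)
        have h2 := congr($(pullback.condition (f := (diagonalHom t).app k)
          (g := (pullbackSquare t).map a)) ≫ pullback.snd _ _)
        simp [sn] at h1 h2 ⊢
        rw [← h1, ← h2])
  have hρ : ρ ≫ pullback.map (D.map a) (D.map a) (t.app l) (t.app l) (𝟙 _) (𝟙 _) (t.app k)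
      (by simp [map_comp_app_const]) (by simp [map_comp_app_const]) = sn := by
    apply pullback.hom_ext <;> simp [ρ, sn]
  have : IsImmersion sn := MorphismProperty.pullback_snd (P := @IsImmersion) _ _
    (inferInstanceAs (IsImmersion (pullback.diagonal (t.app k))))
  have : IsImmersion ρ := by
    have : IsImmersion (ρ ≫ pullback.map (D.map a) (D.map a) (t.app l) (t.app l) (𝟙 _) (𝟙 _)
        (t.app k) (by simp [map_comp_app_const]) (by simp [map_comp_app_const])) := by
      rw [hρ]; infer_instance
    exact IsImmersion.of_comp ρ (pullback.map (D.map a) (D.map a) (t.app l) (t.app l) (𝟙 _) (𝟙 _)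
      (t.app k) _ _)
  have : IsClosedImmersion (q ≫ ρ) := by
    rw [show q ≫ ρ = pullback.diagonal (D.map a) by
      apply pullback.hom_ext <;>
        simp only [q, ρ, sn, Category.assoc, pullback.lift_fst, pullback.lift_snd,
          comparison_snd_assoc] <;> simp]
    infer_instance
  exact IsClosedImmersion.of_comp q ρ

include hc in
/-- S9199 -/
theorem exists_isSeparated_const [IsSeparated (c.π.app i₀ ≫ t.app i₀)] :
    ∃ i₁ : I, ∀ (i : I) (_ : i ⟶ i₁), IsSeparated (t.app i) := by
  have hqc : ∀ k, QuasiCompact (t.app k) := fun k =>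
    quasiCompact_of_compactSpace (Y := S) (t.app k)
  have hqs : ∀ k, QuasiSeparated (t.app k) := fun k =>
    QuasiSeparated.of_quasiSeparatedSpace (t.app k)
  have : ∀ {k l : I} (a : k ⟶ l), IsAffineHom ((pullbackSquare t).map a) := fun a => by
    dsimp only [pullbackSquare_map]
    exact MorphismProperty.pullbackMap (P := @IsAffineHom) (i₁ := D.map a) (i₂ := D.map a)
      inferInstance inferInstance (map_comp_app_const t a).symm (map_comp_app_const t a).symm
  have : CompactSpace ((pullbackSquare t).obj i₀) :=
    QuasiCompact.compactSpace_of_compactSpace (pullback.fst (t.app i₀) (t.app i₀))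
  have : ∀ k, QuasiSeparatedSpace ((pullbackSquare t).obj k) := fun k =>
    quasiSeparatedSpace_of_quasiSeparated (pullback.fst (t.app k) (t.app k))
  have : ∀ k, QuasiCompact ((diagonalHom t).app k) := fun k => quasiCompact_of_compactSpace _
  have : ∀ k, LocallyOfFiniteType ((diagonalHom t).app k) := fun k =>
    inferInstanceAs (LocallyOfFiniteType (pullback.diagonal (t.app k)))
  have : IsClosedImmersion (pullback.diagonal (c.π.app i₀ ≫ t.app i₀)) := inferInstance
  obtain ⟨j, -, hj⟩ := exists_isClosedImmersion _ _ (isLimitPullbackSquareCone t c hc i₀) D c hc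
    (diagonalHom t) (pullback.diagonal (c.π.app i₀ ≫ t.app i₀))
    (fun k => by apply pullback.hom_ext <;> simp)
    (fun a => isClosedImmersion_comparison_diagonal t a) (i := i₀)
  exact ⟨j, fun i a => ⟨hj i a⟩⟩

omit [∀ i, QuasiSeparatedSpace (D.obj i)] [QuasiSeparatedSpace S] in
include hc in
/-- S2076 -/
theorem exists_isClosedImmersion_comp_π {Y : Scheme.{u}} (h : Y ⟶ c.pt) [IsClosedImmersion h]
    [∀ i, LocallyOfFiniteType (h ≫ c.π.app i)] :
    ∃ i : I, IsClosedImmersion (h ≫ c.π.app i) := by
  obtain ⟨i⟩ := (inferInstanceAs (Nonempty I) : Nonempty I)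
  have := isAffineHom_π_app D c hc
  let η : (Functor.const I).obj Y ⟶ D :=
    { app := fun k => h ≫ c.π.app k
      naturality := fun k l a => by simp }
  have : ∀ k, IsAffineHom (η.app k) := fun k =>
    inferInstanceAs (IsAffineHom (h ≫ c.π.app k))
  have : ∀ k, LocallyOfFiniteType (η.app k) := fun k =>
    inferInstanceAs (LocallyOfFiniteType (h ≫ c.π.app k))
  obtain ⟨j, -, hj⟩ := exists_isClosedImmersion_of_isAffineHom D c hc _ (constCone I Y)
    (isLimitConstCone I Y) η h (fun k => by simp [η]) (fun {l k} a => by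
      have : IsClosedImmersion
          (comparison D ((Functor.const I).obj Y) η a ≫ pullback.fst _ _) := by
        rw [comparison_fst]; simpa using inferInstanceAs (IsClosedImmersion (𝟙 Y))
      have : IsAffineHom (pullback.fst (η.app k) (D.map a)) :=
        MorphismProperty.pullback_fst _ _ inferInstance
      exact IsClosedImmersion.of_comp _ (pullback.fst (η.app k) (D.map a))) (i₁ := i)
  exact ⟨j, hj j (𝟙 j)⟩

end Groth.Agent.AffLim

end
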