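import Groth.Agent.AffLim.Descend

/-!
# Descending properties of a base change to a stage

`f₀ : X₀ ⟶ Y₀` over `D i₀`; `f` its base change to the limit. `baseChangeMap` is the induced map of
systems `X₀ ×_{D i₀} D j ⟶ Y₀ ×_{D i₀} D j`.
-/

universe u

open CategoryTheory Limits AlgebraicGeometry

noncomputable section

set_option backward.isDefEq.respectTransparency false
set_option backward.defeqAttrib.useBackward true

namespace Groth.Agent.AffLim

/-- Two base changes of the same morphism along isomorphic maps. -/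
lemma prop_iff_of_isPullback (P : MorphismProperty Scheme.{u}) [P.RespectsIso]
    {X₀ Y₀ X Y X' Y' : Scheme.{u}} {f₀ : X₀ ⟶ Y₀} {f : X ⟶ Y} {qX : X ⟶ X₀} {qY : Y ⟶ Y₀}
    (hX : IsPullback qX f f₀ qY) {f' : X' ⟶ Y'} {qX' : X' ⟶ X₀} {qY' : Y' ⟶ Y₀}
    (hX' : IsPullback qX' f' f₀ qY') (e : Y ≅ Y') (he : e.hom ≫ qY' = qY) : P f ↔ P f' := by
  have h'' : IsPullback qX (f ≫ e.hom) f₀ qY' :=
    hX.of_iso (Iso.refl _) (Iso.refl _) e (Iso.refl _) (by simp) (by simp) (by simp)
      (by simp [he])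
  rw [← P.cancel_right_of_respectsIso f e.hom, ← h''.isoIsPullback_hom_snd _ _ hX',
    P.cancel_left_of_respectsIso]

variable {I : Type u} [SmallCategory I] (D : I ⥤ Scheme.{u}) (c : Cone D) (hc : IsLimit c)
  (i₀ : I) {X₀ Y₀ : Scheme.{u}} (f₀ : X₀ ⟶ Y₀) (g₀ : Y₀ ⟶ D.obj i₀)

/-- The map of base change systems induced by `f₀`. -/
def baseChangeMap : baseChange D i₀ (f₀ ≫ g₀) ⟶ baseChange D i₀ g₀ where
  app k := pullback.map _ _ _ _ f₀ (𝟙 _) (𝟙 _) (by simp) (by simp)
  naturality k l a := by apply pullback.hom_ext <;> simp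

/-- The map on limits induced by `f₀`. -/
def baseChangeMapLimit :
    (baseChangeCone D c i₀ (f₀ ≫ g₀)).pt ⟶ (baseChangeCone D c i₀ g₀).pt :=
  pullback.map _ _ _ _ f₀ (𝟙 _) (𝟙 _) (by simp) (by simp)

lemma baseChangeMapLimit_w (k : Over i₀) :
    baseChangeMapLimit D c i₀ f₀ g₀ ≫ (baseChangeCone D c i₀ g₀).π.app k =
      (baseChangeCone D c i₀ (f₀ ≫ g₀)).π.app k ≫ (baseChangeMap D i₀ f₀ g₀).app k := by
  apply pullback.hom_ext <;> simp [baseChangeMap, baseChangeMapLimit]

lemma isPullback_map_fst {S' : Scheme.{u}} (ψ : S' ⟶ D.obj i₀) :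
    IsPullback (pullback.fst (f₀ ≫ g₀) ψ)
      (pullback.map (f₀ ≫ g₀) ψ g₀ ψ f₀ (𝟙 _) (𝟙 _) (by simp) (by simp)) f₀
      (pullback.fst g₀ ψ) := by
  refine IsPullback.of_bot ?_ (by simp) (IsPullback.of_hasPullback g₀ ψ)
  simpa using IsPullback.of_hasPullback (f₀ ≫ g₀) ψ

lemma isPullback_baseChangeMap (k : Over i₀) :
    IsPullback (pullback.fst _ _) ((baseChangeMap D i₀ f₀ g₀).app k) f₀ (pullback.fst _ _) :=
  isPullback_map_fst D i₀ f₀ g₀ (D.map k.hom)

/-- The comparison maps of the base change systems are isomorphisms. -/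
lemma isIso_comparison_baseChangeMap {l k : Over i₀} (a : l ⟶ k) :
    IsIso (comparison (baseChange D i₀ g₀) (baseChange D i₀ (f₀ ≫ g₀))
      (baseChangeMap D i₀ f₀ g₀) a) := by
  have h1 : IsPullback ((baseChange D i₀ (f₀ ≫ g₀)).map a) ((baseChangeMap D i₀ f₀ g₀).app l)
      ((baseChangeMap D i₀ f₀ g₀).app k) ((baseChange D i₀ g₀).map a) := by
    refine IsPullback.of_right ?_ ((baseChangeMap D i₀ f₀ g₀).naturality a)
      (isPullback_baseChangeMap D i₀ f₀ g₀ k)
    simpa [pullback.map] using isPullback_baseChangeMap D i₀ f₀ g₀ l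
  rw [show comparison _ _ _ a = h1.isoPullback.hom from
    pullback.hom_ext ((comparison_fst _ _ _ a).trans h1.isoPullback_hom_fst.symm)
      ((comparison_snd _ _ _ a).trans h1.isoPullback_hom_snd.symm)]
  infer_instance

variable {X Y : Scheme.{u}} {f : X ⟶ Y} {g : Y ⟶ c.pt} {qY : Y ⟶ Y₀} {qX : X ⟶ X₀}

lemma prop_baseChangeMapLimit (P : MorphismProperty Scheme.{u}) [P.RespectsIso]
    (hY : IsPullback qY g g₀ (c.π.app i₀)) (hX : IsPullback qX f f₀ qY) :
    P f ↔ P (baseChangeMapLimit D c i₀ f₀ g₀) :=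
  prop_iff_of_isPullback P hX (isPullback_map_fst D i₀ f₀ g₀ (c.π.app i₀)) hY.isoPullback
    hY.isoPullback_hom_fst

/-- The comparison of `pullback.diagonal f` with `pullback.diagonal f₀`. -/
lemma isPullback_diagonal (hX : IsPullback qX f f₀ qY) :
    IsPullback qX (pullback.diagonal f) (pullback.diagonal f₀)
        (pullback.map f f f₀ f₀ qX qX qY hX.w.symm hX.w.symm) ∧
      IsPullback (pullback.map f f f₀ f₀ qX qX qY hX.w.symm hX.w.symm)
        (pullback.fst f f ≫ f) (pullback.fst f₀ f₀ ≫ f₀) qY := by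
  let m := pullback.map f f f₀ f₀ qX qX qY hX.w.symm hX.w.symm
  have h1 : IsPullback m (pullback.fst f f) (pullback.fst f₀ f₀) qX := by
    refine IsPullback.of_right ?_ (by simp [m]) (IsPullback.of_hasPullback f₀ f₀).flip
    rw [show m ≫ pullback.snd f₀ f₀ = pullback.snd f f ≫ qX by simp [m], hX.w]
    exact (IsPullback.of_hasPullback f f).flip.paste_horiz hX
  refine ⟨IsPullback.of_bot ?_ (pullback.hom_ext (by simp) (by simp)) h1, h1.paste_vert hX⟩
  simpa using IsPullback.of_vert_isIso (f := 𝟙 X₀) ⟨by simp⟩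

section Descent

variable [IsCofiltered I] [∀ {i j} (f : i ⟶ j), IsAffineHom (D.map f)]

instance quasiSeparatedSpace_baseChange [QuasiSeparatedSpace X₀] (a : X₀ ⟶ D.obj i₀) (k : Over i₀) :
    QuasiSeparatedSpace ((baseChange D i₀ a).obj k) :=
  have : IsAffineHom (pullback.fst a (D.map k.hom)) :=
    MorphismProperty.pullback_fst (P := @IsAffineHom) a (D.map k.hom) inferInstance
  quasiSeparatedSpace_of_quasiSeparated (pullback.fst a (D.map k.hom))

omit [IsCofiltered I] in
lemma prop_baseChangeMap (P : MorphismProperty Scheme.{u}) [P.IsStableUnderBaseChange]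
    (h : P f₀) (k : Over i₀) : P ((baseChangeMap D i₀ f₀ g₀).app k) :=
  MorphismProperty.of_isPullback (isPullback_baseChangeMap D i₀ f₀ g₀ k) h

variable [CompactSpace X₀] [QuasiSeparatedSpace X₀] [CompactSpace Y₀] [QuasiSeparatedSpace Y₀]

omit [IsCofiltered I] [CompactSpace Y₀] [QuasiSeparatedSpace X₀] in
lemma quasiCompact_baseChangeMap (k : Over i₀) :
    QuasiCompact ((baseChangeMap D i₀ f₀ g₀).app k) :=
  prop_baseChangeMap D i₀ f₀ g₀ @QuasiCompact (quasiCompact_of_compactSpace _) k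

include hc in
theorem exists_isAffineHom_baseChange (hY : IsPullback qY g g₀ (c.π.app i₀))
    (hX : IsPullback qX f f₀ qY) [IsAffineHom f] :
    ∃ k : Over i₀, IsAffineHom ((baseChangeMap D i₀ f₀ g₀).app k) := by
  have : IsAffineHom (baseChangeMapLimit D c i₀ f₀ g₀) :=
    (prop_baseChangeMapLimit D c i₀ f₀ g₀ @IsAffineHom hY hX).mp inferInstance
  have := quasiCompact_baseChangeMap D i₀ f₀ g₀
  obtain ⟨k, -, hk⟩ := exists_isAffineHom _ _ (nonempty_isLimit_baseChangeCone D c hc i₀ g₀).some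
    _ _ (nonempty_isLimit_baseChangeCone D c hc i₀ (f₀ ≫ g₀)).some (baseChangeMap D i₀ f₀ g₀)
    (baseChangeMapLimit D c i₀ f₀ g₀) (baseChangeMapLimit_w D c i₀ f₀ g₀) (i := Over.mk (𝟙 i₀))
  exact ⟨k, hk k (𝟙 k)⟩

variable [LocallyOfFiniteType f₀]

include hc in
theorem exists_isClosedImmersion_baseChange (hY : IsPullback qY g g₀ (c.π.app i₀))
    (hX : IsPullback qX f f₀ qY) [IsClosedImmersion f] :
    ∃ k : Over i₀, IsClosedImmersion ((baseChangeMap D i₀ f₀ g₀).app k) := by
  have : IsClosedImmersion (baseChangeMapLimit D c i₀ f₀ g₀) :=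
    (prop_baseChangeMapLimit D c i₀ f₀ g₀ @IsClosedImmersion hY hX).mp inferInstance
  have := quasiCompact_baseChangeMap D i₀ f₀ g₀
  have := prop_baseChangeMap D i₀ f₀ g₀ @LocallyOfFiniteType inferInstance
  obtain ⟨k, -, hk⟩ := exists_isClosedImmersion _ _
    (nonempty_isLimit_baseChangeCone D c hc i₀ g₀).some
    _ _ (nonempty_isLimit_baseChangeCone D c hc i₀ (f₀ ≫ g₀)).some (baseChangeMap D i₀ f₀ g₀)
    (baseChangeMapLimit D c i₀ f₀ g₀) (baseChangeMapLimit_w D c i₀ f₀ g₀)
    (fun a => have := isIso_comparison_baseChangeMap D i₀ f₀ g₀ a; inferInstance)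
    (i := Over.mk (𝟙 i₀))
  exact ⟨k, hk k (𝟙 k)⟩

include hc in
theorem exists_isFinite_baseChange (hY : IsPullback qY g g₀ (c.π.app i₀))
    (hX : IsPullback qX f f₀ qY) [IsIntegralHom f] :
    ∃ k : Over i₀, IsFinite ((baseChangeMap D i₀ f₀ g₀).app k) := by
  have : IsIntegralHom (baseChangeMapLimit D c i₀ f₀ g₀) :=
    (prop_baseChangeMapLimit D c i₀ f₀ g₀ @IsIntegralHom hY hX).mp inferInstance
  have := quasiCompact_baseChangeMap D i₀ f₀ g₀
  have := prop_baseChangeMap D i₀ f₀ g₀ @LocallyOfFiniteType inferInstance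
  obtain ⟨k, -, hk⟩ := exists_isFinite _ _
    (nonempty_isLimit_baseChangeCone D c hc i₀ g₀).some
    _ _ (nonempty_isLimit_baseChangeCone D c hc i₀ (f₀ ≫ g₀)).some (baseChangeMap D i₀ f₀ g₀)
    (baseChangeMapLimit D c i₀ f₀ g₀) (baseChangeMapLimit_w D c i₀ f₀ g₀)
    (fun a => have := isIso_comparison_baseChangeMap D i₀ f₀ g₀ a; inferInstance)
    (i := Over.mk (𝟙 i₀))
  exact ⟨k, hk k (𝟙 k)⟩

include hc in
theorem exists_isImmersion_baseChange (hY : IsPullback qY g g₀ (c.π.app i₀))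
    (hX : IsPullback qX f f₀ qY) [IsImmersion f] :
    ∃ k : Over i₀, IsImmersion ((baseChangeMap D i₀ f₀ g₀).app k) := by
  have : IsImmersion (baseChangeMapLimit D c i₀ f₀ g₀) :=
    (prop_baseChangeMapLimit D c i₀ f₀ g₀ @IsImmersion hY hX).mp inferInstance
  have := quasiCompact_baseChangeMap D i₀ f₀ g₀
  have := prop_baseChangeMap D i₀ f₀ g₀ @LocallyOfFiniteType inferInstance
  have : CompactSpace ↥(baseChangeCone D c i₀ (f₀ ≫ g₀)).pt :=
    have := isAffineHom_π_app D c hc i₀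
    have : IsAffineHom (pullback.fst (f₀ ≫ g₀) (c.π.app i₀)) :=
      MorphismProperty.pullback_fst _ _ inferInstance
    QuasiCompact.compactSpace_of_compactSpace (pullback.fst (f₀ ≫ g₀) (c.π.app i₀))
  obtain ⟨k, -, hk⟩ := exists_isImmersion _ _
    (nonempty_isLimit_baseChangeCone D c hc i₀ g₀).some
    _ _ (nonempty_isLimit_baseChangeCone D c hc i₀ (f₀ ≫ g₀)).some (baseChangeMap D i₀ f₀ g₀)
    (baseChangeMapLimit D c i₀ f₀ g₀) (baseChangeMapLimit_w D c i₀ f₀ g₀)
    (fun a => have := isIso_comparison_baseChangeMap D i₀ f₀ g₀ a; inferInstance)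
    (i := Over.mk (𝟙 i₀))
  exact ⟨k, hk k (𝟙 k)⟩

end Descent

section Diagonal

variable [IsCofiltered I] [∀ {i j} (f : i ⟶ j), IsAffineHom (D.map f)]
  [CompactSpace X₀] [QuasiSeparatedSpace X₀] [CompactSpace Y₀] [QuasiSeparatedSpace Y₀]

omit [IsCofiltered I] [∀ {i j} (f : i ⟶ j), IsAffineHom (D.map f)] in
omit [CompactSpace X₀] [QuasiSeparatedSpace X₀] [CompactSpace Y₀] [QuasiSeparatedSpace Y₀] in
/-- The diagonal of a stage is a stage of the diagonal. -/
lemma prop_diagonal_iff (P : MorphismProperty Scheme.{u}) [P.RespectsIso] (k : Over i₀) :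
    P (pullback.diagonal ((baseChangeMap D i₀ f₀ g₀).app k)) ↔
      P ((baseChangeMap D i₀ (pullback.diagonal f₀) (pullback.fst f₀ f₀ ≫ f₀ ≫ g₀)).app k) := by
  obtain ⟨h1, h2⟩ := isPullback_diagonal f₀ (isPullback_baseChangeMap D i₀ f₀ g₀ k)
  have h3 := h2.paste_vert (IsPullback.of_hasPullback g₀ (D.map k.hom))
  simp only [Category.assoc] at h3
  exact prop_iff_of_isPullback P h1 (isPullback_baseChangeMap D i₀ _ _ k) h3.isoPullback
    h3.isoPullback_hom_fst

include hc in
theorem exists_isSeparated_baseChange (hY : IsPullback qY g g₀ (c.π.app i₀))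
    (hX : IsPullback qX f f₀ qY) [IsSeparated f] :
    ∃ k : Over i₀, IsSeparated ((baseChangeMap D i₀ f₀ g₀).app k) := by
  have : QuasiCompact f₀ := quasiCompact_of_compactSpace _
  have : CompactSpace ↥(pullback f₀ f₀) :=
    QuasiCompact.compactSpace_of_compactSpace (pullback.fst f₀ f₀)
  have : QuasiSeparatedSpace ↥(pullback f₀ f₀) :=
    quasiSeparatedSpace_of_quasiSeparated (pullback.fst f₀ f₀)
  obtain ⟨h1, h2⟩ := isPullback_diagonal f₀ hX
  have h3 := h2.paste_vert hY
  simp only [Category.assoc] at h3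
  obtain ⟨k, hk⟩ := exists_isClosedImmersion_baseChange D c hc i₀ (pullback.diagonal f₀) _ h3 h1
  exact ⟨k, ⟨(prop_diagonal_iff D i₀ f₀ g₀ @IsClosedImmersion k).mpr hk⟩⟩

include hc in
theorem exists_formallyUnramified_baseChange [LocallyOfFiniteType f₀]
    (hY : IsPullback qY g g₀ (c.π.app i₀))
    (hX : IsPullback qX f f₀ qY) [FormallyUnramified f] :
    ∃ k : Over i₀, FormallyUnramified ((baseChangeMap D i₀ f₀ g₀).app k) := by
  have : LocallyOfFiniteType f := MorphismProperty.of_isPullback hX inferInstance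
  have : QuasiCompact f₀ := quasiCompact_of_compactSpace _
  have : CompactSpace ↥(pullback f₀ f₀) :=
    QuasiCompact.compactSpace_of_compactSpace (pullback.fst f₀ f₀)
  have : LocallyOfFinitePresentation (pullback.diagonal f₀) :=
    ASp.locallyOfFinitePresentation_of_comp _ (pullback.fst f₀ f₀)
      (by rw [pullback.diagonal_fst]; infer_instance) inferInstance
  obtain ⟨h1, h2⟩ := isPullback_diagonal f₀ hX
  have h3 := h2.paste_vert hY
  simp only [Category.assoc] at h3
  let a := pullback.fst f₀ f₀ ≫ f₀ ≫ g₀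
  let T := baseChange D i₀ a
  let o : Over i₀ := Over.mk (𝟙 i₀)
  let ι := (baseChangeMap D i₀ (pullback.diagonal f₀) a).app o
  have : IsImmersion ι :=
    prop_baseChangeMap D i₀ _ a @IsImmersion inferInstance o
  have : LocallyOfFinitePresentation ι :=
    prop_baseChangeMap D i₀ _ a @LocallyOfFinitePresentation inferInstance o
  have : QuasiCompact ι :=
    prop_baseChangeMap D i₀ _ a @QuasiCompact inferInstance o
  have hlim : IsOpenImmersion (pullback.snd ι ((baseChangeCone D c i₀ a).π.app o)) := by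
    refine (prop_iff_of_isPullback @IsOpenImmersion
      ((IsPullback.of_hasPullback ι _).paste_horiz (isPullback_baseChangeMap D i₀ _ a o)) h1
      h3.isoPullback.symm ?_).mpr inferInstance
    rw [Iso.symm_hom, Iso.inv_comp_eq]
    refine h3.isoPullback_hom_fst.symm.trans (congrArg (h3.isoPullback.hom ≫ ·) ?_)
    simp [pullback.map, a]
  obtain ⟨k, φ, hk⟩ := (isOpenImmersion_pullback_snd_iff T (baseChangeCone D c i₀ a)
    (nonempty_isLimit_baseChangeCone D c hc i₀ a).some ι).mp hlim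
  refine ⟨k, ?_⟩
  have : IsOpenImmersion ((baseChangeMap D i₀ (pullback.diagonal f₀) a).app k) := by
    refine (prop_iff_of_isPullback @IsOpenImmersion
      ((IsPullback.of_hasPullback ι _).paste_horiz (isPullback_baseChangeMap D i₀ _ a o))
      (isPullback_baseChangeMap D i₀ _ a k) (Iso.refl _) ?_).mp hk
    simp [T, pullback.map]
  have := (prop_diagonal_iff D i₀ f₀ g₀ @IsOpenImmersion k).mpr this
  infer_instance

end Diagonal

end Groth.Agent.AffLim

end
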