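import Mathlib
import Groth.Agent.AffLim.Points

set_option autoImplicit false
set_option linter.style.haveILetI false

/-! # Irreducible and connected components of a limit with eventually dominant projections -/

universe u

open CategoryTheory CategoryTheory.Limits AlgebraicGeometry TopologicalSpace

namespace Groth.Agent.AffLim

variable {I : Type u} [SmallCategory I] [IsCofiltered I] (D : I ⥤ Scheme.{u}) (c : Cone D)
  (hc : IsLimit c) [∀ {i j} (f : i ⟶ j), IsAffineHom (D.map f)]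

omit [IsCofiltered I] [∀ {i j} (f : i ⟶ j), IsAffineHom (D.map f)] in
lemma π_comp_apply {j k : I} (φ : j ⟶ k) (x : c.pt) : D.map φ (c.π.app j x) = c.π.app k x := by
  rw [← Scheme.Hom.comp_apply, c.w φ]

omit [IsCofiltered I] in
lemma compactSpace_of_hom {j k : I} (φ : j ⟶ k) [CompactSpace (D.obj k)] : CompactSpace (D.obj j) :=
  QuasiCompact.compactSpace_of_compactSpace (D.map φ)

include hc in
/-- An open subset of a stage containing the image of the limit contains the image of a later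
stage. -/
lemma exists_preimage_eq_univ_of_range_subset {i : I} [CompactSpace (D.obj i)] {W : Set (D.obj i)}
    (hW : IsOpen W) (h : Set.range (c.π.app i) ⊆ W) :
    ∃ (k : I) (φ : k ⟶ i), ∀ y, D.map φ y ∈ W := by
  by_contra! H
  obtain ⟨s, hs⟩ := exists_mem_of_isClosed_of_nonempty' D c hc (j := i)
    (fun k φ => D.map φ ⁻¹' Wᶜ) (fun k φ => hW.isClosed_compl.preimage (D.map φ).continuous)
    (fun k φ => H k φ)
    (fun k φ => haveI := compactSpace_of_hom D φ
      (hW.isClosed_compl.preimage (D.map φ).continuous).isCompact)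
    (fun k k' g φ y hy => by
      simpa only [Set.mem_preimage, ← Scheme.Hom.comp_apply, ← D.map_comp] using hy)
  exact hs i (𝟙 i) (by simpa using h ⟨s, rfl⟩)

include hc in
/-- If all transition maps are dominant, so are the projections. -/
lemma denseRange_π (hd : ∀ {i j : I} (φ : i ⟶ j), IsDominant (D.map φ)) (i : I) :
    DenseRange (c.π.app i) := by
  rw [DenseRange, dense_iff_inter_open]
  intro W hW hne
  obtain ⟨y, hy⟩ := hne
  obtain ⟨_, ⟨V : (D.obj i).Opens, hV, rfl⟩, hyV, hVW⟩ :=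
    (D.obj i).isBasis_affineOpens.exists_subset_of_mem_open hy hW
  haveI : IsAffine V.toScheme := hV
  by_contra hne
  have h0 : IsEmpty ↥(pullback V.ι (c.π.app i)) := ⟨fun z => hne ⟨V.ι (pullback.fst V.ι (c.π.app i) z),
    hVW (pullback.fst V.ι (c.π.app i) z).2,
    pullback.snd V.ι (c.π.app i) z, by
      rw [← Scheme.Hom.comp_apply, ← pullback.condition, Scheme.Hom.comp_apply]⟩⟩
  obtain ⟨j, φ, hj⟩ := exists_isEmpty_pullback D c hc i V.ι h0
  obtain ⟨z, hz⟩ := (hd φ).denseRange.exists_mem_open V.2 ⟨y, hyV⟩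
  obtain ⟨w, -, -⟩ := Scheme.Pullback.exists_preimage_pullback (⟨D.map φ z, hz⟩ : V.toScheme) z
    (f := V.ι) (g := D.map φ) rfl
  exact hj.false w

include hc in
/-- An open subset of the limit which is compact comes from an open subset of a stage. -/
lemma exists_open_preimage_eq {U : Set c.pt} (hU : IsOpen U) (hUc : IsCompact U) (i₁ : I) :
    ∃ (i : I) (_ : i ⟶ i₁) (V : Set (D.obj i)), IsOpen V ∧ c.π.app i ⁻¹' V = U := by
  classical
  choose i V hV hxV hVU using fun x : U => exists_affine_preimage_subset D c hc hU x.2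
  obtain ⟨s, hs⟩ := hUc.elim_finite_subcover (fun x : U => c.π.app (i x) ⁻¹' (V x : Set (D.obj (i x))))
    (fun x => (V x).2.preimage (c.π.app (i x)).continuous)
    (fun x hx => Set.mem_iUnion.mpr ⟨⟨x, hx⟩, hxV _⟩)
  obtain ⟨k, hk⟩ := IsCofiltered.inf_objs_exists (s.image i ∪ {i₁})
  let ψ : ∀ x : U, x ∈ s → (k ⟶ i x) := fun x hx =>
    (hk (Finset.mem_union_left _ (Finset.mem_image_of_mem i hx))).some
  refine ⟨k, (hk (Finset.mem_union_right _ (Finset.mem_singleton_self i₁))).some,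
    ⋃ x, ⋃ hx : x ∈ s, D.map (ψ x hx) ⁻¹' (V x : Set (D.obj (i x))),
    isOpen_iUnion fun x => isOpen_iUnion fun hx => (V x).2.preimage (D.map (ψ x hx)).continuous, ?_⟩
  ext z
  simp only [Set.mem_preimage, Set.mem_iUnion, π_comp_apply]
  constructor
  · rintro ⟨x, hx, hz⟩
    exact hVU x hz
  · intro hz
    obtain ⟨x, hx, hzx⟩ := Set.mem_iUnion₂.mp (hs hz)
    exact ⟨x, hx, hzx⟩

variable (i₁ : I) (hdense : ∀ j, (j ⟶ i₁) → DenseRange (c.π.app j))

include hc hdense in
/-- Irreducible components of the limit correspond to those of a late enough stage. -/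
theorem exists_bijOn_irreducibleComponents [NoetherianSpace c.pt] :
    ∃ (i : I) (_ : i ⟶ i₁), ∀ (j : I) (_ : j ⟶ i),
      Set.BijOn (fun Y : Set c.pt => closure (⇑(c.π.app j) '' (Y : Set c.pt) : Set (D.obj j)))
        (irreducibleComponents c.pt) (irreducibleComponents (D.obj j)) := by
  classical
  let K := irreducibleComponents c.pt
  have hKfin : K.Finite := NoetherianSpace.finite_irreducibleComponents
  haveI := hKfin.to_subtype
  have hsep : ∀ p : K × K, ∃ i : I, p.1 = p.2 ∨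
      ¬ c.π.app i '' (p.1 : Set c.pt) ⊆ closure (c.π.app i '' (p.2 : Set c.pt)) := by
    rintro ⟨⟨Y, hY⟩, ⟨Y', hY'⟩⟩
    by_cases h : Y ⊆ Y'
    · exact ⟨i₁, Or.inl (Subtype.ext (le_antisymm h (hY.2 hY'.1 h)))⟩
    obtain ⟨y, hyY, hyY'⟩ := Set.not_subset.mp h
    obtain ⟨i, V, -, hyV, hV⟩ := exists_affine_preimage_subset D c hc
      (isClosed_of_mem_irreducibleComponents Y' hY').isOpen_compl hyY'
    refine ⟨i, Or.inr fun hle => ?_⟩
    obtain ⟨_, hz, z, hzY', rfl⟩ := mem_closure_iff.mp (hle ⟨y, hyY, rfl⟩) V V.2 hyV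
    exact hV hz hzY'
  choose st hst using hsep
  haveI : Fintype (K × K) := Fintype.ofFinite _
  obtain ⟨i, hi⟩ := IsCofiltered.inf_objs_exists (Finset.univ.image st ∪ {i₁})
  refine ⟨i, (hi (Finset.mem_union_right _ (Finset.mem_singleton_self i₁))).some, fun j φ => ?_⟩
  let F : Set c.pt → Set (D.obj j) := fun Y => closure (c.π.app j '' Y)
  have hsepj : ∀ Y ∈ K, ∀ Y' ∈ K, F Y ⊆ F Y' → Y = Y' := by
    intro Y hY Y' hY' hle
    refine congrArg Subtype.val ((hst (⟨Y, hY⟩, ⟨Y', hY'⟩)).resolve_right fun hn => hn ?_)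
    let ψ := φ ≫ (hi (Finset.mem_union_left _ (Finset.mem_image_of_mem st
      (Finset.mem_univ ((⟨Y, hY⟩, ⟨Y', hY'⟩) : K × K))))).some
    rintro _ ⟨y, hy, rfl⟩
    have := image_closure_subset_closure_image (D.map ψ).continuous
      ⟨_, hle (subset_closure ⟨y, hy, rfl⟩), rfl⟩
    simp only [Set.image_image, π_comp_apply] at this
    exact this
  have hirr : ∀ Y ∈ K, IsIrreducible (F Y) := fun Y hY =>
    (hY.1.image _ (c.π.app j).continuous.continuousOn).closure
  have hcov : ∀ Z : Set (D.obj j), IsIrreducible Z → ∃ Y ∈ K, Z ⊆ F Y := by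
    intro Z hZ
    have hun : (Set.univ : Set (D.obj j)) ⊆ ⋃₀ ↑(hKfin.toFinset.image F) := by
      rw [← (hdense j (φ ≫ (hi (Finset.mem_union_right _ (Finset.mem_singleton_self i₁))).some)).closure_range]
      refine closure_minimal ?_ ?_
      · rintro _ ⟨z, rfl⟩
        exact ⟨F (irreducibleComponent z), by
          simpa using ⟨_, irreducibleComponent_mem_irreducibleComponents z, rfl⟩,
          subset_closure ⟨z, mem_irreducibleComponent, rfl⟩⟩
      · rw [Set.sUnion_eq_biUnion]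
        refine (Finset.finite_toSet _).isClosed_biUnion fun t ht => ?_
        obtain ⟨Y, -, rfl⟩ := Finset.mem_image.mp ht
        exact isClosed_closure
    obtain ⟨t, ht, hZt⟩ := isIrreducible_iff_sUnion_isClosed.mp hZ (hKfin.toFinset.image F)
      (fun t ht => by obtain ⟨Y, -, rfl⟩ := Finset.mem_image.mp ht; exact isClosed_closure)
      ((Set.subset_univ Z).trans hun)
    obtain ⟨Y, hY, rfl⟩ := Finset.mem_image.mp ht
    exact ⟨Y, hKfin.mem_toFinset.mp hY, hZt⟩
  refine ⟨fun Y hY => ⟨hirr Y hY, fun Z hZ hle => ?_⟩,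
    fun Y hY Y' hY' h => hsepj Y hY Y' hY' h.le, fun Z hZ => ?_⟩
  · obtain ⟨Y', hY', hZY'⟩ := hcov Z hZ
    rw [hsepj Y hY Y' hY' (hle.trans hZY')]
    exact hZY'
  · obtain ⟨Y, hY, hZY⟩ := hcov Z hZ.1
    exact ⟨Y, hY, (le_antisymm hZY (hZ.2 (hirr Y hY) hZY)).symm⟩

include hc hdense in
/-- Connected components of the limit correspond to those of a late enough stage. -/
theorem exists_bijOn_connectedComponents [NoetherianSpace c.pt] [CompactSpace (D.obj i₁)] :
    ∃ (i : I) (_ : i ⟶ i₁), ∀ (j : I) (_ : j ⟶ i),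
      Set.BijOn (fun C : Set c.pt => closure (⇑(c.π.app j) '' (C : Set c.pt) : Set (D.obj j)))
        (Set.range (connectedComponent : c.pt → Set c.pt))
        (Set.range (connectedComponent : D.obj j → Set (D.obj j))) := by
  classical
  let K : Set (Set c.pt) := Set.range connectedComponent
  have hKfin : K.Finite := by
    refine ((NoetherianSpace.finite_irreducibleComponents (α := c.pt)).image
      fun Y => if h : Y.Nonempty then connectedComponent h.some else ∅).subset ?_
    rintro _ ⟨x, rfl⟩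
    refine ⟨_, irreducibleComponent_mem_irreducibleComponents x, ?_⟩
    have hne : (irreducibleComponent x).Nonempty := ⟨x, mem_irreducibleComponent⟩
    simp only [dif_pos hne]
    exact (connectedComponent_eq (isIrreducible_irreducibleComponent.isConnected.isPreconnected.subset_connectedComponent
      mem_irreducibleComponent hne.some_mem)).symm
  haveI := hKfin.to_subtype
  have hdisj : ∀ C ∈ K, ∀ C' ∈ K, ∀ z, z ∈ C → z ∈ C' → C = C' := by
    rintro _ ⟨x, rfl⟩ _ ⟨x', rfl⟩ z hz hz'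
    rw [connectedComponent_eq hz, connectedComponent_eq hz']
  have hopen : ∀ C ∈ K, IsOpen C := by
    intro C hC
    rw [← isClosed_compl_iff, show Cᶜ = ⋃ C' ∈ K \ {C}, C' from by
      ext z
      simp only [Set.mem_compl_iff, Set.mem_iUnion, Set.mem_sdiff, Set.mem_singleton_iff, exists_prop]
      refine ⟨fun hz => ⟨connectedComponent z, ⟨⟨z, rfl⟩, fun h => hz (h ▸ mem_connectedComponent)⟩,
        mem_connectedComponent⟩, ?_⟩
      rintro ⟨C', ⟨hC', hne⟩, hz⟩ hzC
      exact hne (hdisj _ hC' _ hC z hz hzC)]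
    refine (hKfin.subset Set.sdiff_subset).isClosed_biUnion ?_
    rintro _ ⟨⟨x, rfl⟩, -⟩
    exact isClosed_connectedComponent
  have hst : ∀ C : K, ∃ (i : I) (_ : i ⟶ i₁) (V : Set (D.obj i)), IsOpen V ∧ c.π.app i ⁻¹' V = (C : Set c.pt) :=
    fun C => exists_open_preimage_eq D c hc (hopen _ C.2) (NoetherianSpace.isCompact _) i₁
  choose st ζ V hV hVC using hst
  haveI : Fintype K := Fintype.ofFinite _
  obtain ⟨i', hi'⟩ := IsCofiltered.inf_objs_exists (Finset.univ.image st ∪ {i₁})
  let pr : ∀ C : K, i' ⟶ st C := fun C =>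
    (hi' (Finset.mem_union_left _ (Finset.mem_image_of_mem st (Finset.mem_univ C)))).some
  have p₁ : i' ⟶ i₁ := (hi' (Finset.mem_union_right _ (Finset.mem_singleton_self i₁))).some
  haveI : CompactSpace (D.obj i') := compactSpace_of_hom D p₁
  obtain ⟨i, α, hα⟩ := exists_preimage_eq_univ_of_range_subset D c hc
    (W := ⋃ C : K, D.map (pr C) ⁻¹' V C)
    (isOpen_iUnion fun C => (hV C).preimage (D.map (pr C)).continuous) (by
      rintro _ ⟨z, rfl⟩
      refine Set.mem_iUnion.mpr ⟨⟨_, z, rfl⟩, ?_⟩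
      rw [Set.mem_preimage, π_comp_apply, ← Set.mem_preimage, hVC]
      exact mem_connectedComponent)
  refine ⟨i, α ≫ p₁, fun j φ => ?_⟩
  let W : K → Set (D.obj j) := fun C => D.map (φ ≫ α ≫ pr C) ⁻¹' V C
  have hWo : ∀ C, IsOpen (W C) := fun C => (hV C).preimage (D.map _).continuous
  have hWpre : ∀ C : K, c.π.app j ⁻¹' W C = (C : Set c.pt) := fun C => by
    rw [← hVC C]; ext z; simp only [W, Set.mem_preimage, π_comp_apply]
  have hd : DenseRange (c.π.app j) := hdense j (φ ≫ α ≫ p₁)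
  have hWcov : ∀ y, ∃ C, y ∈ W C := by
    intro y
    obtain ⟨C, hC⟩ := Set.mem_iUnion.mp (hα (D.map φ y))
    refine ⟨C, ?_⟩
    simpa only [W, Set.mem_preimage, D.map_comp, Scheme.Hom.comp_apply] using hC
  have hWdisj : ∀ C C' y, y ∈ W C → y ∈ W C' → C = C' := by
    intro C C' y hy hy'
    obtain ⟨z, hz⟩ := hd.exists_mem_open ((hWo C).inter (hWo C')) ⟨y, hy, hy'⟩
    exact Subtype.ext (hdisj _ C.2 _ C'.2 z ((hWpre C).le hz.1) ((hWpre C').le hz.2))
  have hWcl : ∀ C, IsClopen (W C) := fun C => ⟨by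
    rw [← isOpen_compl_iff, show (W C)ᶜ = ⋃ C' ∈ {C' | C' ≠ C}, W C' from by
      ext y
      simp only [Set.mem_compl_iff, Set.mem_iUnion, Set.mem_ofPred_eq, exists_prop]
      refine ⟨fun hy => ?_, ?_⟩
      · obtain ⟨C', hC'⟩ := hWcov y
        exact ⟨C', fun h => hy (h ▸ hC'), hC'⟩
      · rintro ⟨C', hne, hy'⟩ hy
        exact hne (hWdisj _ _ y hy' hy)]
    exact isOpen_biUnion fun C' _ => hWo C', hWo C⟩
  have hFW : ∀ C : K, closure (c.π.app j '' (C : Set c.pt)) = W C := by
    intro C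
    refine subset_antisymm (closure_minimal ?_ (hWcl C).1) fun y hy => ?_
    · rintro _ ⟨z, hz, rfl⟩
      exact (hWpre C).ge hz
    · rw [mem_closure_iff]
      intro O hO hyO
      obtain ⟨z, hzO, hzW⟩ := hd.exists_mem_open (hO.inter (hWo C)) ⟨y, hyO, hy⟩
      exact ⟨_, hzO, z, (hWpre C).le hzW, rfl⟩
  have hcomp : ∀ (C : K) (y), y ∈ W C → connectedComponent y = W C := by
    intro C y hy
    refine subset_antisymm ((hWcl C).connectedComponent_subset hy) ?_
    have hpc : _root_.IsPreconnected (W C) := by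
      rw [← hFW C]
      obtain ⟨x, hx⟩ := C.2
      rw [← hx]
      exact (isPreconnected_connectedComponent.image _ (c.π.app j).continuous.continuousOn).closure
    exact hpc.subset_connectedComponent hy
  refine ⟨fun C hC => ?_, fun C hC C' hC' h => ?_, ?_⟩
  · obtain ⟨x, hx⟩ := hC
    have hxC : x ∈ C := hx ▸ mem_connectedComponent
    exact ⟨c.π.app j x, (hcomp ⟨C, x, hx⟩ _ ((hWpre ⟨C, x, hx⟩).ge hxC)).trans (hFW ⟨C, x, hx⟩).symm⟩
  · obtain ⟨x, hx⟩ := hC
    have hxC : x ∈ C := hx ▸ mem_connectedComponent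
    have h1 : W ⟨C, x, hx⟩ = W ⟨C', hC'⟩ := by rw [← hFW, ← hFW]; exact h
    exact congrArg Subtype.val (hWdisj ⟨C, x, hx⟩ ⟨C', hC'⟩ (c.π.app j x)
      ((hWpre _).ge hxC) (h1 ▸ (hWpre _).ge hxC))
  · rintro _ ⟨y, rfl⟩
    obtain ⟨C, hC⟩ := hWcov y
    exact ⟨C, C.2, (hFW C).trans (hcomp C y hC).symm⟩

end Groth.Agent.AffLim
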