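import Groth.Agent.AffLim.Props
import Groth.Agent.ASp.EtLocal

/-!
# Immersions and separatedness in cofiltered limits

S4817, S4818, S4804: an immersion of finite presentation is open, resp. closed, in the limit iff it
is at some stage; a morphism of finite type is separated in the limit iff it is at some stage.
-/

universe u

open CategoryTheory Limits AlgebraicGeometry Topology

noncomputable section

set_option backward.isDefEq.respectTransparency false
set_option backward.defeqAttrib.useBackward true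

namespace Groth.Agent.AffLim

lemma isLocallyConstructible_compl {X : Type*} [TopologicalSpace X] {s : Set X}
    (hs : IsLocallyConstructible s) : IsLocallyConstructible sᶜ := fun x => by
  obtain ⟨U, hxU, hU, hUs⟩ := hs x
  exact ⟨U, hxU, hU, by rw [Set.preimage_compl]; exact hUs.compl⟩

lemma isLocallyConstructible_range {X Y : Scheme.{u}} (f : X ⟶ Y)
    [LocallyOfFinitePresentation f] [QuasiCompact f] : IsLocallyConstructible (Set.range f) := by
  rw [← Set.image_univ]
  exact f.isLocallyConstructible_image IsLocallyConstructible.univ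

/-- An immersion with closed range is a closed immersion. -/
lemma isClosedImmersion_of_isImmersion {X Y : Scheme.{u}} (f : X ⟶ Y) [IsImmersion f]
    (h : IsClosed (Set.range f)) : IsClosedImmersion f := by
  have : IsPreimmersion f := inferInstance
  exact IsClosedImmersion.of_isPreimmersion f h

variable {I : Type u} [SmallCategory I] (D : I ⥤ Scheme.{u}) (c : Cone D) (hc : IsLimit c)
  [IsCofiltered I] [∀ {i j} (f : i ⟶ j), IsAffineHom (D.map f)]

include hc in
/-- Openness of the preimage of a locally constructible set is reached at some stage. -/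
lemma exists_isOpen_preimage_of_isLocallyConstructible {i : I} [CompactSpace (D.obj i)]
    {Z : Set (D.obj i)} (hZ : IsLocallyConstructible Z) (h : IsOpen (c.π.app i ⁻¹' Z)) :
    ∃ (j : I) (φ : j ⟶ i), IsOpen (D.map φ ⁻¹' Z) := by
  let P : (D.obj i).Opens → Prop := fun S => ∃ (j : I) (φ : j ⟶ i),
    IsOpen (D.map φ ⁻¹' (Z ∩ (S : Set (D.obj i))))
  suffices P ⊤ by simpa [P] using this
  refine compact_open_induction_on (P := P) ⊤ isCompact_univ ⟨i, 𝟙 i, by simp⟩ fun S _ U hS => ?_
  obtain ⟨j, φ, hj⟩ := hS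
  let E := opensDiagram D i U.1
  let ι₀ := (opensDiagramι D i U.1).app (Over.mk (𝟙 i))
  have : IsAffine (E.obj (Over.mk (𝟙 i))) := U.2.preimage _
  have : CompactSpace (E.obj (Over.mk (𝟙 i))) := inferInstance
  have : QuasiSeparatedSpace (E.obj (Over.mk (𝟙 i))) := inferInstance
  have hZ' : IsConstructible (ι₀ ⁻¹' Z) :=
    (hZ.preimage_of_isOpenEmbedding ι₀.isOpenEmbedding).isConstructible
  have hfac : (opensCone D c i U.1).π.app (Over.mk (𝟙 i)) ≫ ι₀ =
      (c.π.app i ⁻¹ᵁ U.1).ι ≫ c.π.app i := by simp [ι₀, opensCone]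
  obtain ⟨k, f, hk⟩ := exists_isOpen_preimage E _ (isLimitOpensCone D c hc i U.1) hZ' (by
    rw [← Set.preimage_comp]
    change IsOpen (((opensCone D c i U.1).π.app (Over.mk (𝟙 i)) ≫ ι₀) ⁻¹' Z)
    rw [hfac]
    exact h.preimage (c.π.app i ⁻¹ᵁ U.1).ι.continuous)
  have hf : f.left = k.hom := by simpa using Over.w f
  have hfac' : E.map f ≫ ι₀ = (D.map k.hom ⁻¹ᵁ U.1).ι ≫ D.map k.hom := by simp [E, ι₀, hf]
  obtain ⟨l, a, b, e⟩ := IsCofiltered.cospan φ k.hom
  refine ⟨l, a ≫ φ, ?_⟩
  rw [TopologicalSpace.Opens.coe_sup, Set.inter_union_distrib_left, Set.preimage_union]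
  refine IsOpen.union ?_ ?_
  · rw [← preimage_map_map]; exact hj.preimage (D.map a).continuous
  · rw [e, ← preimage_map_map]
    refine IsOpen.preimage (D.map b).continuous ?_
    rw [← Set.preimage_comp] at hk
    change IsOpen ((E.map f ≫ ι₀) ⁻¹' Z) at hk
    rw [hfac', Scheme.Hom.comp_base, TopCat.coe_comp, Set.preimage_comp] at hk
    have h2 := (D.map k.hom ⁻¹ᵁ U.1).ι.isOpenEmbedding.isOpenMap _ hk
    erw [Set.image_preimage_eq_inter_range, Scheme.Opens.range_ι] at h2
    rw [Set.preimage_inter]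
    exact h2

include hc in
/-- S4818 -/
lemma isClosedImmersion_pullback_snd_iff {i : I} [CompactSpace (D.obj i)] {Z : Scheme.{u}}
    (ι : Z ⟶ D.obj i) [IsImmersion ι] [LocallyOfFinitePresentation ι] [QuasiCompact ι] :
    IsClosedImmersion (pullback.snd ι (c.π.app i)) ↔
      ∃ (j : I) (φ : j ⟶ i), IsClosedImmersion (pullback.snd ι (D.map φ)) := by
  constructor
  · intro h
    have hcl := (pullback.snd ι (c.π.app i)).isClosedEmbedding.isClosed_range
    rw [Scheme.Pullback.range_snd] at hcl
    obtain ⟨j, φ, hj⟩ := exists_isOpen_preimage_of_isLocallyConstructible D c hc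
      (isLocallyConstructible_compl (isLocallyConstructible_range ι))
      (by rw [Set.preimage_compl]; exact hcl.isOpen_compl)
    refine ⟨j, φ, isClosedImmersion_of_isImmersion _ ?_⟩
    rw [Scheme.Pullback.range_snd, ← isOpen_compl_iff, ← Set.preimage_compl]
    exact hj
  · rintro ⟨j, φ, hj⟩
    have hpb : IsPullback (pullback.lift (pullback.fst ι (c.π.app i))
        (pullback.snd ι (c.π.app i) ≫ c.π.app j)
        (by rw [Category.assoc, c.w, pullback.condition]))
        (pullback.snd ι (c.π.app i)) (pullback.snd ι (D.map φ)) (c.π.app j) := by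
      refine IsPullback.of_right ?_ (by simp) (IsPullback.of_hasPullback ι (D.map φ))
      simpa using IsPullback.of_hasPullback ι (c.π.app i)
    exact MorphismProperty.of_isPullback hpb hj

include hc in
/-- S4817 -/
lemma isOpenImmersion_pullback_snd_iff {i : I} [CompactSpace (D.obj i)] {Z : Scheme.{u}}
    (ι : Z ⟶ D.obj i) [IsImmersion ι] [LocallyOfFinitePresentation ι] [QuasiCompact ι] :
    IsOpenImmersion (pullback.snd ι (c.π.app i)) ↔
      ∃ (j : I) (φ : j ⟶ i), IsOpenImmersion (pullback.snd ι (D.map φ)) := by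
  constructor
  · intro h
    have hop := (pullback.snd ι (c.π.app i)).isOpenEmbedding.isOpen_range
    rw [Scheme.Pullback.range_snd] at hop
    obtain ⟨j, φ, hj⟩ := exists_isOpen_preimage_of_isLocallyConstructible D c hc
      (isLocallyConstructible_range ι) hop
    let W : (D.obj j).Opens := ⟨D.map φ ⁻¹' Set.range ι, hj⟩
    have : CompactSpace (D.obj j) := QuasiCompact.compactSpace_of_compactSpace (D.map φ)
    have hW : IsCompact (W : Set (D.obj j)) := by
      change IsCompact (D.map φ ⁻¹' Set.range ι)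
      rw [← Scheme.Pullback.range_snd ι (D.map φ)]
      have : CompactSpace ↥(pullback ι (D.map φ)) :=
        QuasiCompact.compactSpace_of_compactSpace (pullback.snd ι (D.map φ))
      exact isCompact_range (pullback.snd ι (D.map φ)).continuous
    have hr : Set.range (c.π.app j ⁻¹ᵁ W).ι ⊆ Set.range (pullback.snd ι (c.π.app i)) := by
      rw [Scheme.Opens.range_ι, Scheme.Pullback.range_snd]
      intro x hx
      change c.π.app i x ∈ Set.range ι
      rw [← c.w φ]
      exact hx
    let a : (c.π.app j ⁻¹ᵁ W).toScheme ⟶ Z :=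
      IsOpenImmersion.lift (pullback.snd ι (c.π.app i)) (c.π.app j ⁻¹ᵁ W).ι hr ≫
        pullback.fst ι (c.π.app i)
    have ha : a ≫ ι = (c.π.app j ⁻¹ᵁ W).ι ≫ c.π.app i := by
      simp only [a, Category.assoc, pullback.condition, IsOpenImmersion.lift_fac_assoc]
    -- the stages over `W` need not be quasi-separated: cover `W` by affine opens
    let P : (D.obj j).Opens → Prop := fun S => ∃ (k : I) (ψ : k ⟶ j),
      ∀ y : D.obj k, D.map ψ y ∈ S → ∃ (V : (D.obj k).Opens) (g : V.toScheme ⟶ Z),
        y ∈ V ∧ V ≤ D.map ψ ⁻¹ᵁ W ∧ g ≫ ι = V.ι ≫ D.map (ψ ≫ φ)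
    have hP : P W := by
      refine compact_open_induction_on (P := fun S => S ≤ W → P S) W hW
        (fun _ => ⟨j, 𝟙 j, fun y hy => hy.elim⟩) (fun S _ U hS hle => ?_) le_rfl
      obtain ⟨k₁, ψ₁, h₁⟩ := hS (le_sup_left.trans hle)
      let E' := opensDiagram D j U.1
      let t' : E' ⟶ (Functor.const (Over j)).obj (D.obj i) :=
        { app := fun k => (D.map k.hom ⁻¹ᵁ U.1).ι ≫ D.map (k.hom ≫ φ)
          naturality := fun k l f => by
            dsimp [E']
            rw [Category.comp_id, Scheme.Hom.resLE_comp_ι_assoc, ← D.map_comp, ← Category.assoc,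
              Over.w f] }
      have : ∀ k, IsAffine (E'.obj k) := fun k => U.2.preimage _
      have : ∀ k, CompactSpace (E'.obj k) := fun k => inferInstance
      have : ∀ k, QuasiSeparatedSpace (E'.obj k) := fun k => inferInstance
      obtain ⟨k, g, -, hg⟩ := Scheme.exists_π_app_comp_eq_of_locallyOfFinitePresentation
        E' t' ι (opensCone D c j U.1) (isLimitOpensCone D c hc j U.1)
        ((c.pt.homOfLE ((c.π.app j).preimage_mono (le_sup_right.trans hle))) ≫ a) (by
          ext k
          change (opensCone D c j U.1).π.app k ≫ t'.app k = (_ ≫ a) ≫ ι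
          simp only [Category.assoc, ha]
          dsimp [opensCone, t']
          rw [Scheme.Hom.resLE_comp_ι_assoc, c.w, Scheme.homOfLE_ι_assoc])
      obtain ⟨m, p, q, e⟩ := IsCofiltered.cospan ψ₁ k.hom
      refine ⟨m, p ≫ ψ₁, fun y hy => ?_⟩
      rcases hy with hy | hy
      · rw [D.map_comp] at hy
        obtain ⟨V, g', hyV, hVW, hg'⟩ := h₁ (D.map p y) hy
        refine ⟨D.map p ⁻¹ᵁ V, (D.map p ∣_ V) ≫ g', hyV, ?_, ?_⟩
        · rw [D.map_comp, Scheme.Hom.comp_preimage]
          exact Scheme.Hom.preimage_mono _ hVW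
        · rw [Category.assoc, hg', morphismRestrict_ι_assoc, ← D.map_comp, Category.assoc]
      · rw [e, D.map_comp] at hy
        refine ⟨D.map q ⁻¹ᵁ (D.map k.hom ⁻¹ᵁ U.1), (D.map q ∣_ _) ≫ g, hy, ?_, ?_⟩
        · rw [e, D.map_comp, Scheme.Hom.comp_preimage]
          exact Scheme.Hom.preimage_mono _
            (Scheme.Hom.preimage_mono _ (le_sup_right.trans hle))
        · rw [Category.assoc, hg]
          change _ ≫ (D.map k.hom ⁻¹ᵁ U.1).ι ≫ D.map (k.hom ≫ φ) = _
          rw [morphismRestrict_ι_assoc, ← D.map_comp, ← Category.assoc q, ← e, Category.assoc]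
    obtain ⟨k, ψ, hk⟩ := hP
    refine ⟨k, ψ ≫ φ, ?_⟩
    let p := pullback.snd ι (D.map (ψ ≫ φ))
    have : Mono p := inferInstance
    have hrange : Set.range p = (D.map ψ ⁻¹ᵁ W : (D.obj k).Opens) := by
      rw [Scheme.Pullback.range_snd, D.map_comp]
      rfl
    choose V g hyV hVW hg using fun y : (D.map ψ ⁻¹ᵁ W : (D.obj k).Opens) => hk y.1 y.2
    have hcov : ∀ x, p x ∈ ⨆ y, V y := fun x =>
      TopologicalSpace.Opens.mem_iSup.mpr ⟨⟨p x, hrange.le ⟨x, rfl⟩⟩, hyV _⟩
    let O : (D.obj k).Opens := ⨆ y, V y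
    let l : pullback ι (D.map (ψ ≫ φ)) ⟶ O.toScheme := IsOpenImmersion.lift O.ι p (by
      rw [Scheme.Opens.range_ι]
      rintro _ ⟨x, rfl⟩
      exact hcov x)
    have hl' : l ≫ O.ι = p := IsOpenImmersion.lift_fac _ _ _
    have : IsIso l := by
      have : IsImmersion l := by
        have : IsImmersion (l ≫ O.ι) := by rw [hl']; infer_instance
        exact IsImmersion.of_comp l O.ι
      refine (IsZariskiLocalAtTarget.iff_of_iSup_eq_top (P := MorphismProperty.isomorphisms _)
        (f := l) (fun y => O.ι ⁻¹ᵁ V y) ?_).mpr fun y => ?_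
      · rw [← Scheme.Hom.preimage_iSup, Scheme.Opens.ι_preimage_self]
      · change IsIso (l ∣_ O.ι ⁻¹ᵁ V y)
        have hsec : ∃ s, s ≫ (l ∣_ O.ι ⁻¹ᵁ V y) = 𝟙 _ := by
          let v : (O.ι ⁻¹ᵁ V y).toScheme ⟶ (V y).toScheme := O.ι ∣_ V y
          let s₀ : (O.ι ⁻¹ᵁ V y).toScheme ⟶ pullback ι (D.map (ψ ≫ φ)) :=
            pullback.lift (v ≫ g y) ((O.ι ⁻¹ᵁ V y).ι ≫ O.ι) (by
              rw [Category.assoc, hg, morphismRestrict_ι_assoc, Category.assoc])
          have hs₀ : s₀ ≫ l = (O.ι ⁻¹ᵁ V y).ι := by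
            rw [← cancel_mono O.ι, Category.assoc, hl', pullback.lift_snd]
          refine ⟨IsOpenImmersion.lift (l ⁻¹ᵁ (O.ι ⁻¹ᵁ V y)).ι s₀ ?_, ?_⟩
          · rw [Scheme.Opens.range_ι]
            rintro _ ⟨x, rfl⟩
            change (s₀ ≫ l) x ∈ O.ι ⁻¹ᵁ V y
            rw [hs₀]
            exact x.2
          · rw [← cancel_mono (O.ι ⁻¹ᵁ V y).ι, Category.assoc, morphismRestrict_ι,
              IsOpenImmersion.lift_fac_assoc, hs₀, Category.id_comp]
        obtain ⟨s, hs⟩ := hsec
        have : IsImmersion (l ∣_ O.ι ⁻¹ᵁ V y) := inferInstance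
        exact ⟨s, by rw [← cancel_mono (l ∣_ O.ι ⁻¹ᵁ V y), Category.assoc, hs]; simp, hs⟩
    rw [show pullback.snd ι (D.map (ψ ≫ φ)) = p from rfl, ← hl']
    infer_instance
  · rintro ⟨j, φ, hj⟩
    have hpb : IsPullback (pullback.lift (pullback.fst ι (c.π.app i))
        (pullback.snd ι (c.π.app i) ≫ c.π.app j)
        (by rw [Category.assoc, c.w, pullback.condition]))
        (pullback.snd ι (c.π.app i)) (pullback.snd ι (D.map φ)) (c.π.app j) := by
      refine IsPullback.of_right ?_ (by simp) (IsPullback.of_hasPullback ι (D.map φ))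
      simpa using IsPullback.of_hasPullback ι (c.π.app i)
    exact MorphismProperty.of_isPullback hpb hj

section Separated

variable {S S' X₀ Y₀ X Y : Scheme.{u}} (ψ : S' ⟶ S) (f₀ : X₀ ⟶ Y₀) (g₀ : Y₀ ⟶ S) (f : X ⟶ Y)
  (g : Y ⟶ S') (qY : Y ⟶ Y₀) (qX : X ⟶ X₀)

/-- Separatedness of a base change of `f₀` in terms of the range of the diagonal of `f₀`. -/
lemma isSeparated_iff_isClosed (hY : IsPullback qY g g₀ ψ) (hX : IsPullback qX f f₀ qY) :
    IsSeparated f ↔
      IsClosed (pullback.fst (pullback.fst f₀ f₀ ≫ f₀ ≫ g₀) ψ ⁻¹'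
        Set.range (pullback.diagonal f₀)) := by
  let m : pullback f f ⟶ pullback f₀ f₀ := pullback.map f f f₀ f₀ qX qX qY hX.w.symm hX.w.symm
  have h1 : IsPullback m (pullback.fst f f) (pullback.fst f₀ f₀) qX := by
    refine IsPullback.of_right ?_ (by simp [m]) (IsPullback.of_hasPullback f₀ f₀).flip
    rw [show m ≫ pullback.snd f₀ f₀ = pullback.snd f f ≫ qX by simp [m], hX.w]
    exact (IsPullback.of_hasPullback f f).flip.paste_horiz hX
  have h2 : IsPullback m (pullback.fst f f ≫ f ≫ g) (pullback.fst f₀ f₀ ≫ f₀ ≫ g₀) ψ :=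
    h1.paste_vert (hX.paste_vert hY)
  have hrange : Set.range (pullback.diagonal f) = m ⁻¹' Set.range (pullback.diagonal f₀) := by
    refine Set.Subset.antisymm ?_ fun z hz => ?_
    · rintro _ ⟨x, rfl⟩
      refine ⟨qX x, ?_⟩
      rw [← Scheme.Hom.comp_apply, ← Scheme.Hom.comp_apply,
        show qX ≫ pullback.diagonal f₀ = pullback.diagonal f ≫ m from
          pullback.hom_ext (by simp [m]) (by simp [m])]
    · obtain ⟨x₀, hx₀⟩ := hz
      have hd : IsPullback qX (pullback.diagonal f) (pullback.diagonal f₀) m := by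
        refine ⟨⟨pullback.hom_ext (by simp [m]) (by simp [m])⟩, ⟨PullbackCone.IsLimit.mk _
          (fun s => s.snd ≫ pullback.fst f f) (fun s => ?_) (fun s => ?_)
          (fun s t _ h2 => by rw [← h2]; simp)⟩⟩
        · have := congr($(s.condition) ≫ pullback.fst f₀ f₀)
          simp [m] at this
          simp [this]
        · have hq : s.snd ≫ pullback.fst f f ≫ qX = s.snd ≫ pullback.snd f f ≫ qX := by
            have h1 := congr($(s.condition) ≫ pullback.fst f₀ f₀)
            have h2 := congr($(s.condition) ≫ pullback.snd f₀ f₀)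
            simp [m] at h1 h2
            rw [← h1, ← h2]
          have heq : s.snd ≫ pullback.fst f f = s.snd ≫ pullback.snd f f :=
            hX.hom_ext (by simpa using hq) (by simp [pullback.condition])
          ext <;> simp [heq]
      obtain ⟨x, -, hx⟩ := Scheme.exists_preimage_of_isPullback hd x₀ z hx₀
      exact ⟨x, hx⟩
  have h3 : IsSeparated f ↔ IsClosed (Set.range (pullback.diagonal f)) := by
    rw [isSeparated_iff]
    exact ⟨fun h => (pullback.diagonal f).isClosedEmbedding.isClosed_range,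
      fun h => isClosedImmersion_of_isImmersion _ h⟩
  rw [h3, hrange, ← h2.isoPullback_hom_fst, Scheme.Hom.comp_base, TopCat.coe_comp,
    Set.preimage_comp]
  exact h2.isoPullback.hom.homeomorph.isClosed_preimage

end Separated

include hc in
/-- S4804 -/
lemma isSeparated_iff_exists {i₀ : I} {X₀ Y₀ : Scheme.{u}} (f₀ : X₀ ⟶ Y₀) (g₀ : Y₀ ⟶ D.obj i₀)
    [CompactSpace Y₀] [LocallyOfFiniteType f₀] [QuasiCompact f₀] [QuasiSeparated f₀]
    {X Y : Scheme.{u}} (f : X ⟶ Y) (g : Y ⟶ c.pt) (qY : Y ⟶ Y₀) (qX : X ⟶ X₀)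
    (hY : IsPullback qY g g₀ (c.π.app i₀)) (hX : IsPullback qX f f₀ qY) :
    IsSeparated f ↔
      ∃ (j : I) (φ : j ⟶ i₀) (Xj Yj : Scheme.{u}) (fj : Xj ⟶ Yj) (gj : Yj ⟶ D.obj j)
        (pY : Yj ⟶ Y₀) (pX : Xj ⟶ X₀),
        IsPullback pY gj g₀ (D.map φ) ∧ IsPullback pX fj f₀ pY ∧ IsSeparated fj := by
  let a := pullback.fst f₀ f₀ ≫ f₀ ≫ g₀
  let R := Set.range (pullback.diagonal f₀)
  rw [isSeparated_iff_isClosed (c.π.app i₀) f₀ g₀ f g qY qX hY hX]
  constructor
  · intro h
    have : CompactSpace X₀ := QuasiCompact.compactSpace_of_compactSpace f₀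
    have : CompactSpace ↥(pullback f₀ f₀) :=
      QuasiCompact.compactSpace_of_compactSpace (pullback.fst f₀ f₀)
    have : LocallyOfFinitePresentation (pullback.diagonal f₀) :=
      ASp.locallyOfFinitePresentation_of_comp _ (pullback.fst f₀ f₀)
        (by rw [pullback.diagonal_fst]; infer_instance) (MorphismProperty.pullback_fst _ _ inferInstance)
    let E := baseChange D i₀ a
    let o : Over i₀ := Over.mk (𝟙 i₀)
    have hR : IsLocallyConstructible (pullback.fst a (D.map o.hom) ⁻¹' R) := by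
      rw [show pullback.fst a (D.map o.hom) ⁻¹' R =
        Set.range (pullback.snd (pullback.diagonal f₀) (pullback.fst a (D.map o.hom))) from
          (Scheme.Pullback.range_snd _ _).symm]
      exact isLocallyConstructible_range _
    obtain ⟨k, t, hk⟩ := exists_isOpen_preimage_of_isLocallyConstructible E (baseChangeCone D c i₀ a)
      (nonempty_isLimit_baseChangeCone D c hc i₀ a).some (i := o)
      (isLocallyConstructible_compl hR) (by
        rw [Set.preimage_compl, ← Set.preimage_comp]
        change IsOpen (((baseChangeCone D c i₀ a).π.app o ≫ pullback.fst a (D.map o.hom)) ⁻¹' R)ᶜ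
        rw [show (baseChangeCone D c i₀ a).π.app o ≫ pullback.fst a (D.map o.hom) =
          pullback.fst a (c.π.app i₀) by simp [pullback.map]]
        exact h.isOpen_compl)
    rw [Set.preimage_compl, ← Set.preimage_comp] at hk
    change IsOpen ((E.map t ≫ pullback.fst a (D.map o.hom)) ⁻¹' R)ᶜ at hk
    rw [show E.map t ≫ pullback.fst a (D.map o.hom) = pullback.fst a (D.map k.hom) by
      simp [E, pullback.map]] at hk
    refine ⟨k.left, k.hom, _, _, pullback.snd f₀ (pullback.fst g₀ (D.map k.hom)),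
      pullback.snd g₀ (D.map k.hom), pullback.fst g₀ (D.map k.hom), pullback.fst _ _,
      IsPullback.of_hasPullback _ _, IsPullback.of_hasPullback _ _, ?_⟩
    rw [isSeparated_iff_isClosed (D.map k.hom) f₀ g₀ _ _ _ _ (IsPullback.of_hasPullback _ _)
      (IsPullback.of_hasPullback _ _)]
    exact isOpen_compl_iff.mp hk
  · rintro ⟨j, φ, Xj, Yj, fj, gj, pY, pX, hYj, hXj, hsep⟩
    rw [isSeparated_iff_isClosed (D.map φ) f₀ g₀ fj gj pY pX hYj hXj] at hsep
    have := hsep.preimage ((baseChangeCone D c i₀ a).π.app (Over.mk φ)).continuous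
    rw [← Set.preimage_comp] at this
    change IsClosed (((baseChangeCone D c i₀ a).π.app (Over.mk φ) ≫
      pullback.fst a (D.map φ)) ⁻¹' R) at this
    rw [show (baseChangeCone D c i₀ a).π.app (Over.mk φ) ≫ pullback.fst a (D.map φ) =
      pullback.fst a (c.π.app i₀) by simp [pullback.map]] at this
    exact this

end Groth.Agent.AffLim

end
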