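import Groth.Agent.AffLim.DescendRing
import Groth.Agent.AffLim.Immersion

/-!
# Descending affineness, closedness and finiteness to a stage

`h : E' ⟶ D` is a map of cofiltered systems of schemes with affine transition maps, `hinf` its
limit. With `q a : E' l ⟶ E' i ×_{D i} D l` the comparison maps:

* `exists_isAffineHom`: if `hinf` is affine then `h` is affine at all late stages;
* `exists_isClosedImmersion`: same for closed immersions, if all `q a` are closed immersions and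
  the `h` are locally of finite type;
* `exists_isFinite`: same for finite morphisms (`hinf` integral suffices), if all `q a` are finite.
-/

universe u

open CategoryTheory Limits AlgebraicGeometry

noncomputable section

set_option backward.isDefEq.respectTransparency false
set_option backward.defeqAttrib.useBackward true

namespace Groth.Agent.AffLim

/-- The restriction of a base change square over an open. -/
lemma exists_isPullback_restrict {X Y Y' : Scheme.{u}} (f : X ⟶ Y) (g : Y' ⟶ Y) (O : Y.Opens) :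
    ∃ l, IsPullback l (pullback.snd f g ∣_ g ⁻¹ᵁ O) (f ∣_ O) (g ∣_ O) ∧
      l ≫ (f ⁻¹ᵁ O).ι = (pullback.snd f g ⁻¹ᵁ g ⁻¹ᵁ O).ι ≫ pullback.fst f g := by
  have big := (isPullback_morphismRestrict (pullback.snd f g) (g ⁻¹ᵁ O)).flip.paste_horiz
    (IsPullback.of_hasPullback f g)
  rw [← morphismRestrict_ι g O] at big
  have hr := (isPullback_morphismRestrict f O).flip
  refine ⟨hr.lift ((pullback.snd f g ⁻¹ᵁ g ⁻¹ᵁ O).ι ≫ pullback.fst f g)
    ((pullback.snd f g ∣_ g ⁻¹ᵁ O) ≫ (g ∣_ O)) (by simpa using big.w),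
    IsPullback.of_right ?_ (hr.lift_snd _ _ _) hr, hr.lift_fst _ _ _⟩
  rwa [hr.lift_fst]

variable {I : Type u} [SmallCategory I] (D : I ⥤ Scheme.{u}) (c : Cone D) (hc : IsLimit c)
  [IsCofiltered I] [∀ {i j} (f : i ⟶ j), IsAffineHom (D.map f)]
  (E' : I ⥤ Scheme.{u}) (c' : Cone E') (hc' : IsLimit c')
  [∀ {i j} (f : i ⟶ j), IsAffineHom (E'.map f)]
  (h : E' ⟶ D) (hinf : c'.pt ⟶ c.pt) (hw : ∀ j, hinf ≫ c.π.app j = c'.π.app j ≫ h.app j)

/-- The comparison map to the base change of a stage. -/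
def comparison {l i : I} (a : l ⟶ i) : E'.obj l ⟶ pullback (h.app i) (D.map a) :=
  pullback.lift (E'.map a) (h.app l) (h.naturality a)

omit [IsCofiltered I] [∀ {i j} (f : i ⟶ j), IsAffineHom (E'.map f)]
  [∀ {i j} (f : i ⟶ j), IsAffineHom (D.map f)] in
@[reassoc (attr := simp)]
lemma comparison_fst {l i : I} (a : l ⟶ i) :
    comparison D E' h a ≫ pullback.fst _ _ = E'.map a := pullback.lift_fst _ _ _

omit [IsCofiltered I] [∀ {i j} (f : i ⟶ j), IsAffineHom (E'.map f)]
  [∀ {i j} (f : i ⟶ j), IsAffineHom (D.map f)] in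
@[reassoc (attr := simp)]
lemma comparison_snd {l i : I} (a : l ⟶ i) :
    comparison D E' h a ≫ pullback.snd _ _ = h.app l := pullback.lift_snd _ _ _

omit [IsCofiltered I] in
lemma isAffineHom_comparison {l i : I} (a : l ⟶ i) : IsAffineHom (comparison D E' h a) := by
  have : IsAffineHom (pullback.fst (h.app i) (D.map a)) :=
    MorphismProperty.pullback_fst (P := @IsAffineHom) _ _ inferInstance
  have : IsAffineHom (comparison D E' h a ≫ pullback.fst _ _) := by
    rw [comparison_fst]; infer_instance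
  exact IsAffineHom.of_comp _ (pullback.fst (h.app i) (D.map a))

omit [IsCofiltered I] [∀ {i j} (f : i ⟶ j), IsAffineHom (E'.map f)]
  [∀ {i j} (f : i ⟶ j), IsAffineHom (D.map f)] in
/-- A property which holds for the comparison maps persists, over an open, to later stages. -/
lemma restrict_of_stage (P : MorphismProperty Scheme.{u}) [IsZariskiLocalAtTarget P]
    [P.IsStableUnderBaseChange] [P.IsStableUnderComposition] {l i : I} (a : l ⟶ i)
    (hq : P (comparison D E' h a)) (O : (D.obj i).Opens) (hO : P (h.app i ∣_ O)) :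
    P (h.app l ∣_ D.map a ⁻¹ᵁ O) := by
  obtain ⟨_, hsq, -⟩ := exists_isPullback_restrict (h.app i) (D.map a) O
  rw [← comparison_snd D E' h a, morphismRestrict_comp]
  exact P.comp_mem _ _ (IsZariskiLocalAtTarget.restrict hq _)
    (MorphismProperty.of_isPullback hsq hO)

/-- From affine opens of a stage to all late stages. -/
lemma exists_of_forall_affine (P : MorphismProperty Scheme.{u}) [IsZariskiLocalAtTarget P]
    [P.IsStableUnderBaseChange] [P.IsStableUnderComposition] {i : I} [CompactSpace (D.obj i)]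
    (hq : ∀ {l k : I} (a : l ⟶ k), P (comparison D E' h a))
    (H : ∀ U : (D.obj i).affineOpens, ∃ (j : I) (φ : j ⟶ i), P (h.app j ∣_ D.map φ ⁻¹ᵁ U.1)) :
    ∃ (j : I) (_ : j ⟶ i), ∀ (k : I) (_ : k ⟶ j), P (h.app k) := by
  let Q : (D.obj i).Opens → Prop := fun S => ∃ (j : I) (φ : j ⟶ i),
    ∀ y : D.obj j, D.map φ y ∈ S → ∃ O : (D.obj j).Opens, y ∈ O ∧ P (h.app j ∣_ O)
  suffices Q ⊤ by
    obtain ⟨j, φ, hj⟩ := this
    refine ⟨j, φ, fun k ψ => ?_⟩
    choose O hyO hO using fun y : D.obj k => hj (D.map ψ y) trivial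
    refine (IsZariskiLocalAtTarget.iff_of_iSup_eq_top (P := P)
      (fun y => D.map ψ ⁻¹ᵁ O y) ?_).mpr fun y => restrict_of_stage D E' h P ψ (hq ψ) _ (hO y)
    exact eq_top_iff.mpr fun y _ => TopologicalSpace.Opens.mem_iSup.mpr ⟨y, hyO y⟩
  refine compact_open_induction_on (P := Q) ⊤ isCompact_univ
    ⟨i, 𝟙 i, fun y hy => hy.elim⟩ fun S _ U hS => ?_
  obtain ⟨j₁, φ₁, h₁⟩ := hS
  obtain ⟨j₂, φ₂, h₂⟩ := H U
  obtain ⟨j, a, b, e⟩ := IsCofiltered.cospan φ₁ φ₂
  refine ⟨j, a ≫ φ₁, fun y hy => ?_⟩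
  rcases hy with hy | hy
  · rw [D.map_comp] at hy
    obtain ⟨O, hyO, hO⟩ := h₁ (D.map a y) hy
    exact ⟨D.map a ⁻¹ᵁ O, hyO, restrict_of_stage D E' h P a (hq a) O hO⟩
  · rw [e, D.map_comp] at hy
    exact ⟨D.map b ⁻¹ᵁ (D.map φ₂ ⁻¹ᵁ U.1), hy, restrict_of_stage D E' h P b (hq b) _ h₂⟩

include hc hc' hw in
/-- Affineness is reached at some stage. -/
theorem exists_isAffineHom [∀ k, QuasiSeparatedSpace (E'.obj k)] [∀ k, QuasiCompact (h.app k)]
    {i : I} [CompactSpace (D.obj i)] [IsAffineHom hinf] :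
    ∃ (j : I) (_ : j ⟶ i), ∀ (k : I) (_ : k ⟶ j), IsAffineHom (h.app k) := by
  refine exists_of_forall_affine D E' h @IsAffineHom
    (fun a => isAffineHom_comparison D E' h a) fun U => ?_
  let V := h.app i ⁻¹ᵁ U.1
  have hV : IsCompact (V : Set (E'.obj i)) :=
    QuasiCompact.isCompact_preimage (f := h.app i) _ U.1.2 U.2.isCompact
  have hcpt : ∀ k : Over i, CompactSpace ((opensDiagram E' i V).obj k) := fun k =>
    isCompact_iff_compactSpace.mp (QuasiCompact.isCompact_preimage (f := E'.map k.hom) _ V.2 hV)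
  have : ∀ k : Over i, QuasiSeparatedSpace ((opensDiagram E' i V).obj k) := fun k =>
    quasiSeparatedSpace_of_quasiSeparated (E'.map k.hom ⁻¹ᵁ V).ι
  have : IsAffine (opensCone E' c' i V).pt := by
    have hπ := isAffineHom_π_app D c hc i
    have e : c'.π.app i ⁻¹ᵁ V = hinf ⁻¹ᵁ (c.π.app i ⁻¹ᵁ U.1) := by
      rw [← Scheme.Hom.comp_preimage hinf, hw, Scheme.Hom.comp_preimage]
    change IsAffineOpen (c'.π.app i ⁻¹ᵁ V)
    rw [e]
    exact (U.2.preimage (c.π.app i)).preimage hinf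
  obtain ⟨k, hk⟩ := Scheme.exists_isAffine_of_isLimit (opensDiagram E' i V) _
    (isLimitOpensCone E' c' hc' i V)
  refine ⟨k.left, k.hom, ?_⟩
  have : IsAffine (D.map k.hom ⁻¹ᵁ U.1).toScheme := U.2.preimage _
  have heq : E'.map k.hom ⁻¹ᵁ V = h.app k.left ⁻¹ᵁ (D.map k.hom ⁻¹ᵁ U.1) := by
    rw [← Scheme.Hom.comp_preimage, ← Scheme.Hom.comp_preimage, h.naturality]
  have : IsAffine (h.app k.left ⁻¹ᵁ (D.map k.hom ⁻¹ᵁ U.1)).toScheme := by
    rw [← heq]; exact hk
  exact isAffineHom_of_isAffine _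

section Restrict

variable {i : I} (U : (D.obj i).Opens)

/-- The restriction of `h` over an open of stage `i`. -/
def restrictHom : opensDiagram E' i (h.app i ⁻¹ᵁ U) ⟶ opensDiagram D i U where
  app k := (h.app k.left).resLE _ _ (by
    rw [← Scheme.Hom.comp_preimage, ← Scheme.Hom.comp_preimage, h.naturality])
  naturality k l f := by
    dsimp [opensDiagram]
    rw [← cancel_mono (D.map l.hom ⁻¹ᵁ U).ι]
    simp only [Category.assoc, Scheme.Hom.resLE_comp_ι, Scheme.Hom.resLE_comp_ι_assoc,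
      h.naturality]

include hw in
omit [IsCofiltered I] [∀ {i j} (f : i ⟶ j), IsAffineHom (E'.map f)]
  [∀ {i j} (f : i ⟶ j), IsAffineHom (D.map f)] in
lemma le_hinf_preimage : c'.π.app i ⁻¹ᵁ (h.app i ⁻¹ᵁ U) = hinf ⁻¹ᵁ (c.π.app i ⁻¹ᵁ U) := by
  rw [← Scheme.Hom.comp_preimage hinf, hw, Scheme.Hom.comp_preimage]

include hw in
omit [IsCofiltered I] [∀ {i j} (f : i ⟶ j), IsAffineHom (E'.map f)]
  [∀ {i j} (f : i ⟶ j), IsAffineHom (D.map f)] in
lemma restrictHom_w (k : Over i) :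
    hinf.resLE (c.π.app i ⁻¹ᵁ U) (c'.π.app i ⁻¹ᵁ (h.app i ⁻¹ᵁ U))
        (le_hinf_preimage D c E' c' h hinf hw U).le ≫ (opensCone D c i U).π.app k =
      (opensCone E' c' i (h.app i ⁻¹ᵁ U)).π.app k ≫ (restrictHom D E' h U).app k := by
  dsimp [opensCone, restrictHom, opensDiagram]
  rw [← cancel_mono (D.map k.hom ⁻¹ᵁ U).ι]
  simp only [Category.assoc, Scheme.Hom.resLE_comp_ι, Scheme.Hom.resLE_comp_ι_assoc, hw]

omit [IsCofiltered I] in
/-- The comparison maps of the restricted systems are restrictions of comparison maps. -/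
lemma exists_comparison_restrict {o l : Over i} (a : l ⟶ o) (P : MorphismProperty Scheme.{u})
    [IsZariskiLocalAtTarget P] [P.RespectsIso] (hq : P (comparison D E' h a.left)) :
    ∃ (R : Scheme.{u}) (q : (opensDiagram E' i (h.app i ⁻¹ᵁ U)).obj l ⟶ R)
      (r₁ : R ⟶ (opensDiagram E' i (h.app i ⁻¹ᵁ U)).obj o)
      (r₂ : R ⟶ (opensDiagram D i U).obj l),
      P q ∧ IsPullback r₁ r₂ ((restrictHom D E' h U).app o) ((opensDiagram D i U).map a) ∧
        q ≫ r₁ = (opensDiagram E' i (h.app i ⁻¹ᵁ U)).map a ∧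
        q ≫ r₂ = (restrictHom D E' h U).app l := by
  let O : (D.obj o.left).Opens := D.map o.hom ⁻¹ᵁ U
  obtain ⟨m, hm, hm'⟩ := exists_isPullback_restrict (h.app o.left) (D.map a.left) O
  have eD : D.map l.hom ⁻¹ᵁ U = D.map a.left ⁻¹ᵁ O := by
    rw [← Scheme.Hom.comp_preimage, ← D.map_comp, Over.w a]
  have eE : E'.map o.hom ⁻¹ᵁ (h.app i ⁻¹ᵁ U) = h.app o.left ⁻¹ᵁ O := by
    rw [← Scheme.Hom.comp_preimage, ← Scheme.Hom.comp_preimage, h.naturality]
  have eE' : E'.map l.hom ⁻¹ᵁ (h.app i ⁻¹ᵁ U) =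
      comparison D E' h a.left ⁻¹ᵁ (pullback.snd (h.app o.left) (D.map a.left) ⁻¹ᵁ (D.map a.left ⁻¹ᵁ O)) := by
    rw [← eD, ← Scheme.Hom.comp_preimage, ← Scheme.Hom.comp_preimage, comparison_snd,
      ← Scheme.Hom.comp_preimage, h.naturality]
  let R := (pullback.snd (h.app o.left) (D.map a.left) ⁻¹ᵁ (D.map a.left ⁻¹ᵁ O)).toScheme
  refine ⟨R, ((E'.obj l.left).isoOfEq eE').hom ≫ (comparison D E' h a.left ∣_ _),
    m ≫ ((E'.obj o.left).isoOfEq eE.symm).hom,
    (pullback.snd _ _ ∣_ _) ≫ ((D.obj l.left).isoOfEq eD.symm).hom, ?_, ?_, ?_, ?_⟩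
  · exact (P.cancel_left_of_respectsIso _ _).mpr (IsZariskiLocalAtTarget.restrict hq _)
  · refine IsPullback.of_iso hm (Iso.refl _) ((E'.obj o.left).isoOfEq eE.symm)
      ((D.obj l.left).isoOfEq eD.symm) (Iso.refl _) (by simp) (by simp) ?_ ?_
    · dsimp [restrictHom]
      rw [← cancel_mono (D.map o.hom ⁻¹ᵁ U).ι]
      simp only [Category.assoc, Scheme.Hom.resLE_comp_ι, morphismRestrict_ι,
        Scheme.isoOfEq_hom_ι_assoc, Category.id_comp, O]
    · dsimp [opensDiagram]
      rw [← cancel_mono (D.map o.hom ⁻¹ᵁ U).ι]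
      simp only [Category.assoc, Scheme.Hom.resLE_comp_ι, Scheme.isoOfEq_hom_ι_assoc,
        Category.id_comp, O]
      exact morphismRestrict_ι _ _
  · dsimp [opensDiagram]
    rw [← cancel_mono (E'.map o.hom ⁻¹ᵁ (h.app i ⁻¹ᵁ U)).ι]
    simp only [Category.assoc, Scheme.Hom.resLE_comp_ι, Scheme.isoOfEq_hom_ι, hm',
      morphismRestrict_ι_assoc, comparison_fst, Scheme.isoOfEq_hom_ι_assoc]
  · dsimp [restrictHom, opensDiagram]
    rw [← cancel_mono (D.map l.hom ⁻¹ᵁ U).ι]
    simp only [Category.assoc, Scheme.Hom.resLE_comp_ι, Scheme.isoOfEq_hom_ι, morphismRestrict_ι,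
      morphismRestrict_ι_assoc, comparison_snd, Scheme.isoOfEq_hom_ι_assoc]

end Restrict

include hc hc' hw in
/-- Being a closed immersion is reached at some stage, given affineness at `i₁`. -/
theorem exists_isClosedImmersion_of_isAffineHom [∀ k, LocallyOfFiniteType (h.app k)]
    (hq : ∀ {l k : I} (a : l ⟶ k), IsClosedImmersion (comparison D E' h a))
    {i₁ : I} [CompactSpace (D.obj i₁)] [IsAffineHom (h.app i₁)] [IsClosedImmersion hinf] :
    ∃ (j : I) (_ : j ⟶ i₁), ∀ (k : I) (_ : k ⟶ j), IsClosedImmersion (h.app k) := by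
  exact exists_of_forall_affine D E' h @IsClosedImmersion (i := i₁) hq fun U => by
    have hV : IsAffineOpen (h.app i₁ ⁻¹ᵁ U.1) := U.2.preimage _
    have : ∀ k, IsAffine ((opensDiagram D i₁ U.1).obj k) := fun k => U.2.preimage _
    have : ∀ k, IsAffine ((opensDiagram E' i₁ (h.app i₁ ⁻¹ᵁ U.1)).obj k) := fun k =>
      hV.preimage _
    let hU := restrictHom D E' h U.1
    let o : Over i₁ := Over.mk (𝟙 i₁)
    have : LocallyOfFiniteType (hU.app o) := by
      dsimp [hU, restrictHom]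
      infer_instance
    have hsurj : Function.Surjective (hinf.resLE (c.π.app i₁ ⁻¹ᵁ U.1)
        (c'.π.app i₁ ⁻¹ᵁ (h.app i₁ ⁻¹ᵁ U.1))
        (le_hinf_preimage D c E' c' h hinf hw U.1).le).appTop := by
      have hπ := isAffineHom_π_app D c hc i₁
      have : IsAffine (c.π.app i₁ ⁻¹ᵁ U.1).toScheme := U.2.preimage _
      have hcl : IsClosedImmersion (hinf.resLE (c.π.app i₁ ⁻¹ᵁ U.1)
          (c'.π.app i₁ ⁻¹ᵁ (h.app i₁ ⁻¹ᵁ U.1))
          (le_hinf_preimage D c E' c' h hinf hw U.1).le) := by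
        refine (Scheme.Hom.resLE_congr hinf _ rfl (le_hinf_preimage D c E' c' h hinf hw U.1)
          @IsClosedImmersion).mpr ?_
        rw [Scheme.Hom.resLE_eq_morphismRestrict]
        exact IsZariskiLocalAtTarget.restrict ‹_› _
      exact ((HasAffineProperty.iff_of_isAffine (P := @IsClosedImmersion)).mp hcl).2
    obtain ⟨k, _, hk⟩ := exists_surjective_appTop (isLimitOpensCone D c hc i₁ U.1)
      (isLimitOpensCone E' c' hc' i₁ (h.app i₁ ⁻¹ᵁ U.1)) hU _
      (restrictHom_w D c E' c' h hinf hw U.1) (i := o) (fun l a => by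
        obtain ⟨R, q, r₁, r₂, hqc, hR, h1, h2⟩ := exists_comparison_restrict D E' h U.1
          (o := o) a @IsClosedImmersion (hq a.left)
        have : IsAffine R := .of_isPullback hR
        have hgen := closure_range_eq_top (isPushout_appTop_of_isPullback hR)
        have hqs : Function.Surjective q.appTop :=
          ((HasAffineProperty.iff_of_isAffine (P := @IsClosedImmersion)).mp hqc).2
        rw [eq_top_iff] at hgen ⊢
        intro x _
        obtain ⟨y, rfl⟩ := hqs x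
        have hy := hgen (Subring.mem_top y)
        rw [← h1, ← h2]
        suffices Subring.closure (Set.range r₁.appTop ∪ Set.range r₂.appTop) ≤
            (Subring.closure (Set.range (q ≫ r₂).appTop ∪ Set.range (q ≫ r₁).appTop)).comap
              q.appTop.hom from this hy
        rw [Subring.closure_le]
        rintro z (⟨w, rfl⟩ | ⟨w, rfl⟩)
        · exact Subring.subset_closure (Or.inr ⟨w, rfl⟩)
        · exact Subring.subset_closure (Or.inl ⟨w, rfl⟩)) hsurj
    refine ⟨k.left, k.hom, ?_⟩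
    have hcl : IsClosedImmersion (hU.app k) :=
      (HasAffineProperty.iff_of_isAffine (P := @IsClosedImmersion)).mpr ⟨inferInstance, hk⟩
    have heq : E'.map k.hom ⁻¹ᵁ (h.app i₁ ⁻¹ᵁ U.1) =
        h.app k.left ⁻¹ᵁ (D.map k.hom ⁻¹ᵁ U.1) := by
      rw [← Scheme.Hom.comp_preimage, ← Scheme.Hom.comp_preimage, h.naturality]
    dsimp [hU, restrictHom] at hcl
    have := (Scheme.Hom.resLE_congr (h.app k.left) _ rfl heq @IsClosedImmersion).mp hcl
    rwa [Scheme.Hom.resLE_eq_morphismRestrict] at this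

include hc hc' hw in
/-- Being a closed immersion is reached at some stage. -/
theorem exists_isClosedImmersion [∀ k, QuasiSeparatedSpace (E'.obj k)]
    [∀ k, QuasiCompact (h.app k)] [∀ k, LocallyOfFiniteType (h.app k)]
    (hq : ∀ {l k : I} (a : l ⟶ k), IsClosedImmersion (comparison D E' h a))
    {i : I} [CompactSpace (D.obj i)] [IsClosedImmersion hinf] :
    ∃ (j : I) (_ : j ⟶ i), ∀ (k : I) (_ : k ⟶ j), IsClosedImmersion (h.app k) := by
  obtain ⟨i₁, φ₁, haff⟩ := exists_isAffineHom D c hc E' c' hc' h hinf hw (i := i)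
  have : CompactSpace (D.obj i₁) := QuasiCompact.compactSpace_of_compactSpace (D.map φ₁)
  have := haff i₁ (𝟙 _)
  obtain ⟨j, φ, hj⟩ :=
    exists_isClosedImmersion_of_isAffineHom D c hc E' c' hc' h hinf hw hq (i₁ := i₁)
  exact ⟨j, φ ≫ φ₁, hj⟩

include hc hc' hw in
/-- Finiteness is reached at some stage. -/
theorem exists_isFinite [∀ k, QuasiSeparatedSpace (E'.obj k)]
    [∀ k, QuasiCompact (h.app k)] [∀ k, LocallyOfFiniteType (h.app k)]
    (hq : ∀ {l k : I} (a : l ⟶ k), IsFinite (comparison D E' h a))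
    {i : I} [CompactSpace (D.obj i)] [IsIntegralHom hinf] :
    ∃ (j : I) (_ : j ⟶ i), ∀ (k : I) (_ : k ⟶ j), IsFinite (h.app k) := by
  obtain ⟨i₁, φ₁, haff⟩ := exists_isAffineHom D c hc E' c' hc' h hinf hw (i := i)
  have : CompactSpace (D.obj i₁) := QuasiCompact.compactSpace_of_compactSpace (D.map φ₁)
  obtain ⟨j, φ, hj⟩ := exists_of_forall_affine D E' h @IsFinite (i := i₁) hq fun U => by
    have := haff i₁ (𝟙 _)
    have hV : IsAffineOpen (h.app i₁ ⁻¹ᵁ U.1) := U.2.preimage _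
    have : ∀ k, IsAffine ((opensDiagram D i₁ U.1).obj k) := fun k => U.2.preimage _
    have : ∀ k, IsAffine ((opensDiagram E' i₁ (h.app i₁ ⁻¹ᵁ U.1)).obj k) := fun k =>
      hV.preimage _
    let hU := restrictHom D E' h U.1
    let o : Over i₁ := Over.mk (𝟙 i₁)
    have hlft : ∀ k, LocallyOfFiniteType (hU.app k) := fun k => by
      dsimp [hU, restrictHom]
      infer_instance
    have hint : (hinf.resLE (c.π.app i₁ ⁻¹ᵁ U.1)
        (c'.π.app i₁ ⁻¹ᵁ (h.app i₁ ⁻¹ᵁ U.1))
        (le_hinf_preimage D c E' c' h hinf hw U.1).le).appTop.hom.IsIntegral := by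
      have hπ := isAffineHom_π_app D c hc i₁
      have : IsAffine (c.π.app i₁ ⁻¹ᵁ U.1).toScheme := U.2.preimage _
      have hi : IsIntegralHom (hinf.resLE (c.π.app i₁ ⁻¹ᵁ U.1)
          (c'.π.app i₁ ⁻¹ᵁ (h.app i₁ ⁻¹ᵁ U.1))
          (le_hinf_preimage D c E' c' h hinf hw U.1).le) := by
        refine (Scheme.Hom.resLE_congr hinf _ rfl (le_hinf_preimage D c E' c' h hinf hw U.1)
          @IsIntegralHom).mpr ?_
        rw [Scheme.Hom.resLE_eq_morphismRestrict]
        exact IsZariskiLocalAtTarget.restrict ‹_› _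
      exact ((HasAffineProperty.iff_of_isAffine (P := @IsIntegralHom)).mp hi).2
    obtain ⟨k, _, hk⟩ := exists_isIntegral_appTop (isLimitOpensCone D c hc i₁ U.1)
      (isLimitOpensCone E' c' hc' i₁ (h.app i₁ ⁻¹ᵁ U.1)) hU _
      (restrictHom_w D c E' c' h hinf hw U.1) (i := o) (fun l a x => by
        obtain ⟨R, q, r₁, r₂, hqc, hR, h1, h2⟩ := exists_comparison_restrict D E' h U.1
          (o := o) a @IsFinite (hq a.left)
        have : IsAffine R := .of_isPullback hR
        have hgen := closure_range_eq_top (isPushout_appTop_of_isPullback hR)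
        obtain ⟨p, hp, hpx⟩ := q.finite_appTop.to_isIntegral x
        have hmem : ∀ y, q.appTop y ∈ Subring.closure
            (Set.range (hU.app l).appTop ∪ Set.range ((opensDiagram E' i₁ _).map a).appTop) := by
          intro y
          rw [← h1, ← h2]
          suffices Subring.closure (Set.range r₁.appTop ∪ Set.range r₂.appTop) ≤
              (Subring.closure (Set.range (q ≫ r₂).appTop ∪ Set.range (q ≫ r₁).appTop)).comap
                q.appTop.hom from this (hgen ▸ Subring.mem_top y)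
          rw [Subring.closure_le]
          rintro z (⟨w, rfl⟩ | ⟨w, rfl⟩)
          · exact Subring.subset_closure (Or.inr ⟨w, rfl⟩)
          · exact Subring.subset_closure (Or.inl ⟨w, rfl⟩)
        refine ⟨p.map (q.appTop.hom.codRestrict _ hmem), hp.map _, ?_⟩
        rw [Polynomial.eval₂_map]
        exact hpx) hint
    refine ⟨k.left, k.hom, ?_⟩
    have hfin : IsFinite (hU.app k) :=
      (IsFinite.iff_isIntegralHom_and_locallyOfFiniteType _).mpr
        ⟨(HasAffineProperty.iff_of_isAffine (P := @IsIntegralHom)).mpr ⟨inferInstance, hk⟩, hlft k⟩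
    have heq : E'.map k.hom ⁻¹ᵁ (h.app i₁ ⁻¹ᵁ U.1) =
        h.app k.left ⁻¹ᵁ (D.map k.hom ⁻¹ᵁ U.1) := by
      rw [← Scheme.Hom.comp_preimage, ← Scheme.Hom.comp_preimage, h.naturality]
    dsimp [hU, restrictHom] at hfin
    have := (Scheme.Hom.resLE_congr (h.app k.left) _ rfl heq @IsFinite).mp hfin
    rwa [Scheme.Hom.resLE_eq_morphismRestrict] at this
  exact ⟨j, φ ≫ φ₁, hj⟩

include hc hc' hw in
/-- Being an immersion is reached at some stage. -/
theorem exists_isImmersion [∀ k, QuasiSeparatedSpace (E'.obj k)]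
    [∀ k, QuasiCompact (h.app k)] [∀ k, LocallyOfFiniteType (h.app k)]
    (hq : ∀ {l k : I} (a : l ⟶ k), IsClosedImmersion (comparison D E' h a))
    {i : I} [CompactSpace c'.pt] [CompactSpace (D.obj i)] [IsImmersion hinf] :
    ∃ (j : I) (_ : j ⟶ i), ∀ (k : I) (_ : k ⟶ j), IsImmersion (h.app k) := by
  -- a compact open of the limit in which the image is closed
  obtain ⟨O', hO'c, hrO, hO'⟩ : ∃ O' : c.pt.Opens, IsCompact (O' : Set c.pt) ∧
      Set.range hinf ⊆ O' ∧ O' ≤ hinf.coborderRange := by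
    have hsub : ∀ x : c'.pt, ∃ U : c.pt.Opens, IsAffineOpen U ∧ hinf x ∈ U ∧
        U ≤ hinf.coborderRange := fun x => by
      obtain ⟨_, ⟨U, hU, rfl⟩, hxU, hUO⟩ := c.pt.isBasis_affineOpens.exists_subset_of_mem_open
        (show hinf x ∈ (hinf.coborderRange : Set c.pt) from subset_coborder ⟨x, rfl⟩)
        hinf.coborderRange.2
      exact ⟨U, hU, hxU, hUO⟩
    choose U hU hxU hUO using hsub
    obtain ⟨t, ht⟩ := CompactSpace.elim_nhds_subcover (fun x => (hinf ⁻¹ᵁ U x : Set c'.pt))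
      (fun x => (hinf ⁻¹ᵁ U x).2.mem_nhds (hxU x))
    refine ⟨⨆ x ∈ t, U x, ?_, ?_, iSup₂_le fun x _ => hUO x⟩
    · simp only [TopologicalSpace.Opens.coe_iSup]
      exact t.finite_toSet.isCompact_biUnion fun x _ => (hU x).isCompact
    · rintro _ ⟨x, rfl⟩
      obtain ⟨y, hy, hxy⟩ := Set.mem_iUnion₂.mp (ht.ge (Set.mem_univ x))
      exact TopologicalSpace.Opens.mem_iSup.mpr
        ⟨y, TopologicalSpace.Opens.mem_iSup.mpr ⟨hy, hxy⟩⟩
  obtain ⟨k₁, O₁, hO₁c, hO₁⟩ := exists_preimage_eq D c hc O' hO'c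
  obtain ⟨k, p, r, -⟩ := IsCofilteredOrEmpty.cone_objs k₁ i
  let O := D.map p ⁻¹ᵁ O₁
  have hOc : IsCompact (O : Set (D.obj k)) :=
    QuasiCompact.isCompact_preimage (f := D.map p) _ O₁.2 hO₁c
  have hπO : c.π.app k ⁻¹ᵁ O = O' := by
    rw [← hO₁, ← Scheme.Hom.comp_preimage, c.w]
  let V := h.app k ⁻¹ᵁ O
  have hV : c'.π.app k ⁻¹ᵁ V = ⊤ := by
    rw [le_hinf_preimage D c E' c' h hinf hw O, hπO, ← top_le_iff]
    exact fun x _ => hrO ⟨x, rfl⟩
  have : CompactSpace (D.obj k) := QuasiCompact.compactSpace_of_compactSpace (D.map r)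
  have : CompactSpace (E'.obj k) := QuasiCompact.compactSpace_of_compactSpace (h.app k)
  obtain ⟨k₂, ψ, hk₂⟩ := exists_map_preimage_le_map_preimage E' c' hc' (U := ⊤) (V := V)
    isCompact_univ (hV ▸ le_top)
  -- the systems over `O`
  let hU := restrictHom D E' h O
  have : ∀ l : Over k, QuasiSeparatedSpace ((opensDiagram E' k V).obj l) := fun l =>
    quasiSeparatedSpace_of_quasiSeparated (E'.map l.hom ⁻¹ᵁ V).ι
  have hres : ∀ l : Over k, E'.map l.hom ⁻¹ᵁ V = h.app l.left ⁻¹ᵁ (D.map l.hom ⁻¹ᵁ O) :=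
    fun l => (Scheme.Hom.comp_preimage _ _ _).symm.trans
      ((congrArg (· ⁻¹ᵁ O) (h.naturality l.hom)).trans (Scheme.Hom.comp_preimage _ _ _))
  have : ∀ l, QuasiCompact (hU.app l) := fun l => by
    dsimp [hU, restrictHom]
    refine (Scheme.Hom.resLE_congr (h.app l.left) _ rfl (hres l) @QuasiCompact).mpr ?_
    rw [Scheme.Hom.resLE_eq_morphismRestrict]
    infer_instance
  have : ∀ l, LocallyOfFiniteType (hU.app l) := fun l => by
    dsimp [hU, restrictHom]; infer_instance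
  have : CompactSpace ((opensDiagram D k O).obj (Over.mk (𝟙 k))) :=
    isCompact_iff_compactSpace.mp (QuasiCompact.isCompact_preimage (f := D.map (𝟙 k)) _ O.2 hOc)
  have : IsClosedImmersion (hinf.resLE (c.π.app k ⁻¹ᵁ O) (c'.π.app k ⁻¹ᵁ V)
      (le_hinf_preimage D c E' c' h hinf hw O).le) := by
    refine isClosedImmersion_of_isImmersion _ ?_
    have hr : Set.range (hinf.resLE (c.π.app k ⁻¹ᵁ O) (c'.π.app k ⁻¹ᵁ V)
        (le_hinf_preimage D c E' c' h hinf hw O).le) =
        (c.π.app k ⁻¹ᵁ O).ι ⁻¹' (Set.range hinf) := by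
      refine Set.Subset.antisymm ?_ fun y ⟨x, hx⟩ => ?_
      · rintro _ ⟨x, rfl⟩
        exact ⟨x.1, congr($(Scheme.Hom.resLE_comp_ι hinf
          (le_hinf_preimage D c E' c' h hinf hw O).le) x).symm⟩
      · refine ⟨⟨x, hV.ge trivial⟩, Subtype.ext ?_⟩
        exact (congr($(Scheme.Hom.resLE_comp_ι hinf
          (le_hinf_preimage D c E' c' h hinf hw O).le) _)).trans hx
    rw [hr]
    refine (isClosed_preimage_val_coborder (s := Set.range hinf)).preimage
      (f := fun y : (c.π.app k ⁻¹ᵁ O).toScheme =>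
        (⟨y.1, hO' (hπO.le y.2)⟩ : coborder (Set.range hinf))) ?_
    exact continuous_subtype_val.subtype_mk _
  obtain ⟨m, f, hm⟩ := exists_isClosedImmersion (opensDiagram D k O) _
    (isLimitOpensCone D c hc k O) (opensDiagram E' k V) _ (isLimitOpensCone E' c' hc' k V) hU _
    (restrictHom_w D c E' c' h hinf hw O) (fun {l₁ l₂} a => by
      obtain ⟨R, q, r₁, r₂, hqc, hR, h1, h2⟩ :=
        exists_comparison_restrict D E' h O a @IsClosedImmersion (hq a.left)
      have e : comparison (opensDiagram D k O) (opensDiagram E' k V) hU a =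
          q ≫ hR.isoPullback.hom := by
        ext
        · rw [Category.assoc, hR.isoPullback_hom_fst, comparison_fst]; exact h1.symm
        · rw [Category.assoc, hR.isoPullback_hom_snd, comparison_snd]; exact h2.symm
      rw [e]
      exact (MorphismProperty.cancel_right_of_respectsIso (P := @IsClosedImmersion) q _).mpr hqc)
    (i := Over.mk (𝟙 k))
  obtain ⟨n, u, v, e⟩ := IsCofiltered.cospan m.hom ψ
  refine ⟨n, (v ≫ ψ) ≫ r, fun l g => ?_⟩
  have := hm (Over.mk (g ≫ u ≫ m.hom)) (Over.homMk (g ≫ u) (by simp))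
  dsimp [hU, restrictHom] at this
  have htop : E'.map (g ≫ u ≫ m.hom) ⁻¹ᵁ V = ⊤ := by
    rw [e, ← Category.assoc, E'.map_comp, Scheme.Hom.comp_preimage, ← top_le_iff]
    exact fun x _ => hk₂ (x := E'.map (g ≫ v) x) trivial
  have hfac : h.app l = (Scheme.topIso _).inv ≫ ((E'.obj l).isoOfEq htop.symm).hom ≫
      (h.app l).resLE (D.map (g ≫ u ≫ m.hom) ⁻¹ᵁ O) (E'.map (g ≫ u ≫ m.hom) ⁻¹ᵁ V)
        (hres (Over.mk (g ≫ u ≫ m.hom))).le ≫ (D.map (g ≫ u ≫ m.hom) ⁻¹ᵁ O).ι := by
    rw [Scheme.Hom.resLE_comp_ι, Scheme.isoOfEq_hom_ι_assoc, Scheme.toIso_inv_ι_assoc]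
  rw [hfac]
  infer_instance

end Groth.Agent.AffLim

end
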