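import Groth.Agent.AffLim.DescendQF

/-!
# Descending formal unramifiedness to a stage, the source only quasi-compact
-/

universe u

open CategoryTheory Limits AlgebraicGeometry

noncomputable section

set_option backward.isDefEq.respectTransparency false
set_option backward.defeqAttrib.useBackward true
set_option linter.unusedSectionVars false

namespace Groth.Agent.AffLim

/-- Restriction of two base change squares to opens. -/
lemma isPullback_resLE {S T X₀ Y₀ X Y : Scheme.{u}} {g₀ : Y₀ ⟶ S} {π : T ⟶ S} {f₀ : X₀ ⟶ Y₀}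
    {f : X ⟶ Y} {g : Y ⟶ T} {qY : Y ⟶ Y₀} {qX : X ⟶ X₀}
    (hY : IsPullback qY g g₀ π) (hX : IsPullback qX f f₀ qY)
    (W : X₀.Opens) (V : Y₀.Opens) (h : W ≤ f₀ ⁻¹ᵁ V) :
    ∃ h' : qX ⁻¹ᵁ W ≤ f ⁻¹ᵁ (qY ⁻¹ᵁ V),
      IsPullback (qY ∣_ V) ((qY ⁻¹ᵁ V).ι ≫ g) (V.ι ≫ g₀) π ∧
      IsPullback (qX ∣_ W) (f.resLE (qY ⁻¹ᵁ V) (qX ⁻¹ᵁ W) h') (f₀.resLE V W h) (qY ∣_ V) := by
  have h' : qX ⁻¹ᵁ W ≤ f ⁻¹ᵁ (qY ⁻¹ᵁ V) := by
    rw [← Scheme.Hom.comp_preimage, ← hX.w, Scheme.Hom.comp_preimage]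
    exact Scheme.Hom.preimage_mono _ h
  refine ⟨h', (isPullback_morphismRestrict qY V).paste_vert hY, ?_⟩
  refine IsPullback.of_bot ?_ ?_ (isPullback_morphismRestrict qY V)
  · simpa using (isPullback_morphismRestrict qX W).paste_vert hX
  · simp [← cancel_mono V.ι, hX.w]

variable {I : Type u} [SmallCategory I] (D : I ⥤ Scheme.{u}) (c : Cone D) (hc : IsLimit c)
  (i₀ : I) {X₀ Y₀ : Scheme.{u}} (f₀ : X₀ ⟶ Y₀) (g₀ : Y₀ ⟶ D.obj i₀)
  {X Y : Scheme.{u}} {f : X ⟶ Y} {g : Y ⟶ c.pt} {qY : Y ⟶ Y₀} {qX : X ⟶ X₀}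
  [IsCofiltered I] [∀ {i j} (f : i ⟶ j), IsAffineHom (D.map f)]

include hc in
theorem exists_formallyUnramified_baseChange' [CompactSpace X₀] [LocallyOfFinitePresentation f₀]
    (hY : IsPullback qY g g₀ (c.π.app i₀))
    (hX : IsPullback qX f f₀ qY) [FormallyUnramified f] :
    ∃ k : Over i₀, FormallyUnramified ((baseChangeMap D i₀ f₀ g₀).app k) := by
  classical
  have key : ∀ x : X₀, ∃ (V : Y₀.Opens) (W : X₀.Opens), x ∈ W ∧ W ≤ f₀ ⁻¹ᵁ V ∧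
      IsAffineOpen V ∧ IsAffineOpen W := fun x => by
    obtain ⟨_, ⟨(V : Y₀.Opens), hV, rfl⟩, hxV, -⟩ :=
      Y₀.isBasis_affineOpens.exists_subset_of_mem_open (Set.mem_univ (f₀ x)) isOpen_univ
    obtain ⟨_, ⟨(W : X₀.Opens), hW, rfl⟩, hxW, hWV⟩ :=
      X₀.isBasis_affineOpens.exists_subset_of_mem_open (u := f₀ ⁻¹ᵁ V) hxV (f₀ ⁻¹ᵁ V).isOpen
    exact ⟨V, W, hxW, hWV, hV, hW⟩
  choose V W hxW hWV hV hW using key
  obtain ⟨t, ht⟩ := isCompact_univ.elim_finite_subcover (fun x => (W x : Set X₀))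
    (fun x => (W x).isOpen) (fun x _ => Set.mem_iUnion.mpr ⟨x, hxW x⟩)
  have hpc : ∀ x : X₀, ∃ k : Over i₀, FormallyUnramified
      ((baseChangeMap D i₀ (f₀.resLE (V x) (W x) (hWV x)) ((V x).ι ≫ g₀)).app k) := fun x => by
    have : IsAffine (V x).toScheme := hV x
    have : IsAffine (W x).toScheme := hW x
    have : LocallyOfFiniteType (f₀.resLE (V x) (W x) (hWV x)) :=
      IsZariskiLocalAtSource.resLE (hWV x) inferInstance
    obtain ⟨h', h1, h2⟩ := isPullback_resLE hY hX (W x) (V x) (hWV x)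
    have : FormallyUnramified (f.resLE (qY ⁻¹ᵁ V x) (qX ⁻¹ᵁ W x) h') :=
      IsZariskiLocalAtSource.resLE h' inferInstance
    exact exists_formallyUnramified_baseChange D c hc i₀ _ _ h1 h2
  choose kx hkx using hpc
  obtain ⟨k, hk⟩ : ∃ k : Over i₀, ∀ x ∈ t, Nonempty (k ⟶ kx x) := by
    obtain ⟨k, hk⟩ := IsCofiltered.inf_objs_exists (t.image kx)
    exact ⟨k, fun x hx => hk (Finset.mem_image_of_mem _ hx)⟩
  refine ⟨k, ?_⟩
  let fk := (baseChangeMap D i₀ f₀ g₀).app k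
  let p : (baseChange D i₀ (f₀ ≫ g₀)).obj k ⟶ X₀ := pullback.fst _ _
  refine IsZariskiLocalAtSource.of_iSup_eq_top (fun x : t => p ⁻¹ᵁ W x.1) ?_ fun x => ?_
  · rw [eq_top_iff]
    intro y _
    obtain ⟨x, hx⟩ := Set.mem_iUnion.mp (ht (Set.mem_univ (p y)))
    obtain ⟨hxt, hx⟩ := Set.mem_iUnion.mp hx
    exact TopologicalSpace.Opens.mem_iSup.mpr ⟨⟨x, hxt⟩, hx⟩
  obtain ⟨φ⟩ := hk x.1 x.2
  obtain ⟨h', h1, h2⟩ := isPullback_resLE (IsPullback.of_hasPullback g₀ (D.map k.hom))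
    (isPullback_baseChangeMap D i₀ f₀ g₀ k) (W x.1) (V x.1) (hWV x.1)
  have : FormallyUnramified (fk.resLE _ _ h') :=
    (prop_iff_of_isPullback @FormallyUnramified h2
      (isPullback_baseChangeMap D i₀ _ _ k) h1.isoPullback h1.isoPullback_hom_fst).mpr
      (prop_of_stage_map D i₀ _ _ @FormallyUnramified φ (hkx x.1))
  rw [← fk.resLE_comp_ι h']
  exact MorphismProperty.comp_mem @FormallyUnramified _ _ this inferInstance

end Groth.Agent.AffLim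

end
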