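import Groth.Agent.AffLim.DescendQF
import Groth.Agent.QAffLib.Basic

/-!
# Descending quasi-affine morphisms to a stage
-/

universe u

open CategoryTheory Limits AlgebraicGeometry

noncomputable section

set_option backward.isDefEq.respectTransparency false
set_option backward.defeqAttrib.useBackward true
set_option linter.unusedSectionVars false

namespace Groth.Agent.AffLim

variable {I : Type u} [SmallCategory I] (D : I ⥤ Scheme.{u}) (c : Cone D) (hc : IsLimit c)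
  (i₀ : I) {X₀ Y₀ : Scheme.{u}} (f₀ : X₀ ⟶ Y₀) (g₀ : Y₀ ⟶ D.obj i₀)
  {X Y : Scheme.{u}} {f : X ⟶ Y} {g : Y ⟶ c.pt} {qY : Y ⟶ Y₀} {qX : X ⟶ X₀}
  [IsCofiltered I] [∀ {i j} (f : i ⟶ j), IsAffineHom (D.map f)]

include hc in
theorem exists_isQuasiAffine_baseChange [CompactSpace X₀] [QuasiSeparatedSpace X₀] [CompactSpace Y₀]
    [QuasiSeparatedSpace Y₀] (hY : IsPullback qY g g₀ (c.π.app i₀))
    (hX : IsPullback qX f f₀ qY) (hf : Mor2.IsQuasiAffine f) :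
    ∃ k : Over i₀, Mor2.IsQuasiAffine ((baseChangeMap D i₀ f₀ g₀).app k) := by
  classical
  have := isAffineHom_π_app D c hc i₀
  have : IsAffineHom qY := MorphismProperty.of_isPullback hY.flip inferInstance
  have hpc : ∀ V : Y₀.affineOpens, ∃ k : Over i₀,
      ((baseChange D i₀ ((f₀ ⁻¹ᵁ V.1).ι ≫ f₀ ≫ g₀)).obj k).IsQuasiAffine := fun V => by
    let a := (f₀ ⁻¹ᵁ V.1).ι ≫ f₀ ≫ g₀
    have : QuasiCompact f₀ := quasiCompact_of_compactSpace _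
    have : CompactSpace (f₀ ⁻¹ᵁ V.1 : Scheme.{u}) :=
      isCompact_iff_compactSpace.mp (QAffLib.qc_preimage f₀ V.2)
    have : QuasiSeparatedSpace (f₀ ⁻¹ᵁ V.1 : Scheme.{u}) :=
      quasiSeparatedSpace_of_quasiSeparated (f₀ ⁻¹ᵁ V.1).ι
    have e : qX ⁻¹ᵁ (f₀ ⁻¹ᵁ V.1) = f ⁻¹ᵁ (qY ⁻¹ᵁ V.1) := by
      rw [← Scheme.Hom.comp_preimage, ← Scheme.Hom.comp_preimage, hX.w]
    have : (qX ⁻¹ᵁ (f₀ ⁻¹ᵁ V.1) : Scheme.{u}).IsQuasiAffine := e ▸ hf.2 _ (V.2.preimage qY)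
    have h := (isPullback_morphismRestrict qX (f₀ ⁻¹ᵁ V.1)).paste_vert (hX.paste_vert hY)
    have : (baseChangeCone D c i₀ a).pt.IsQuasiAffine := QAffLib.of_iso h.isoPullback.inv
    exact Scheme.exists_isQuasiAffine_of_isLimit _ _ (nonempty_isLimit_baseChangeCone D c hc i₀ a).some
  choose kV hkV using hpc
  have key : ∀ y : Y₀, ∃ V : Y₀.affineOpens, y ∈ V.1 := fun y => by
    obtain ⟨_, ⟨(V : Y₀.Opens), hV, rfl⟩, hyV, -⟩ :=
      Y₀.isBasis_affineOpens.exists_subset_of_mem_open (Set.mem_univ y) isOpen_univ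
    exact ⟨⟨V, hV⟩, hyV⟩
  choose V hyV using key
  obtain ⟨t, ht⟩ := isCompact_univ.elim_finite_subcover (fun y => ((V y).1 : Set Y₀))
    (fun y => (V y).1.isOpen) (fun y _ => Set.mem_iUnion.mpr ⟨y, hyV y⟩)
  obtain ⟨k, hk⟩ := IsCofiltered.inf_objs_exists (t.image fun y => kV (V y))
  refine ⟨k, ?_⟩
  have := quasiCompact_baseChangeMap D i₀ f₀ g₀ k
  refine QAffLib.isQuasiAffine_of_cover _ fun z => ?_
  let p : (baseChange D i₀ g₀).obj k ⟶ Y₀ := pullback.fst _ _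
  have : IsAffineHom p := MorphismProperty.pullback_fst (P := @IsAffineHom) g₀ (D.map k.hom) inferInstance
  obtain ⟨y, hy⟩ := Set.mem_iUnion.mp (ht (Set.mem_univ (p z)))
  obtain ⟨hyt, hy⟩ := Set.mem_iUnion.mp hy
  refine ⟨p ⁻¹ᵁ (V y).1, (V y).2.preimage p, hy, ?_⟩
  obtain ⟨φ⟩ := hk (Finset.mem_image_of_mem _ hyt)
  have hl : ((baseChange D i₀ ((f₀ ⁻¹ᵁ (V y).1).ι ≫ f₀ ≫ g₀)).obj k).IsQuasiAffine :=
    have := hkV (V y)
    Scheme.IsQuasiAffine.of_isAffineHom ((baseChange D i₀ ((f₀ ⁻¹ᵁ (V y).1).ι ≫ f₀ ≫ g₀)).map φ)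
  have h1 := isPullback_baseChangeMap D i₀ f₀ g₀ k
  have h := (isPullback_morphismRestrict _ (f₀ ⁻¹ᵁ (V y).1)).paste_vert
    (h1.paste_vert (IsPullback.of_hasPullback g₀ (D.map k.hom)))
  have e : pullback.fst (f₀ ≫ g₀) (D.map k.hom) ⁻¹ᵁ (f₀ ⁻¹ᵁ (V y).1) =
      (baseChangeMap D i₀ f₀ g₀).app k ⁻¹ᵁ (p ⁻¹ᵁ (V y).1) := by
    rw [← Scheme.Hom.comp_preimage, ← Scheme.Hom.comp_preimage, h1.w]
  have : (pullback ((f₀ ⁻¹ᵁ (V y).1).ι ≫ f₀ ≫ g₀) (D.map k.hom)).IsQuasiAffine := hl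
  exact e ▸ QAffLib.of_iso h.isoPullback.hom

end Groth.Agent.AffLim

end
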