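import Mathlib
import Groth.Agent.AffLim.ComponentsBij

set_option autoImplicit false
set_option linter.style.haveILetI false

/-! # Dense projections for limits of embeddings into a noetherian stage -/

universe u

open CategoryTheory CategoryTheory.Limits AlgebraicGeometry TopologicalSpace

namespace Groth.Agent.AffLim

variable {I : Type u} [SmallCategory I] [IsCofiltered I] (D : I ⥤ Scheme.{u}) (c : Cone D)
  (hc : IsLimit c) [∀ {i j} (f : i ⟶ j), IsAffineHom (D.map f)]

include hc in
/-- For transition maps which are embeddings into a noetherian stage, the projections are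
eventually dominant. -/
theorem exists_denseRange_π_of_isEmbedding (i₀ : I) [NoetherianSpace (D.obj i₀)]
    (he : ∀ (i j : I) (φ : i ⟶ j), Topology.IsEmbedding ⇑(D.map φ)) :
    ∃ (i₁ : I) (_ : i₁ ⟶ i₀), ∀ j, (j ⟶ i₁) → DenseRange (c.π.app j) := by
  let U : (D.obj i₀).Opens := ⟨(closure (Set.range (c.π.app i₀)))ᶜ, isClosed_closure.isOpen_compl⟩
  haveI : CompactSpace U.toScheme := isCompact_iff_compactSpace.mp (NoetherianSpace.isCompact _)
  have h0 : IsEmpty ↥(pullback U.ι (c.π.app i₀)) := ⟨fun z =>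
    (pullback.fst U.ι (c.π.app i₀) z).2 (subset_closure ⟨pullback.snd U.ι (c.π.app i₀) z, by
      rw [← Scheme.Hom.comp_apply, ← pullback.condition, Scheme.Hom.comp_apply]; rfl⟩)⟩
  obtain ⟨i₁, φ, h⟩ := exists_isEmpty_pullback D c hc i₀ U.ι h0
  refine ⟨i₁, φ, fun j ψ y => ?_⟩
  rw [(he j i₀ (ψ ≫ φ)).closure_eq_preimage_closure_image, Set.mem_preimage, ← Set.range_comp,
    show (⇑(D.map (ψ ≫ φ)) ∘ ⇑(c.π.app j)) = ⇑(c.π.app i₀) from
      funext fun x => π_comp_apply D c (ψ ≫ φ) x]
  by_contra hy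
  rw [D.map_comp, Scheme.Hom.comp_apply] at hy
  obtain ⟨w, -, -⟩ := Scheme.Pullback.exists_preimage_pullback
    (⟨D.map φ (D.map ψ y), hy⟩ : U.toScheme) (D.map ψ y) (f := U.ι) (g := D.map φ) rfl
  exact h.false w

end Groth.Agent.AffLim
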