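import Mathlib

/-!
# Existence of cofiltered limits of schemes with affine transition maps

`Groth.Agent.AffLim.hasLimit`: a cofiltered diagram of schemes with affine transition maps has a
limit, and `Groth.Agent.AffLim.exists_isLimit` says that its projections are affine.

The limit is glued from the limits of the diagrams of affine schemes over the affine opens of one
stage.
-/

universe u

open CategoryTheory Limits AlgebraicGeometry

noncomputable section

set_option backward.isDefEq.respectTransparency false
set_option backward.defeqAttrib.useBackward true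

namespace Groth.Agent.AffLim

lemma hasLimit_of_forall_isAffine {J : Type u} [Category.{u} J] (E : J ⥤ Scheme.{u})
    (h : ∀ j, IsAffine (E.obj j)) : HasLimit E := by
  let E' : J ⥤ AffineScheme.{u} :=
    { obj := fun j => AffineScheme.of (E.obj j)
      map := fun f => AffineScheme.ofHom (E.map f)
      map_id := fun j => AffineScheme.forgetToScheme.map_injective (E.map_id j)
      map_comp := fun f g => AffineScheme.forgetToScheme.map_injective (E.map_comp f g) }
  have e : E' ⋙ AffineScheme.forgetToScheme ≅ E :=
    NatIso.ofComponents (fun j => Iso.refl _) (fun f => by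
      simp only [Iso.refl_hom, Category.comp_id, Category.id_comp]; rfl)
  exact hasLimit_of_iso e

variable {I : Type u} [SmallCategory I] (D : I ⥤ Scheme.{u}) (i : I)
  [∀ {i j} (f : i ⟶ j), IsAffineHom (D.map f)]

/-- The limit of the restriction of `D` over an affine open of stage `i`. -/
lemma hasLimit_opensDiagram (U : (D.obj i).AffineZariskiSite) :
    HasLimit (opensDiagram D i U.toOpens) :=
  hasLimit_of_forall_isAffine _ fun _ => U.2.preimage _

attribute [local instance] hasLimit_opensDiagram

/-- The projection from the limit over `U` to the stages. -/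
def proj (U : (D.obj i).Opens) [HasLimit (opensDiagram D i U)] (j : Over i) :
    limit (opensDiagram D i U) ⟶ D.obj j.left :=
  limit.π (opensDiagram D i U) j ≫ (D.map j.hom ⁻¹ᵁ U).ι

@[reassoc]
lemma proj_w (U : (D.obj i).Opens) [HasLimit (opensDiagram D i U)] {j k : Over i} (f : j ⟶ k) :
    proj D i U j ≫ D.map f.left = proj D i U k := by
  rw [proj, proj, ← limit.w (opensDiagram D i U) f]
  simp [opensDiagram]

lemma proj_range (U : (D.obj i).Opens) [HasLimit (opensDiagram D i U)] :
    Set.range (proj D i U (Over.mk (𝟙 i))) ⊆ (U : Set (D.obj i)) := by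
  rintro _ ⟨x, rfl⟩
  have := ((limit.π (opensDiagram D i U) (Over.mk (𝟙 i))) x).2
  simpa [proj] using this

lemma hom_ext_of_proj {T : Scheme.{u}} {U : (D.obj i).Opens} [HasLimit (opensDiagram D i U)]
    {a b : T ⟶ limit (opensDiagram D i U)}
    (h : ∀ j, a ≫ proj D i U j = b ≫ proj D i U j) : a = b := by
  refine limit.hom_ext fun j => ?_
  have : Mono (D.map j.hom ⁻¹ᵁ U).ι := inferInstance
  rw [← cancel_mono (D.map j.hom ⁻¹ᵁ U).ι, Category.assoc, Category.assoc]
  exact h j

lemma exists_lift (U : (D.obj i).Opens) [HasLimit (opensDiagram D i U)] (s : Cone (Over.forget i ⋙ D))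
    (h : Set.range (s.π.app (Over.mk (𝟙 i))) ⊆ (U : Set (D.obj i))) :
    ∃ l : s.pt ⟶ limit (opensDiagram D i U), ∀ j, l ≫ proj D i U j = s.π.app j := by
  have hr : ∀ j : Over i,
      Set.range (s.π.app j) ⊆ Set.range (D.map j.hom ⁻¹ᵁ U).ι := by
    intro j
    rw [Scheme.Opens.range_ι]
    rintro _ ⟨x, rfl⟩
    change (s.π.app j ≫ D.map j.hom) x ∈ U
    have : s.π.app j ≫ D.map j.hom = s.π.app (Over.mk (𝟙 i)) := by
      simpa using s.w (Over.homMk j.hom : j ⟶ Over.mk (𝟙 i))
    rw [this]
    exact h ⟨x, rfl⟩
  let t : Cone (opensDiagram D i U) :=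
    { pt := s.pt
      π :=
        { app := fun j => IsOpenImmersion.lift (D.map j.hom ⁻¹ᵁ U).ι (s.π.app j) (hr j)
          naturality := fun j k f => by
            rw [← cancel_mono (D.map k.hom ⁻¹ᵁ U).ι]
            simp only [Functor.const_obj_map, Category.id_comp, IsOpenImmersion.lift_fac,
              Category.assoc]
            dsimp [opensDiagram]
            simp only [Scheme.Hom.resLE_comp_ι, IsOpenImmersion.lift_fac_assoc]
            exact (s.w f).symm } }
  refine ⟨limit.lift _ t, fun j => ?_⟩
  rw [proj, limit.lift_π_assoc]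
  exact IsOpenImmersion.lift_fac _ _ _

/-- The cone over `D` above stage `i` with apex the limit over `U`. -/
@[simps]
def projCone (U : (D.obj i).Opens) [HasLimit (opensDiagram D i U)] : Cone (Over.forget i ⋙ D) where
  pt := limit (opensDiagram D i U)
  π :=
    { app := proj D i U
      naturality := fun j k f => by simpa using (proj_w D i U f).symm }

lemma exists_transition {U V : (D.obj i).AffineZariskiSite} (f : U ⟶ V) :
    ∃ l : limit (opensDiagram D i U.toOpens) ⟶ limit (opensDiagram D i V.toOpens),
      ∀ j, l ≫ proj D i V.toOpens j = proj D i U.toOpens j :=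
  exists_lift D i V.toOpens (projCone D i U.toOpens)
    ((proj_range D i U.toOpens).trans (SetLike.coe_subset_coe.mpr
      (Scheme.AffineZariskiSite.toOpens_mono f.le)))

/-- The local limits, as a functor of the affine open. -/
def localLimit : (D.obj i).AffineZariskiSite ⥤ Scheme.{u} where
  obj U := limit (opensDiagram D i U.toOpens)
  map f := (exists_transition D i f).choose
  map_id U := hom_ext_of_proj D i fun j => by
    rw [(exists_transition D i (𝟙 U)).choose_spec, Category.id_comp]
  map_comp f g := hom_ext_of_proj D i fun j => by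
    rw [(exists_transition D i (f ≫ g)).choose_spec, Category.assoc,
      (exists_transition D i g).choose_spec, (exists_transition D i f).choose_spec]

@[reassoc]
lemma localLimit_map_proj {U V : (D.obj i).AffineZariskiSite} (f : U ⟶ V) (j : Over i) :
    (localLimit D i).map f ≫ proj D i V.toOpens j = proj D i U.toOpens j :=
  (exists_transition D i f).choose_spec j

/-- The map to the affine open. -/
def localToBase (U : (D.obj i).AffineZariskiSite) :
    limit (opensDiagram D i U.toOpens) ⟶ U.toOpens :=
  IsOpenImmersion.lift U.toOpens.ι (proj D i U.toOpens (Over.mk (𝟙 i)))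
    ((proj_range D i U.toOpens).trans (Scheme.Opens.range_ι U.toOpens).ge)

@[reassoc (attr := simp)]
lemma localToBase_ι (U : (D.obj i).AffineZariskiSite) :
    localToBase D i U ≫ U.toOpens.ι = proj D i U.toOpens (Over.mk (𝟙 i)) :=
  IsOpenImmersion.lift_fac _ _ _

/-- The relative gluing datum. -/
def gluingData : (Scheme.AffineZariskiSite.directedCover (D.obj i)).RelativeGluingData where
  functor := localLimit D i
  natTrans :=
    { app := fun U => localToBase D i U
      naturality := fun U V f => by
        rw [← cancel_mono ((Scheme.AffineZariskiSite.directedCover (D.obj i)).f V)]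
        rw [Category.assoc, Category.assoc]
        change (localLimit D i).map f ≫ localToBase D i V ≫ V.toOpens.ι =
          localToBase D i U ≫
            (D.obj i).homOfLE (Scheme.AffineZariskiSite.toOpens_mono f.le) ≫ V.toOpens.ι
        rw [Scheme.homOfLE_ι, localToBase_ι, localToBase_ι]
        exact localLimit_map_proj D i f _ }
  equifibered := by
    intro U V f
    change IsPullback ((localLimit D i).map f) (localToBase D i U) (localToBase D i V)
      ((D.obj i).homOfLE (Scheme.AffineZariskiSite.toOpens_mono f.le))
    have w : (localLimit D i).map f ≫ localToBase D i V =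
        localToBase D i U ≫
          (D.obj i).homOfLE (Scheme.AffineZariskiSite.toOpens_mono f.le) := by
      rw [← cancel_mono V.toOpens.ι, Category.assoc, Category.assoc, Scheme.homOfLE_ι, localToBase_ι,
        localToBase_ι]
      exact localLimit_map_proj D i f _
    have key : ∀ s : PullbackCone (localToBase D i V)
        ((D.obj i).homOfLE (Scheme.AffineZariskiSite.toOpens_mono f.le)),
        ∃ l : s.pt ⟶ limit (opensDiagram D i U.toOpens),
          ∀ j, l ≫ proj D i U.toOpens j = s.fst ≫ proj D i V.toOpens j := by
      intro s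
      refine exists_lift D i U.toOpens ((projCone D i V.toOpens).extend s.fst) ?_
      have e : s.fst ≫ proj D i V.toOpens (Over.mk (𝟙 i)) = s.snd ≫ U.toOpens.ι := by
        rw [← localToBase_ι, reassoc_of% s.condition]
        erw [Scheme.homOfLE_ι]
      change Set.range (s.fst ≫ proj D i V.toOpens (Over.mk (𝟙 i))) ⊆ _
      rw [e]
      rintro _ ⟨x, rfl⟩
      exact (s.snd x).2
    choose l hl using key
    refine ⟨⟨w⟩, ⟨PullbackCone.IsLimit.mk w l (fun s => ?_) (fun s => ?_) (fun s m h1 _ => ?_)⟩⟩
    · exact hom_ext_of_proj D i fun j => by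
        rw [Category.assoc, localLimit_map_proj]
        exact hl s j
    · rw [← cancel_mono U.toOpens.ι, Category.assoc, localToBase_ι, hl, ← localToBase_ι,
        reassoc_of% s.condition]
      erw [Scheme.homOfLE_ι]
    · exact hom_ext_of_proj D i fun j => by
        rw [hl, ← h1, Category.assoc]
        exact congrArg (m ≫ ·) (localLimit_map_proj D i f j).symm

instance : ((gluingData D i).functor ⋙ Scheme.forget).IsLocallyDirected :=
  Scheme.Cover.RelativeGluingData.instIsLocallyDirectedI₀CompFunctorForgetOfIsThin ..

/-- The glued cone. -/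
def gluedCone : Cone (Over.forget i ⋙ D) where
  pt := (gluingData D i).glued
  π :=
    { app := fun j => colimit.desc _
        { pt := D.obj j.left
          ι :=
            { app := fun U => proj D i U.toOpens j
              naturality := fun U V f => by
                simpa [gluingData] using localLimit_map_proj D i f j } }
      naturality := fun j k f => by
        refine colimit.hom_ext fun U => ?_
        simpa using (proj_w D i U.toOpens f).symm }

@[reassoc]
lemma ι_gluedCone (U : (D.obj i).AffineZariskiSite) (j : Over i) :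
    colimit.ι (gluingData D i).functor U ≫ (gluedCone D i).π.app j = proj D i U.toOpens j :=
  colimit.ι_desc _ U

lemma gluedCone_π_top :
    (gluedCone D i).π.app (Over.mk (𝟙 i)) = (gluingData D i).toBase := by
  refine colimit.hom_ext fun U => ?_
  rw [ι_gluedCone, (gluingData D i).ι_toBase]
  exact (localToBase_ι D i U).symm

lemma nonempty_isLimit_gluedCone : Nonempty (IsLimit (gluedCone D i)) := by
  let G := gluingData D i
  have hrange : ∀ U : (D.obj i).AffineZariskiSite,
      ((gluedCone D i).π.app (Over.mk (𝟙 i))) ⁻¹' (U.toOpens : Set (D.obj i)) =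
        Set.range (colimit.ι G.functor U) := by
    intro U
    rw [gluedCone_π_top, ← G.preimage_toBase_eq_range_ι U]
    congr 1
    exact (Scheme.Opens.range_ι U.toOpens).symm
  -- uniqueness
  have uniq : ∀ {T : Scheme.{u}} (a b : T ⟶ (gluedCone D i).pt),
      (∀ j, a ≫ (gluedCone D i).π.app j = b ≫ (gluedCone D i).π.app j) → a = b := by
    intro T a b h
    let W : (D.obj i).AffineZariskiSite → T.Opens := fun U =>
      (a ≫ (gluedCone D i).π.app (Over.mk (𝟙 i))) ⁻¹ᵁ U.toOpens
    have hW : TopologicalSpace.IsOpenCover W := by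
      rw [TopologicalSpace.IsOpenCover, eq_top_iff]
      intro x _
      obtain ⟨U, hU⟩ := TopologicalSpace.Opens.mem_iSup.mp ((iSup_affineOpens_eq_top _).ge
        (Set.mem_univ ((a ≫ (gluedCone D i).π.app (Over.mk (𝟙 i))) x)))
      exact TopologicalSpace.Opens.mem_iSup.mpr ⟨U, hU⟩
    refine (T.openCoverOfIsOpenCover _ hW).hom_ext _ _ fun U => ?_
    have ha : Set.range ((W U).ι ≫ a) ⊆ Set.range (colimit.ι G.functor U) := by
      rw [← hrange]
      rintro _ ⟨x, rfl⟩
      exact x.2
    have hb : Set.range ((W U).ι ≫ b) ⊆ Set.range (colimit.ι G.functor U) := by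
      rw [← hrange]
      rintro _ ⟨x, rfl⟩
      have hx : (a ≫ (gluedCone D i).π.app (Over.mk (𝟙 i))) x.1 ∈ U.toOpens := x.2
      rw [h] at hx
      exact hx
    change (W U).ι ≫ a = (W U).ι ≫ b
    rw [← IsOpenImmersion.lift_fac _ _ ha, ← IsOpenImmersion.lift_fac _ _ hb]
    congr 1
    refine hom_ext_of_proj D i fun j => ?_
    rw [← ι_gluedCone, IsOpenImmersion.lift_fac_assoc, IsOpenImmersion.lift_fac_assoc,
      Category.assoc, Category.assoc, h j]
  -- existence
  have ex : ∀ s : Cone (Over.forget i ⋙ D),
      ∃ l : s.pt ⟶ (gluedCone D i).pt, ∀ j, l ≫ (gluedCone D i).π.app j = s.π.app j := by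
    intro s
    let W : (D.obj i).AffineZariskiSite → s.pt.Opens := fun U =>
      (s.π.app (Over.mk (𝟙 i))) ⁻¹ᵁ U.toOpens
    have hW : TopologicalSpace.IsOpenCover W := by
      rw [TopologicalSpace.IsOpenCover, eq_top_iff]
      intro x _
      obtain ⟨U, hU⟩ := TopologicalSpace.Opens.mem_iSup.mp ((iSup_affineOpens_eq_top _).ge
        (Set.mem_univ (s.π.app (Over.mk (𝟙 i)) x)))
      exact TopologicalSpace.Opens.mem_iSup.mpr ⟨U, hU⟩
    have hl : ∀ U, ∃ l : (W U).toScheme ⟶ limit (opensDiagram D i U.toOpens),
        ∀ j, l ≫ proj D i U.toOpens j = (W U).ι ≫ s.π.app j := fun U =>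
      exists_lift D i U.toOpens (s.extend (W U).ι) (by rintro _ ⟨x, rfl⟩; exact x.2)
    choose l hl using hl
    let 𝒰 := s.pt.openCoverOfIsOpenCover _ hW
    have hc : ∀ U V, pullback.fst (𝒰.f U) (𝒰.f V) ≫ l U ≫ colimit.ι G.functor U =
        pullback.snd (𝒰.f U) (𝒰.f V) ≫ l V ≫ colimit.ι G.functor V := by
      intro U V
      refine uniq _ _ fun j => ?_
      simp only [Category.assoc]
      erw [ι_gluedCone, ι_gluedCone, hl, hl]
      exact pullback.condition_assoc _
    refine ⟨𝒰.glueMorphisms (fun U => l U ≫ colimit.ι G.functor U) hc, fun j =>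
      𝒰.hom_ext _ _ fun U => ?_⟩
    rw [Scheme.Cover.ι_glueMorphisms_assoc]
    simp only [Category.assoc]
    erw [ι_gluedCone, hl]
    rfl
  choose l hl using ex
  exact ⟨{ lift := l, fac := hl, uniq := fun s m hm => uniq _ _ fun j => by rw [hm, hl] }⟩

/-- A cofiltered diagram of schemes with affine transition maps has a limit. -/
theorem hasLimit [IsCofiltered I] : HasLimit D := by
  obtain ⟨i⟩ := IsCofiltered.nonempty (C := I)
  have : HasLimit (Over.forget i ⋙ D) := ⟨⟨⟨_, (nonempty_isLimit_gluedCone D i).some⟩⟩⟩
  exact Functor.Initial.hasLimit_of_comp (Over.forget i)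

/-- The limit of a cofiltered diagram with affine transition maps exists and has affine
projections. -/
theorem exists_isLimit [IsCofiltered I] :
    ∃ (c : Cone D) (_ : IsLimit c), ∀ i, IsAffineHom (c.π.app i) := by
  have := hasLimit D
  exact ⟨_, limit.isLimit D, isAffineHom_π_app D _ (limit.isLimit D)⟩

end Groth.Agent.AffLim

end
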