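import Groth.Agent.AffLim.Points

/-!
# Sections and stalks of cofiltered limits of schemes with affine transition maps

The local rings of the limit are the colimits of the local rings of the stages; consequences for
flatness and reducedness.
-/

universe u

open CategoryTheory Limits AlgebraicGeometry TopologicalSpace

noncomputable section

set_option backward.isDefEq.respectTransparency false
set_option backward.defeqAttrib.useBackward true

namespace Groth.Agent.AffLim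

variable {I : Type u} [SmallCategory I] (D : I ⥤ Scheme.{u}) (c : Cone D) (hc : IsLimit c)
  [IsCofiltered I] [∀ {i j} (f : i ⟶ j), IsAffineHom (D.map f)]

lemma appLE_congr_hom {X Y : Scheme.{u}} {f g : X ⟶ Y} (h : f = g) (U : Y.Opens) (V : X.Opens)
    (e : V ≤ f ⁻¹ᵁ U) : f.appLE U V e = g.appLE U V (h ▸ e) := by
  subst h; rfl

omit [IsCofiltered I] [∀ {i j} (f : i ⟶ j), IsAffineHom (D.map f)] in
lemma app_π_appLE {i j : I} (φ : j ⟶ i) {U : (D.obj i).Opens} {W : (D.obj j).Opens}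
    (e : W ≤ D.map φ ⁻¹ᵁ U) (h : c.π.app j ⁻¹ᵁ W ≤ c.π.app i ⁻¹ᵁ U) (t : Γ(D.obj i, U)) :
    (c.π.app j).app W ((D.map φ).appLE U W e t) =
      c.pt.presheaf.map (homOfLE h).op ((c.π.app i).app U t) := by
  have key : (D.map φ).appLE U W e ≫ (c.π.app j).app W =
      (c.π.app i).app U ≫ c.pt.presheaf.map (homOfLE h).op := by
    rw [Scheme.Hom.app_eq_appLE, Scheme.Hom.appLE_comp_appLE, Scheme.Hom.app_eq_appLE]
    erw [Scheme.Hom.appLE_map]
    exact appLE_congr_hom (c.w φ) _ _ _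
  exact congr($key t)

omit [IsCofiltered I] [∀ {i j} (f : i ⟶ j), IsAffineHom (D.map f)] in
lemma map_app_appLE {i j k : I} (φ : j ⟶ i) (χ : k ⟶ j) {U : (D.obj i).Opens}
    {W : (D.obj j).Opens} (e : W ≤ D.map φ ⁻¹ᵁ U)
    (e' : D.map χ ⁻¹ᵁ W ≤ D.map (χ ≫ φ) ⁻¹ᵁ U) (t : Γ(D.obj i, U)) :
    (D.map χ).app W ((D.map φ).appLE U W e t) =
      (D.map (χ ≫ φ)).appLE U (D.map χ ⁻¹ᵁ W) e' t := by
  have key : (D.map φ).appLE U W e ≫ (D.map χ).app W = (D.map (χ ≫ φ)).appLE U _ e' := by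
    rw [Scheme.Hom.app_eq_appLE, Scheme.Hom.appLE_comp_appLE]
    exact appLE_congr_hom (D.map_comp χ φ).symm _ _ _
  exact congr($key t)

include hc in
/-- A section over the preimage of an affine open comes from some stage. -/
lemma exists_appLE_eq {i : I} {V : (D.obj i).Opens} (hV : IsAffineOpen V)
    (s : Γ(c.pt, c.π.app i ⁻¹ᵁ V)) :
    ∃ (j : I) (φ : j ⟶ i) (e : c.π.app i ⁻¹ᵁ V ≤ c.π.app j ⁻¹ᵁ (D.map φ ⁻¹ᵁ V))
      (t : Γ(D.obj j, D.map φ ⁻¹ᵁ V)),
      (c.π.app j).appLE (D.map φ ⁻¹ᵁ V) (c.π.app i ⁻¹ᵁ V) e t = s := by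
  have (j : Over i) : IsAffine ((opensDiagram D i V).obj j) := hV.preimage _
  obtain ⟨j, t, ht⟩ := exists_appTop_π_eq_of_isAffine_of_isLimit (opensDiagram D i V)
    (opensCone D c i V) (isLimitOpensCone D c hc i V) ((c.π.app i ⁻¹ᵁ V).topIso.inv s)
  have e : c.π.app i ⁻¹ᵁ V ≤ c.π.app j.left ⁻¹ᵁ (D.map j.hom ⁻¹ᵁ V) :=
    (congr($(c.w j.hom) ⁻¹ᵁ V)).ge
  refine ⟨j.left, j.hom, e, (D.map j.hom ⁻¹ᵁ V).topIso.hom t, ?_⟩
  have key : (D.map j.hom ⁻¹ᵁ V).topIso.hom ≫
      (c.π.app j.left).appLE (D.map j.hom ⁻¹ᵁ V) (c.π.app i ⁻¹ᵁ V) e =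
      ((opensCone D c i V).π.app j).appTop ≫ (c.π.app i ⁻¹ᵁ V).topIso.hom := by
    simp [Scheme.Hom.app_eq_appLE, Scheme.Hom.resLE_appLE]
  refine (congr($key t)).trans ?_
  change (c.π.app i ⁻¹ᵁ V).topIso.hom (((opensCone D c i V).π.app j).appTop t) = s
  rw [ht]
  exact Iso.inv_hom_id_apply _ s

include hc in
/-- Every element of a stalk of the limit comes from some stage, as the germ of a section. -/
lemma exists_germ_π_eq (x : c.pt) (a : c.pt.presheaf.stalk x) :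
    ∃ (i : I) (U : (D.obj i).Opens) (hx : c.π.app i x ∈ U) (t : Γ(D.obj i, U)),
      c.pt.presheaf.germ (c.π.app i ⁻¹ᵁ U) x hx ((c.π.app i).app U t) = a := by
  obtain ⟨_, hxW, ⟨i, V, hV, rfl⟩, s, rfl⟩ :=
    TopCat.Presheaf.exists_mem_germ_eq_of_isBasis (isBasis_preimage_isAffineOpen D c hc)
      c.pt.presheaf x a
  obtain ⟨j, φ, e, t, rfl⟩ := exists_appLE_eq D c hc hV s
  refine ⟨j, D.map φ ⁻¹ᵁ V, e hxW, t, ?_⟩
  rw [Scheme.Hom.appLE, ConcreteCategory.comp_apply]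
  erw [c.pt.presheaf.germ_res_apply]

include hc in
/-- The stalk maps from the stages are jointly surjective. -/
lemma exists_stalkMap_eq (x : c.pt) (a : c.pt.presheaf.stalk x) :
    ∃ (i : I) (b : (D.obj i).presheaf.stalk (c.π.app i x)), (c.π.app i).stalkMap x b = a := by
  obtain ⟨i, U, hx, t, rfl⟩ := exists_germ_π_eq D c hc x a
  exact ⟨i, (D.obj i).presheaf.germ U _ hx t, Scheme.Hom.germ_stalkMap_apply _ _ _ hx t⟩

include hc in
/-- A germ of stage `i` which vanishes in the limit vanishes at some stage. -/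
lemma exists_appLE_eq_zero {i : I} {U : (D.obj i).Opens} (x : c.pt) (hx : c.π.app i x ∈ U)
    (t : Γ(D.obj i, U))
    (h : c.pt.presheaf.germ (c.π.app i ⁻¹ᵁ U) x hx ((c.π.app i).app U t) = 0) :
    ∃ (j : I) (φ : j ⟶ i) (W : (D.obj j).Opens) (e : W ≤ D.map φ ⁻¹ᵁ U),
      c.π.app j x ∈ W ∧ (D.map φ).appLE U W e t = 0 := by
  rw [← map_zero (c.pt.presheaf.germ (c.π.app i ⁻¹ᵁ U) x hx).hom] at h
  obtain ⟨_, hxW, ⟨k, V, hV, rfl⟩, i₁, i₂, h⟩ :=
    TopCat.Presheaf.germ_eq_of_isBasis (isBasis_preimage_isAffineOpen D c hc) c.pt.presheaf x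
      hx hx h
  rw [map_zero] at h
  obtain ⟨l, p, q, -⟩ := IsCofilteredOrEmpty.cone_objs i k
  have hle : c.π.app l ⁻¹ᵁ (D.map q ⁻¹ᵁ V) ≤ c.π.app l ⁻¹ᵁ (D.map p ⁻¹ᵁ U) := by
    rw [← Scheme.Hom.comp_preimage, ← Scheme.Hom.comp_preimage, c.w, c.w]
    exact i₁
  obtain ⟨m, ψ, hm⟩ := exists_map_preimage_le_map_preimage D c hc
    (QuasiCompact.isCompact_preimage (f := D.map q) _ V.2 hV.isCompact) hle
  let W := D.map ψ ⁻¹ᵁ D.map q ⁻¹ᵁ V
  have e : W ≤ D.map (ψ ≫ p) ⁻¹ᵁ U := by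
    rw [D.map_comp, Scheme.Hom.comp_preimage]; exact hm
  have hW : c.π.app m ⁻¹ᵁ W = c.π.app k ⁻¹ᵁ V := by
    simp only [W, ← Scheme.Hom.comp_preimage, ← D.map_comp, c.w]
  have hle' : c.π.app m ⁻¹ᵁ W ≤ c.π.app i ⁻¹ᵁ U := hW.le.trans i₁
  have hz : (c.π.app m).app W ((D.map (ψ ≫ p)).appLE U W e t) = 0 := by
    rw [app_π_appLE D c (ψ ≫ p) e hle' t]
    have := congr(c.pt.presheaf.map (homOfLE hW.le).op $h)
    rw [map_zero] at this
    refine Eq.trans ?_ this
    have key : c.pt.presheaf.map (homOfLE hle').op =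
        c.pt.presheaf.map (homOfLE i₁).op ≫ c.pt.presheaf.map (homOfLE hW.le).op := by
      rw [← Functor.map_comp]; rfl
    exact congr($key ((c.π.app i).app U t))
  obtain ⟨n, χ, hn⟩ := exists_app_map_eq_zero_of_isLimit D c hc
    (QuasiCompact.isCompact_preimage (f := D.map ψ) _ (D.map q ⁻¹ᵁ V).2
      (QuasiCompact.isCompact_preimage (f := D.map q) _ V.2 hV.isCompact)) _ hz
  have e' : D.map χ ⁻¹ᵁ W ≤ D.map (χ ≫ ψ ≫ p) ⁻¹ᵁ U := by
    rw [D.map_comp, Scheme.Hom.comp_preimage]; exact Scheme.Hom.preimage_mono _ e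
  refine ⟨n, χ ≫ ψ ≫ p, D.map χ ⁻¹ᵁ W, e', ?_, ?_⟩
  · change x ∈ c.π.app n ⁻¹ᵁ (D.map χ ⁻¹ᵁ W)
    rw [← Scheme.Hom.comp_preimage, c.w, hW]
    exact hxW
  · exact (map_app_appLE D (ψ ≫ p) χ e e' t).symm.trans hn

include hc in
/-- Elements of residue fields of the limit come from the stages. -/
lemma exists_residueFieldMap_eq (x : c.pt) (a : c.pt.residueField x) :
    ∃ (i : I) (b : (D.obj i).residueField (c.π.app i x)),
      (c.π.app i).residueFieldMap x b = a := by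
  obtain ⟨a, rfl⟩ := c.pt.residue_surjective x a
  obtain ⟨i, b, rfl⟩ := exists_stalkMap_eq D c hc x a
  exact ⟨i, (D.obj i).residue _ b, congr($(Scheme.residue_residueFieldMap (c.π.app i) x) b)⟩

include hc in
/-- If stages which are reduced exist below every stage, then the limit is reduced. -/
lemma isReduced_of_forall_exists (H : ∀ i, ∃ (j : I) (_ : j ⟶ i), IsReduced (D.obj j)) :
    IsReduced c.pt := by
  have : ∀ x : c.pt, _root_.IsReduced (c.pt.presheaf.stalk x) := by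
    refine fun x => ⟨fun a ⟨n, hn⟩ => ?_⟩
    obtain ⟨i, U, hx, t, rfl⟩ := exists_germ_π_eq D c hc x a
    erw [← map_pow, ← map_pow] at hn
    obtain ⟨j, φ, W, e, hxW, hW⟩ := exists_appLE_eq_zero D c hc x hx (t ^ n) hn
    obtain ⟨k, ψ, hk⟩ := H j
    have e' : D.map ψ ⁻¹ᵁ W ≤ D.map (ψ ≫ φ) ⁻¹ᵁ U := by
      rw [D.map_comp, Scheme.Hom.comp_preimage]; exact Scheme.Hom.preimage_mono _ e
    have hz : (D.map (ψ ≫ φ)).appLE U _ e' t = 0 := by
      refine eq_zero_of_pow_eq_zero (n := n) ?_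
      rw [← map_pow, ← map_app_appLE D φ ψ e e' (t ^ n), hW, map_zero]
    have hxk : x ∈ c.π.app k ⁻¹ᵁ (D.map ψ ⁻¹ᵁ W) := by
      rw [← Scheme.Hom.comp_preimage, c.w]; exact hxW
    have hle : c.π.app k ⁻¹ᵁ (D.map ψ ⁻¹ᵁ W) ≤ c.π.app i ⁻¹ᵁ U := by
      rw [← c.w (ψ ≫ φ), Scheme.Hom.comp_preimage]
      exact Scheme.Hom.preimage_mono _ e'
    have := congr(c.pt.presheaf.germ _ x hxk ((c.π.app k).app _ $hz))
    rw [app_π_appLE D c (ψ ≫ φ) e' hle t, map_zero, map_zero] at this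
    refine Eq.trans ?_ this
    exact (c.pt.presheaf.germ_res_apply (homOfLE hle) x hxk _).symm
  exact isReduced_of_isReduced_stalk c.pt

/-- Flatness for limits of affine schemes. -/
lemma flat_of_isAffine {J : Type u} [SmallCategory J] [IsCofiltered J] (E : J ⥤ Scheme.{u})
    [∀ j, IsAffine (E.obj j)] (e : Cone E) (he : IsLimit e) (i : J)
    (hf : ∀ (j : J) (φ : j ⟶ i), Flat (E.map φ)) : Flat (e.π.app i) := by
  have : IsAffine e.pt := Scheme.isAffine_of_isLimit _ he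
  have : IsAffine (((Functor.const J).obj e.pt).obj i) := ‹IsAffine e.pt›
  rw [HasRingHomProperty.iff_of_isAffine (P := @Flat)]
  algebraize [(e.π.app i).appTop.hom]
  refine Module.Flat.iff_forall_isTrivialRelation.mpr fun {l f x} hrel => ?_
  -- lift all the `x k` to a common stage over `i`
  have hlift : ∀ n (x : Fin n → Γ(e.pt, ⊤)), ∃ (j : J) (φ : j ⟶ i) (y : Fin n → Γ(E.obj j, ⊤)),
      ∀ k, (e.π.app j).appTop (y k) = x k := by
    intro n
    induction n with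
    | zero => exact fun x => ⟨i, 𝟙 i, fun k => k.elim0, fun k => k.elim0⟩
    | succ n ih =>
      intro x
      obtain ⟨j, φ, y, hy⟩ := ih (fun k => x k.castSucc)
      obtain ⟨k, z, hz⟩ := exists_appTop_π_eq_of_isAffine_of_isLimit E e he (x (Fin.last n))
      obtain ⟨m, a, b, -⟩ := IsCofilteredOrEmpty.cone_objs j k
      refine ⟨m, a ≫ φ, Fin.snoc (fun t => (E.map a).appTop (y t)) ((E.map b).appTop z),
        fun t => ?_⟩
      induction t using Fin.lastCases with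
      | last =>
        rw [Fin.snoc_last, ← ConcreteCategory.comp_apply, ← Scheme.Hom.comp_appTop, e.w]
        exact hz
      | cast t =>
        rw [Fin.snoc_castSucc, ← ConcreteCategory.comp_apply, ← Scheme.Hom.comp_appTop, e.w]
        exact hy t
  obtain ⟨j, φ, y, hy⟩ := hlift l x
  let s : Γ(E.obj j, ⊤) := ∑ k, (E.map φ).appTop (f k) * y k
  have hmap : ∀ r : Γ(E.obj i, ⊤),
      (e.π.app j).appTop ((E.map φ).appTop r) = (e.π.app i).appTop r := fun r => by
    rw [← ConcreteCategory.comp_apply, ← Scheme.Hom.comp_appTop, e.w]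
    rfl
  have hs : (e.π.app j).appTop s = 0 := by
    simp only [s, map_sum, map_mul, hy, hmap]
    exact hrel
  obtain ⟨m, ψ, hψ⟩ := exists_appTop_map_eq_zero_of_isAffine_of_isLimit E e he j s hs
  have hflat : RingHom.Flat (E.map (ψ ≫ φ)).appTop.hom :=
    (HasRingHomProperty.iff_of_isAffine (P := @Flat)).mp (hf m (ψ ≫ φ))
  let R := Γ(E.obj i, ⊤)
  let A := Γ(E.obj m, ⊤)
  let : Algebra R A := (E.map (ψ ≫ φ)).appTop.hom.toAlgebra
  have : Module.Flat R A := hflat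
  have hrelm : ∑ k, f k • ((E.map ψ).appTop (y k) : A) = 0 := by
    rw [← hψ]
    simp only [s, map_sum, map_mul, Algebra.smul_def]
    refine Finset.sum_congr rfl fun k _ => ?_
    congr 1
    change (E.map (ψ ≫ φ)).appTop (f k) = _
    rw [E.map_comp, Scheme.Hom.comp_appTop]
    rfl
  obtain ⟨r, a, z, hz, ha⟩ := Module.Flat.isTrivialRelation_of_sum_smul_eq_zero (R := R) (M := A) hrelm
  refine ⟨r, a, fun t => (e.π.app m).appTop (z t), fun k => ?_, ha⟩
  have h := congr((e.π.app m).appTop $(hz k))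
  rw [← ConcreteCategory.comp_apply, ← Scheme.Hom.comp_appTop, e.w] at h
  refine (hy k).symm.trans (h.trans ?_)
  rw [map_sum]
  refine Finset.sum_congr rfl fun t _ => ?_
  rw [Algebra.smul_def, Algebra.smul_def, map_mul]
  congr 1
  change (e.π.app m).appTop ((E.map (ψ ≫ φ)).appTop (a k t)) = (e.π.app i).appTop (a k t)
  rw [← ConcreteCategory.comp_apply, ← Scheme.Hom.comp_appTop, e.w]
  rfl

include hc in
/-- S4764: flatness passes to the limit. -/
lemma flat_π {i : I} (hf : ∀ (j : I) (φ : j ⟶ i), Flat (D.map φ)) : Flat (c.π.app i) := by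
  refine (IsZariskiLocalAtSource.iff_of_openCover (P := @Flat)
    (c.pt.openCoverOfIsOpenCover _
      (.comap (iSup_affineOpens_eq_top (D.obj i)) (c.π.app i).base.1))).mpr fun V => ?_
  have (j : Over i) : IsAffine ((opensDiagram D i V.1).obj j) := V.2.preimage _
  have hflat : Flat ((opensCone D c i V.1).π.app (Over.mk (𝟙 i))) := by
    refine flat_of_isAffine _ _ (isLimitOpensCone D c hc i V.1) _ fun j f => ?_
    have : Flat (D.map f.left) := hf j.left f.left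
    dsimp [opensDiagram]
    infer_instance
  have hfac : (opensCone D c i V.1).π.app (Over.mk (𝟙 i)) ≫
      (opensDiagramι D i V.1).app (Over.mk (𝟙 i)) =
      (c.π.app i ⁻¹ᵁ V.1).ι ≫ c.π.app i := by
    simp [opensCone]
  change Flat ((c.π.app i ⁻¹ᵁ V.1).ι ≫ c.π.app i)
  rw [← hfac]
  infer_instance

end Groth.Agent.AffLim

end
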