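import Groth.Agent.AffLim.Constructible
import Groth.Agent.AffLim.Stalks
import Groth.Agent.FpqcDesc.Stalk

/-!
# Properties of cofiltered limits of schemes with affine transition maps

Surjectivity, dominance, openness, connectedness, irreducibility, reducedness, open immersions.
-/

universe u

open CategoryTheory Limits AlgebraicGeometry

noncomputable section

set_option backward.isDefEq.respectTransparency false
set_option backward.defeqAttrib.useBackward true

namespace Groth.Agent.AffLim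

variable {I : Type u} [SmallCategory I] (D : I ⥤ Scheme.{u}) (c : Cone D) (hc : IsLimit c)
  [IsCofiltered I] [∀ {i j} (f : i ⟶ j), IsAffineHom (D.map f)]

include hc in
lemma surjective_π_iff (i : I) :
    Surjective (c.π.app i) ↔ ∀ (j : I) (φ : j ⟶ i), Surjective (D.map φ) := by
  refine ⟨fun h j φ => ⟨fun x => ?_⟩, fun h => ⟨fun x => ?_⟩⟩
  · obtain ⟨y, rfl⟩ := h.surj x
    exact ⟨c.π.app j y, congr($(c.w φ) y)⟩
  · change x ∈ Set.range (c.π.app i)
    rw [range_π D c hc i]
    exact Set.mem_iInter₂.mpr fun j φ => (h j φ).surj x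

omit [IsCofiltered I] [∀ {i j} (f : i ⟶ j), IsAffineHom (D.map f)] in
lemma isDominant_map {i j : I} (φ : j ⟶ i) (h : IsDominant (c.π.app i)) :
    IsDominant (D.map φ) := by
  refine ⟨h.denseRange.mono ?_⟩
  rw [← c.w φ]
  rintro _ ⟨y, rfl⟩
  exact ⟨c.π.app j y, rfl⟩

include hc in
lemma isDominant_π_iff (i : I) :
    IsDominant (c.π.app i) ↔ ∀ (j : I) (φ : j ⟶ i), IsDominant (D.map φ) := by
  refine ⟨fun h j φ => isDominant_map D c φ h, fun h => ⟨?_⟩⟩
  rw [DenseRange, dense_iff_inter_open]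
  intro U hU hne
  obtain ⟨x, hx⟩ := hne
  obtain ⟨_, ⟨V, hV : IsAffineOpen V, rfl⟩, hxV, hVU⟩ :=
    (D.obj i).isBasis_affineOpens.exists_subset_of_mem_open hx hU
  have (j : Over i) : IsAffine ((opensDiagram D i V).obj j) := hV.preimage _
  have (j : Over i) : CompactSpace ((opensDiagram D i V).obj j) := inferInstance
  have (j : Over i) : Nonempty ((opensDiagram D i V).obj j) := by
    obtain ⟨_, hy, y, rfl⟩ := (h j.left j.hom).denseRange.inter_open_nonempty _ V.isOpen ⟨x, hxV⟩
    exact ⟨⟨y, hy⟩⟩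
  obtain ⟨z⟩ := Scheme.nonempty_of_isLimit (opensDiagram D i V) _ (isLimitOpensCone D c hc i V)
  exact ⟨c.π.app i z.1, hVU z.2, z.1, rfl⟩

include hc in
lemma isOpenMap_π_comp {i : I} (hs : ∀ (j : I) (_ : j ⟶ i), Surjective (c.π.app j))
    {T : Scheme.{u}} (g : D.obj i ⟶ T) (h : ∀ (j : I) (φ : j ⟶ i), IsOpenMap (D.map φ ≫ g)) :
    IsOpenMap (c.π.app i ≫ g) := by
  intro U hU
  rw [isOpen_iff_forall_mem_open]
  rintro _ ⟨x, hx, rfl⟩
  obtain ⟨k, V, -, hxV, hVU⟩ := exists_affine_preimage_subset D c hc hU hx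
  obtain ⟨j, p, q, -⟩ := IsCofilteredOrEmpty.cone_objs i k
  refine ⟨(D.map p ≫ g) '' (D.map q ⁻¹' (V : Set (D.obj k))), ?_,
    h j p _ (V.isOpen.preimage (D.map q).continuous), c.π.app j x, ?_, ?_⟩
  · rintro _ ⟨y, hy, rfl⟩
    obtain ⟨z, rfl⟩ := (hs j p).surj y
    refine ⟨z, hVU ?_, ?_⟩
    · rw [← preimage_π_map D c q]; exact hy
    · change (c.π.app i ≫ g) z = (c.π.app j ≫ D.map p ≫ g) z
      rw [c.w_assoc]
      rfl
  · rw [← Set.mem_preimage, preimage_π_map D c q]; exact hxV
  · change (c.π.app j ≫ D.map p ≫ g) x = (c.π.app i ≫ g) x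
    rw [c.w_assoc]
    rfl

include hc in
lemma isOpenMap_π_iff {i : I} (hs : ∀ (j : I) (_ : j ⟶ i), Surjective (c.π.app j)) :
    IsOpenMap (c.π.app i) ↔ ∀ (j : I) (φ : j ⟶ i), IsOpenMap (D.map φ) := by
  constructor
  · intro h j φ U hU
    have : D.map φ '' U = c.π.app i '' (c.π.app j ⁻¹' U) := by
      rw [← c.w φ, Scheme.Hom.comp_base, TopCat.coe_comp, Set.image_comp]
      erw [Set.image_preimage_eq U (hs j φ).surj]
    rw [this]
    exact h _ (hU.preimage (c.π.app j).continuous)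
  · intro h
    simpa using isOpenMap_π_comp D c hc hs (𝟙 _) (by simpa using h)

include hc in
lemma universallyOpen_π_iff {i : I} (hs : ∀ (j : I) (_ : j ⟶ i), Surjective (c.π.app j)) :
    UniversallyOpen (c.π.app i) ↔ ∀ (j : I) (φ : j ⟶ i), UniversallyOpen (D.map φ) := by
  constructor
  · intro h j φ
    refine ⟨fun T₁ T₂ b a f' hsq => ?_⟩
    -- base change of the surjection `π j` over the square
    have := hs j φ
    have hsq' : IsPullback (pullback.fst (c.π.app j) b) (pullback.snd (c.π.app j) b ≫ f')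
        (c.π.app i) a := by
      rw [← c.w φ]
      exact (IsPullback.of_hasPullback (c.π.app j) b).paste_vert hsq.flip
    have ho : IsOpenMap (pullback.snd (c.π.app j) b ≫ f') :=
      h.universally_isOpenMap _ _ _ hsq'.flip
    intro U hU
    have hsurj : Function.Surjective (pullback.snd (c.π.app j) b) :=
      (inferInstance : Surjective (pullback.snd (c.π.app j) b)).surj
    have : f' '' U = (pullback.snd (c.π.app j) b ≫ f') '' (pullback.snd (c.π.app j) b ⁻¹' U) := by
      rw [Scheme.Hom.comp_base, TopCat.coe_comp, Set.image_comp,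
        Set.image_preimage_eq U hsurj]
    rw [this]
    exact ho _ (hU.preimage (pullback.snd (c.π.app j) b).continuous)
  · intro h
    refine ⟨fun T₁ T b a f' hsq => ?_⟩
    have hopen : IsOpenMap (pullback.fst a (c.π.app i)) := by
      let E := baseChange D i a
      let e := baseChangeCone D c i a
      have hfac : e.π.app (Over.mk (𝟙 i)) ≫ pullback.fst a (D.map (𝟙 i)) =
          pullback.fst a (c.π.app i) := by
        simp [e, pullback.map]
      rw [← hfac]
      refine isOpenMap_π_comp E e (nonempty_isLimit_baseChangeCone D c hc i a).some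
        (i := Over.mk (𝟙 i)) (fun j _ => ?_) (T := T) (pullback.fst a (D.map (𝟙 i))) (fun j f => ?_)
      · have hpb : IsPullback (e.π.app j) (pullback.snd a (c.π.app i))
            (pullback.snd a (D.map j.hom)) (c.π.app j.left) := by
          refine IsPullback.of_bot ?_ (by simp [e, pullback.map])
            (IsPullback.of_hasPullback a (D.map j.hom)).flip |>.flip
          simpa [e, pullback.map] using (IsPullback.of_hasPullback a (c.π.app i)).flip
        exact MorphismProperty.of_isPullback (P := @Surjective) hpb.flip (hs j.left j.hom)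
      · have hfac' : E.map f ≫ pullback.fst a (D.map (𝟙 i)) = pullback.fst a (D.map j.hom) := by
          simp [E, pullback.map]
        rw [hfac']
        exact (h j.left j.hom).universally_isOpenMap _ _ _
          (IsPullback.of_hasPullback a (D.map j.hom))
    have : f' = (hsq.isoPullback).hom ≫ pullback.fst a (c.π.app i) :=
      (hsq.isoPullback_hom_fst).symm
    rw [this]
    exact hopen.comp hsq.isoPullback.hom.homeomorph.isOpenMap

include hc in
/-- S4768 -/
lemma exists_not_preconnectedSpace (i₀ : I) [CompactSpace (D.obj i₀)]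
    [QuasiSeparatedSpace (D.obj i₀)] (h : ¬ PreconnectedSpace c.pt) :
    ∃ (i : I) (_ : i ⟶ i₀), ∀ (j : I) (_ : j ⟶ i), ¬ PreconnectedSpace (D.obj j) := by
  have := isAffineHom_π_app D c hc i₀
  have : CompactSpace c.pt := QuasiCompact.compactSpace_of_compactSpace (c.π.app i₀)
  obtain ⟨C, hC, hne, hne'⟩ : ∃ C : Set c.pt, IsClopen C ∧ C ≠ ∅ ∧ C ≠ Set.univ := by
    rw [preconnectedSpace_iff_clopen] at h
    push Not at h
    obtain ⟨C, hC, h1, h2⟩ := h
    exact ⟨C, hC, h1.ne_empty, h2⟩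
  have : QuasiSeparatedSpace c.pt := quasiSeparatedSpace_of_quasiSeparated (c.π.app i₀)
  obtain ⟨k, p, Z, hZ, hZC⟩ :=
    exists_isConstructible_preimage_eq D c hc i₀
      (hC.isClosed.isCompact.isConstructible hC.isOpen (X := c.pt))
  have : CompactSpace (D.obj k) := QuasiCompact.compactSpace_of_compactSpace (D.map p)
  obtain ⟨l, q, hl⟩ := exists_isOpen_preimage D c hc hZ (hZC ▸ hC.isOpen)
  obtain ⟨m, r, hm⟩ := exists_isOpen_preimage D c hc hZ.compl
    (by rw [Set.preimage_compl, hZC]; exact hC.isClosed.isOpen_compl)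
  obtain ⟨n, a, b, e⟩ := IsCofiltered.cospan q r
  refine ⟨n, (a ≫ q) ≫ p, fun j f hpre => ?_⟩
  have hclopen : IsClopen (D.map (f ≫ a ≫ q) ⁻¹' Z) := by
    refine ⟨?_, ?_⟩
    · rw [e, ← isOpen_compl_iff, ← Set.preimage_compl, ← Category.assoc, ← preimage_map_map]
      exact hm.preimage (D.map _).continuous
    · rw [← Category.assoc, ← preimage_map_map]
      exact hl.preimage (D.map _).continuous
  rcases isClopen_iff.mp hclopen with h0 | h1
  · refine hne ?_
    rw [← hZC, ← preimage_π_map D c (f ≫ a ≫ q), h0, Set.preimage_empty]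
  · refine hne' ?_
    rw [← hZC, ← preimage_π_map D c (f ≫ a ≫ q), h1, Set.preimage_univ]

include hc in
/-- S4767 -/
lemma exists_not_irreducibleSpace (i₀ : I) [CompactSpace (D.obj i₀)]
    [QuasiSeparatedSpace (D.obj i₀)] [TopologicalSpace.NoetherianSpace c.pt]
    (h : ¬ IrreducibleSpace c.pt) :
    ∃ (i : I) (_ : i ⟶ i₀), ∀ (j : I) (_ : j ⟶ i), ¬ IrreducibleSpace (D.obj j) := by
  rcases isEmpty_or_nonempty c.pt with hemp | hne
  · obtain ⟨j, φ, hj⟩ := exists_map_preimage_le_map_preimage D c hc (i := i₀) (U := ⊤) (V := ⊥)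
      isCompact_univ (fun x _ => hemp.elim x)
    refine ⟨j, φ, fun k f hk => ?_⟩
    obtain ⟨y⟩ := hk.toNonempty
    exact hj (x := D.map f y) trivial
  obtain ⟨U, V, hU, hV, hUne, hVne, hUV⟩ : ∃ U V : Set c.pt, IsOpen U ∧ IsOpen V ∧ U.Nonempty ∧
      V.Nonempty ∧ U ∩ V = ∅ := by
    by_contra! H
    exact h { toNonempty := hne
              isPreirreducible_univ := fun u v hu hv hu' hv' => by
                rw [Set.univ_inter] at hu' hv' ⊢
                exact H u v hu hv hu' hv' }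
  obtain ⟨k, V₁, hV₁, hk⟩ :=
    exists_preimage_eq D c hc ⟨U, hU⟩ (TopologicalSpace.NoetherianSpace.isCompact U)
  obtain ⟨k', V₂, hV₂, hk'⟩ :=
    exists_preimage_eq D c hc ⟨V, hV⟩ (TopologicalSpace.NoetherianSpace.isCompact V)
  obtain ⟨l, p, q, -⟩ := IsCofilteredOrEmpty.cone_objs k k'
  obtain ⟨m, r, s, -⟩ := IsCofilteredOrEmpty.cone_objs l i₀
  have : QuasiSeparatedSpace (D.obj m) := quasiSeparatedSpace_of_quasiSeparated (D.map s)
  have hk1 : c.π.app k ⁻¹' (V₁ : Set _) = U := congrArg SetLike.coe hk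
  have hk2 : c.π.app k' ⁻¹' (V₂ : Set _) = V := congrArg SetLike.coe hk'
  let O₁ := D.map (r ≫ p) ⁻¹ᵁ V₁
  let O₂ := D.map (r ≫ q) ⁻¹ᵁ V₂
  have hO₁ : c.π.app m ⁻¹' (O₁ : Set _) = U := (preimage_π_map D c (r ≫ p) _).trans hk1
  have hO₂ : c.π.app m ⁻¹' (O₂ : Set _) = V := (preimage_π_map D c (r ≫ q) _).trans hk2
  have hcpt : IsCompact ((O₁ ⊓ O₂ : (D.obj m).Opens) : Set (D.obj m)) :=
    (QuasiCompact.isCompact_preimage (f := D.map (r ≫ p)) _ V₁.2 hV₁).inter_of_isOpen
      (QuasiCompact.isCompact_preimage (f := D.map (r ≫ q)) _ V₂.2 hV₂) O₁.2 O₂.2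
  obtain ⟨n, φ, hn⟩ := exists_map_preimage_le_map_preimage D c hc (V := ⊥) hcpt (fun x hx => by
    have : x ∈ U ∩ V := ⟨hO₁.le hx.1, hO₂.le hx.2⟩
    rw [hUV] at this
    exact this.elim)
  refine ⟨n, φ ≫ s, fun j f hj => ?_⟩
  obtain ⟨x, hx⟩ := hUne
  obtain ⟨y, hy⟩ := hVne
  obtain ⟨z, hz⟩ := nonempty_preirreducible_inter (X := D.obj j)
    (O₁.2.preimage (D.map (f ≫ φ)).continuous) (O₂.2.preimage (D.map (f ≫ φ)).continuous)
    ⟨c.π.app j x, by
      rw [← Set.mem_preimage, preimage_π_map D c (f ≫ φ)]; exact hO₁.ge hx⟩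
    ⟨c.π.app j y, by
      rw [← Set.mem_preimage, preimage_π_map D c (f ≫ φ)]; exact hO₂.ge hy⟩
  rw [D.map_comp] at hz
  exact hn (x := D.map f z) hz

omit [IsCofiltered I] [∀ {i j} (f : i ⟶ j), IsAffineHom (D.map f)] in
lemma preimage_eq_empty_of_isDominant {i : I} (hd : IsDominant (c.π.app i)) {U : Set (D.obj i)}
    (hU : IsOpen U) (h : c.π.app i ⁻¹' U = ∅) : U = ∅ := by
  by_contra hne
  obtain ⟨_, hy, y, rfl⟩ :=
    hd.denseRange.inter_open_nonempty U hU (Set.nonempty_iff_ne_empty.mpr hne)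
  exact Set.notMem_empty y (h ▸ hy)

include hc in
/-- S4771 (no noetherian hypothesis is needed). -/
lemma irreducibleSpace_iff (i₀ : I) [CompactSpace (D.obj i₀)]
    (hd : ∀ (i j : I) (φ : i ⟶ j), IsDominant (D.map φ)) :
    IrreducibleSpace c.pt ↔
      ∃ (i : I) (_ : i ⟶ i₀), ∀ (j : I) (_ : j ⟶ i), IrreducibleSpace (D.obj j) := by
  have hdπ : ∀ j, IsDominant (c.π.app j) := fun j =>
    (isDominant_π_iff D c hc j).mpr fun k φ => hd k j φ
  constructor
  · intro h
    refine ⟨i₀, 𝟙 _, fun j _ => ?_⟩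
    have h1 := ((IrreducibleSpace.isIrreducible_univ c.pt).image (c.π.app j)
      (c.π.app j).continuous.continuousOn).closure
    rw [Set.image_univ, (hdπ j).denseRange.closure_range] at h1
    exact (irreducibleSpace_def _).mpr h1
  · rintro ⟨i, hi, hir⟩
    have : CompactSpace (D.obj i) := QuasiCompact.compactSpace_of_compactSpace (D.map hi)
    have hne : Nonempty c.pt := by
      obtain ⟨y⟩ := (hir i (𝟙 i)).toNonempty
      obtain ⟨_, -, x, rfl⟩ := (hdπ i).denseRange.inter_open_nonempty _ isOpen_univ ⟨y, trivial⟩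
      exact ⟨x⟩
    refine { toNonempty := hne, isPreirreducible_univ := ?_ }
    rintro U V hU hV ⟨x, -, hx⟩ ⟨y, -, hy⟩
    rw [Set.univ_inter]
    obtain ⟨k, V₁, -, hxV, hV₁⟩ := exists_affine_preimage_subset D c hc hU hx
    obtain ⟨k', V₂, -, hyV, hV₂⟩ := exists_affine_preimage_subset D c hc hV hy
    obtain ⟨l, p, q, -⟩ := IsCofilteredOrEmpty.cone_objs k k'
    obtain ⟨m, r, s, -⟩ := IsCofilteredOrEmpty.cone_objs l i
    have := hir m s
    obtain ⟨_, ⟨h1, h2⟩, z, rfl⟩ := (hdπ m).denseRange.inter_open_nonempty _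
      ((V₁.2.preimage (D.map (r ≫ p)).continuous).inter
        (V₂.2.preimage (D.map (r ≫ q)).continuous))
      (nonempty_preirreducible_inter (X := D.obj m)
        (V₁.2.preimage (D.map (r ≫ p)).continuous) (V₂.2.preimage (D.map (r ≫ q)).continuous)
        ⟨c.π.app m x, by rw [← Set.mem_preimage, preimage_π_map]; exact hxV⟩
        ⟨c.π.app m y, by rw [← Set.mem_preimage, preimage_π_map]; exact hyV⟩)
    refine ⟨z, hV₁ ?_, hV₂ ?_⟩
    · rw [← preimage_π_map D c (r ≫ p)]; exact h1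
    · rw [← preimage_π_map D c (r ≫ q)]; exact h2

include hc in
/-- S4772 -/
lemma connectedSpace_iff (i₀ : I) [CompactSpace (D.obj i₀)]
    (hd : ∀ (i j : I) (φ : i ⟶ j), IsDominant (D.map φ)) :
    ConnectedSpace c.pt ↔
      ∃ (i : I) (_ : i ⟶ i₀), ∀ (j : I) (_ : j ⟶ i), ConnectedSpace (D.obj j) := by
  have hdπ : ∀ j, IsDominant (c.π.app j) := fun j =>
    (isDominant_π_iff D c hc j).mpr fun k φ => hd k j φ
  constructor
  · intro h
    refine ⟨i₀, 𝟙 _, fun j _ => ?_⟩
    rw [connectedSpace_iff_univ]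
    have := ((isConnected_univ (α := c.pt)).image (c.π.app j)
      (c.π.app j).continuous.continuousOn).closure
    rwa [Set.image_univ, (hdπ j).denseRange.closure_range] at this
  · rintro ⟨i, hi, hir⟩
    have : CompactSpace (D.obj i) := QuasiCompact.compactSpace_of_compactSpace (D.map hi)
    have := isAffineHom_π_app D c hc i
    have : CompactSpace c.pt := QuasiCompact.compactSpace_of_compactSpace (c.π.app i)
    have hne : Nonempty c.pt := by
      obtain ⟨y⟩ := (hir i (𝟙 i)).toNonempty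
      obtain ⟨_, -, x, rfl⟩ := (hdπ i).denseRange.inter_open_nonempty _ isOpen_univ ⟨y, trivial⟩
      exact ⟨x⟩
    refine { toNonempty := hne, toPreconnectedSpace := preconnectedSpace_iff_clopen.mpr ?_ }
    intro C hC
    by_contra! hCne
    obtain ⟨k, V₁, hV₁, hk⟩ := exists_preimage_eq D c hc ⟨C, hC.isOpen⟩ hC.isClosed.isCompact
    obtain ⟨k', V₂, hV₂, hk'⟩ := exists_preimage_eq D c hc ⟨Cᶜ, hC.isClosed.isOpen_compl⟩
      hC.isOpen.isClosed_compl.isCompact
    have hk1 : c.π.app k ⁻¹' (V₁ : Set _) = C := congrArg SetLike.coe hk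
    have hk2 : c.π.app k' ⁻¹' (V₂ : Set _) = Cᶜ := congrArg SetLike.coe hk'
    obtain ⟨l, p, q, -⟩ := IsCofilteredOrEmpty.cone_objs k k'
    obtain ⟨m, r, s, -⟩ := IsCofilteredOrEmpty.cone_objs l i
    have : CompactSpace (D.obj m) := QuasiCompact.compactSpace_of_compactSpace (D.map s)
    let O₁ := D.map (r ≫ p) ⁻¹ᵁ V₁
    let O₂ := D.map (r ≫ q) ⁻¹ᵁ V₂
    have hO₁ : c.π.app m ⁻¹' (O₁ : Set _) = C := (preimage_π_map D c (r ≫ p) _).trans hk1
    have hO₂ : c.π.app m ⁻¹' (O₂ : Set _) = Cᶜ := (preimage_π_map D c (r ≫ q) _).trans hk2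
    obtain ⟨n, φ, hn⟩ := exists_map_preimage_le_map_preimage D c hc (U := ⊤) (V := O₁ ⊔ O₂)
      isCompact_univ (fun x _ => by
        by_cases hxC : x ∈ C
        · exact Or.inl (hO₁.ge hxC)
        · exact Or.inr (hO₂.ge hxC))
    have := hir n (φ ≫ s)
    have hdisj : (O₁ : Set (D.obj m)) ∩ O₂ = ∅ :=
      preimage_eq_empty_of_isDominant D c (hdπ m) (O₁.2.inter O₂.2)
        (by rw [Set.preimage_inter, hO₁, hO₂, Set.inter_compl_self])
    have hclopen : IsClopen (D.map φ ⁻¹' (O₁ : Set (D.obj m))) := by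
      refine ⟨?_, O₁.2.preimage (D.map φ).continuous⟩
      have : (D.map φ ⁻¹' (O₁ : Set (D.obj m)))ᶜ = D.map φ ⁻¹' (O₂ : Set (D.obj m)) := by
        ext z
        constructor
        · exact fun hz => (hn (x := z) trivial).resolve_left hz
        · exact fun hz hz' => Set.notMem_empty (D.map φ z) (hdisj ▸ ⟨hz', hz⟩)
      rw [← isOpen_compl_iff, this]
      exact O₂.2.preimage (D.map φ).continuous
    rcases isClopen_iff.mp hclopen with h0 | h1
    · refine hCne.1.ne_empty ?_
      rw [← hO₁, ← preimage_π_map D c φ, h0, Set.preimage_empty]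
    · refine hCne.2 ?_
      rw [← hO₁, ← preimage_π_map D c φ, h1, Set.preimage_univ]

include hc in
/-- S4774 -/
lemma exists_not_isReduced (h : ¬ IsReduced c.pt) :
    ∃ (i : I), ∀ (j : I) (_ : j ⟶ i), ¬ IsReduced (D.obj j) := by
  by_contra! H
  exact h (isReduced_of_forall_exists D c hc H)

include hc in
/-- S4775 -/
lemma isReduced_iff (hf : ∀ (i j : I) (φ : i ⟶ j), Flat (D.map φ) ∧ Surjective (D.map φ)) :
    IsReduced c.pt ↔ ∀ i, IsReduced (D.obj i) := by
  refine ⟨fun h i => ?_, fun h => isReduced_of_forall_exists D c hc fun i => ⟨i, 𝟙 i, h i⟩⟩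
  have := flat_π D c hc (i := i) fun j φ => (hf j i φ).1
  have := (surjective_π_iff D c hc i).mpr fun j φ => (hf j i φ).2
  have : IsReduced (((Functor.const I).obj c.pt).obj i) := h
  exact FlatDescStalk.isReduced_of_flat_surjective (c.π.app i)

include hc in
/-- S4785 -/
lemma isEmbedding_π_and_isIso_stalkMap
    (hoi : ∀ (i j : I) (φ : i ⟶ j), IsOpenImmersion (D.map φ)) (i : I) :
    Topology.IsEmbedding (c.π.app i) ∧ ∀ s : c.pt, IsIso ((c.π.app i).stalkMap s) := by
  have hπ : ∀ {j k : I} (f : j ⟶ k) (x : c.pt), D.map f (c.π.app j x) = c.π.app k x :=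
    fun f x => congr($(c.w f) x)
  have hinj : Function.Injective (c.π.app i) := by
    intro x y hxy
    refine eq_of_π_eq D c hc fun j => ?_
    obtain ⟨k, p, q, -⟩ := IsCofilteredOrEmpty.cone_objs i j
    have := hoi k i p
    have hk : c.π.app k x = c.π.app k y := (D.map p).injective (by rw [hπ, hπ, hxy])
    rw [← hπ q x, ← hπ q y, hk]
  constructor
  · refine ⟨⟨le_antisymm (continuous_iff_le_induced.mp (c.π.app i).continuous) ?_⟩, hinj⟩
    intro U hU
    refine (@isOpen_iff_forall_mem_open _ (TopologicalSpace.induced (c.π.app i) inferInstance) U).mpr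
      fun x hx => ?_
    obtain ⟨j, V, -, hxV, hVU⟩ := exists_affine_preimage_subset D c hc hU hx
    obtain ⟨k, p, q, -⟩ := IsCofilteredOrEmpty.cone_objs i j
    have := hoi k i p
    refine ⟨c.π.app i ⁻¹' (D.map p '' (D.map q ⁻¹' (V : Set (D.obj j)))), ?_,
      isOpen_induced ((D.map p).isOpenEmbedding.isOpenMap _
        (V.isOpen.preimage (D.map q).continuous)), ?_⟩
    · rintro z ⟨w, hw, hwz⟩
      refine hVU ?_
      have : w = c.π.app k z := (D.map p).injective (by rw [hπ, hwz])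
      subst this
      change c.π.app j z ∈ V
      rw [← hπ q z]
      exact hw
    · refine ⟨c.π.app k x, ?_, hπ p x⟩
      change D.map q (c.π.app k x) ∈ V
      rw [hπ]
      exact hxV
  · intro s
    rw [ConcreteCategory.isIso_iff_bijective]
    constructor
    · rw [injective_iff_map_eq_zero]
      intro b hb
      obtain ⟨U, hx, t, rfl⟩ := (D.obj i).presheaf.exists_germ_eq b
      rw [Scheme.Hom.germ_stalkMap_apply] at hb
      obtain ⟨j, φ, W, e, hxW, hW⟩ := exists_appLE_eq_zero D c hc s hx t hb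
      have := hoi j i φ
      -- restrict `t` to the open `φ W`
      have hle : D.map φ ''ᵁ W ≤ U := by
        rintro _ ⟨w, hw, rfl⟩
        exact e hw
      have hxi : c.π.app i s ∈ D.map φ ''ᵁ W := ⟨c.π.app j s, hxW, hπ φ s⟩
      have hz : (D.obj i).presheaf.map (homOfLE hle).op t = 0 := by
        have key : (D.map φ).appLE U W e = (D.obj i).presheaf.map (homOfLE hle).op ≫
            ((D.map φ).appIso W).hom := by
          rw [Scheme.Hom.appIso_hom']
          simp
        have hW' := congr($key t).symm.trans hW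
        have := congr(((D.map φ).appIso W).inv $hW')
        simpa using this
      rw [← (D.obj i).presheaf.germ_res_apply (homOfLE hle) _ hxi t, hz, map_zero]
    · intro a
      obtain ⟨j, b, rfl⟩ := exists_stalkMap_eq D c hc s a
      obtain ⟨U, hx, t, rfl⟩ := (D.obj j).presheaf.exists_germ_eq b
      obtain ⟨k, p, q, -⟩ := IsCofilteredOrEmpty.cone_objs i j
      have := hoi k i p
      let W := D.map q ⁻¹ᵁ U
      have hxW : c.π.app k s ∈ W := by change D.map q (c.π.app k s) ∈ U; rw [hπ]; exact hx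
      have hxi : c.π.app i s ∈ D.map p ''ᵁ W := ⟨c.π.app k s, hxW, hπ p s⟩
      refine ⟨(D.obj i).presheaf.germ (D.map p ''ᵁ W) _ hxi
        (((D.map p).appIso W).inv ((D.map q).app U t)), ?_⟩
      rw [Scheme.Hom.germ_stalkMap_apply, Scheme.Hom.germ_stalkMap_apply]
      have e : W ≤ D.map p ⁻¹ᵁ (D.map p ''ᵁ W) := (D.map p).preimage_image_eq W |>.ge
      have hle1 : c.π.app k ⁻¹ᵁ W ≤ c.π.app i ⁻¹ᵁ (D.map p ''ᵁ W) :=
        fun z hz => ⟨c.π.app k z, hz, hπ p z⟩
      have hle2 : c.π.app k ⁻¹ᵁ W ≤ c.π.app j ⁻¹ᵁ U := fun z hz => by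
        change c.π.app j z ∈ U; rw [← hπ q z]; exact hz
      refine ((c.pt.presheaf.germ_res_apply (homOfLE hle1) s hxW _).symm.trans ?_).trans
        (c.pt.presheaf.germ_res_apply (homOfLE hle2) s hxW _)
      congr 1
      rw [← app_π_appLE D c p e hle1, ← app_π_appLE D c q le_rfl hle2]
      congr 1
      have h3 : (D.map p).appLE (D.map p ''ᵁ W) W e = ((D.map p).appIso W).hom := by
        rw [Scheme.Hom.appIso_hom']
      rw [h3, Iso.inv_hom_id_apply, Scheme.Hom.app_eq_appLE]

end Groth.Agent.AffLim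

end
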